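import Cfsg.Agent.Lib.FpfLinear.Basic
import Cfsg.Agent.Lib.Spectrum.FPFRep
import Cfsg.Agent.Lib.Frobenius.Complement
import Cfsg.Agent.Lib.Induced.FrobeniusKernel

/-!
# From fixed-point-free actions to fixed-point-free linear groups in characteristic zero
-/

set_option linter.unusedSectionVars false

namespace Cfsg.Agent.Lib.FpfLinear.Linearize

open Cfsg Cfsg.Agent.Lib.FpfLinear.Basic
open scoped Pointwise

universe u

/-- The algebraic closure of the rationals. -/
abbrev QBar := AlgebraicClosure ℚ

/-- `G` has a fixed-point-free linear representation over an algebraically closed field. -/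
def HasLinFPF (G : Type*) [Group G] : Prop :=
  ∃ n : ℕ, 0 < n ∧ ∃ R : G →* Module.End QBar (Fin n → QBar), IsLinFPF R

variable {G : Type*} [Group G] [Finite G]

theorem of_abelian {V : Type*} [CommGroup V] [Finite V] [Nontrivial V] (ρ : G →* MulAut V)
    (hρ : Cfsg.Agent.Lib.Frobenius.IsFPF ρ) : HasLinFPF G := by
  obtain ⟨n, r, hn, -, -, hr⟩ := Cfsg.Agent.Lib.Spectrum.FPFRep.exists_irreducible QBar ρ hρ
  refine ⟨n, hn, (Matrix.toLinAlgEquiv'.toMulEquiv.toMonoidHom.comp (Units.coeHom _)).comp r, ?_⟩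
  intro g hg v hv
  refine hr g hg v ?_
  simpa using hv

theorem of_complement (h : ∃ (L : Type) (_ : Group L) (_ : Finite L) (H : Subgroup L),
    Cfsg.IsFrobeniusComplement H ∧ Nonempty (G ≃* H)) : HasLinFPF G := by
  obtain ⟨L, _, _, H, hH, ⟨e⟩⟩ := h
  obtain ⟨K, hK, -, hc⟩ := Cfsg.Agent.Lib.Induced.FrobeniusKernel.exists_frobeniusKernel_subgroup hH
  obtain ⟨V, _, _, _, ρ, hρ⟩ := Cfsg.Agent.Lib.Frobenius.exists_isFPF_complement hH hc
  exact of_abelian (ρ.comp e.toMonoidHom) fun g hg v hv => hρ (e g) (by simpa using hg) v hv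

/-- A group of fixed-point-free automorphisms. -/
theorem of_mulAut {K : Type u} [Group K] [Finite K] (A : Subgroup (MulAut K))
    (hfpf : ∀ φ ∈ A, φ ≠ 1 → ∀ k : K, φ k = k → k = 1) (hne : A ≠ ⊥) : HasLinFPF A := by
  have hK : Nontrivial K := by
    by_contra h
    rw [not_nontrivial_iff_subsingleton] at h
    exact hne ((Subgroup.eq_bot_iff_forall A).mpr fun φ _ =>
      MulEquiv.ext fun k => Subsingleton.elim _ _)
  let L := K ⋊[A.subtype] A
  have : Finite L := Finite.of_equiv _ SemidirectProduct.equivProd.symm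
  set H : Subgroup L := (SemidirectProduct.inr : A →* L).range
  set N : Subgroup L := (SemidirectProduct.inl : K →* L).range
  have hNn : N.Normal := by
    rw [show N = SemidirectProduct.rightHom.ker from SemidirectProduct.range_inl_eq_ker_rightHom]
    infer_instance
  have hcomp : Subgroup.IsComplement' N H := by
    refine Subgroup.isComplement'_of_disjoint_and_mul_eq_univ ?_ ?_
    · rw [Subgroup.disjoint_def]
      rintro x ⟨k, rfl⟩ ⟨a, ha⟩
      have h1 : k = 1 := by simpa using (congrArg SemidirectProduct.left ha).symm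
      rw [h1, map_one]
    · refine Set.eq_univ_of_forall fun x => ⟨_, ⟨x.left, rfl⟩, _, ⟨x.right, rfl⟩, ?_⟩
      exact SemidirectProduct.inl_left_mul_inr_right x
  obtain ⟨φ, hφ, hφ1⟩ := A.bot_or_exists_ne_one.resolve_left hne
  have hH : Cfsg.IsFrobeniusComplement H := by
    refine ⟨?_, ?_, ?_⟩
    · intro h
      have hm : (SemidirectProduct.inr : A →* L) ⟨φ, hφ⟩ ∈ H := ⟨_, rfl⟩
      rw [h, Subgroup.mem_bot] at hm
      exact hφ1 (congrArg Subtype.val (SemidirectProduct.inr_injective (hm.trans (map_one _).symm)))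
    · intro h
      obtain ⟨k, hk⟩ := exists_ne (1 : K)
      obtain ⟨a, ha⟩ : (SemidirectProduct.inl : K →* L) k ∈ H := h ▸ Subgroup.mem_top _
      exact hk (by simpa using (congrArg SemidirectProduct.left ha).symm)
    · intro g hg
      rw [Subgroup.eq_bot_iff_forall]
      rintro x ⟨⟨a, rfl⟩, hx⟩
      obtain ⟨y, ⟨b, rfl⟩, hb⟩ := hx
      have hk : g.left ≠ 1 := fun h => hg ⟨g.right, by
        conv_rhs => rw [← SemidirectProduct.inl_left_mul_inr_right g, h, map_one, one_mul]⟩
      have hb' : g * SemidirectProduct.inr b * g⁻¹ = SemidirectProduct.inr a := hb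
      have hl := congrArg SemidirectProduct.left (mul_inv_eq_iff_eq_mul.mp hb')
      have hl' : g.left * (g.right : MulAut K) 1 = 1 * (a : MulAut K) g.left := hl
      have hfix : (a : MulAut K) g.left = g.left := by
        rw [map_one, mul_one, one_mul] at hl'
        exact hl'.symm
      by_contra hne'
      exact hk (hfpf a a.2 (fun h => hne' (by rw [show a = 1 from Subtype.ext h, map_one])) _ hfix)
  obtain ⟨V, _, _, _, ρ, hρ⟩ := Cfsg.Agent.Lib.Frobenius.exists_isFPF_complement hH hcomp
  have e := MonoidHom.ofInjective (f := (SemidirectProduct.inr : A →* L)) SemidirectProduct.inr_injective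
  exact of_abelian (ρ.comp e.toMonoidHom) fun g hg v hv => hρ (e g) (by simpa using hg) v hv

end Cfsg.Agent.Lib.FpfLinear.Linearize
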