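import Cfsg.Agent.Lib.FpfLinear.Perfect

/-!
# Nonsolvable fixed-point-free linear groups

Such a group has a normal subgroup `SL(2,5) × M` of index at most two, `M` of order prime to `30`
with cyclic Sylow subgroups.
-/

set_option linter.unusedSectionVars false

namespace Cfsg.Agent.Lib.FpfLinear.NonSolvable

open Cfsg.Agent.Lib.FpfLinear.Basic Cfsg.Agent.Lib.FpfLinear.Model Cfsg.Agent.Lib.FpfLinear.Hom
  Cfsg.Agent.Lib.FpfLinear.Geometry Cfsg.Agent.Lib.FpfLinear.Perfect Module

set_option synthInstance.maxSize 2048 in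
theorem center_quad : ∀ a b c d : ZMod 5, qdet (a, b, c, d) = 1 →
    qm (gen false) (a, b, c, d) = qm (a, b, c, d) (gen false) →
    qm (gen true) (a, b, c, d) = qm (a, b, c, d) (gen true) →
    (a, b, c, d) = qI ∨ (a, b, c, d) = qN := by decide +kernel

theorem five_four : ∃ j v : Quad, qdet j = 1 ∧ sq2 j = qN ∧ qdet v = 1 ∧ p5 v = qI ∧ v ≠ qI :=
  ⟨(0, 4, 1, 0), (1, 1, 0, 1), by decide +kernel, by decide +kernel, by decide +kernel,
    by decide +kernel, by decide +kernel⟩

theorem eq_one_or_N {g : SL} (hX : sX * g = g * sX) (hY : sY * g = g * sY) : g = 1 ∨ g = sN := by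
  have h1 := congrArg quad hX
  have h2 := congrArg quad hY
  rw [quad_mul, quad_mul, sX, quad_ofQuad] at h1
  rw [quad_mul, quad_mul, sY, quad_ofQuad] at h2
  rcases center_quad _ _ _ _ (quad_det g) h1 h2 with h | h
  · exact Or.inl (quad_injective (h.trans quad_one.symm))
  · exact Or.inr (quad_injective (h.trans (quad_ofQuad qN (by decide)).symm))

theorem sN_sq : sN ^ 2 = 1 := by
  apply quad_injective
  rw [sq, quad_mul, quad_one, sN, quad_ofQuad]
  decide

theorem sN_ne : sN ≠ 1 := by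
  intro h
  have := congrArg quad h
  rw [sN, quad_ofQuad, quad_one] at this
  exact absurd this (by decide)

variable {F : Type*} [Field F] [IsAlgClosed F] {V : Type*} [AddCommGroup V] [Module F V]
  [FiniteDimensional F V] [Nontrivial V] {G : Type*} [Group G] [Finite G]
  {ρ : G →* Module.End F V}

/-- **Zassenhaus.** The structure of a nonsolvable fixed-point-free linear group. -/
theorem decomposition (hρ : IsLinFPF ρ) (hns : ¬ Group.IsSolvable G) :
    ∃ f : SL →* G, Function.Injective f ∧ f.range.Normal ∧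
      (∀ u : G, orderOf u = 3 → u ∈ f.range) ∧
      ∃ M : Subgroup G, M.Normal ∧ (∀ s ∈ f.range, ∀ m ∈ M, s * m = m * s) ∧
        (Nat.card M).Coprime 30 ∧ (∀ (p : ℕ) [Fact p.Prime] (P : Sylow p M), IsCyclic P) ∧
        f.range ⊓ M = ⊥ ∧ Subgroup.centralizer (f.range : Set G) ≤ f.range ⊔ M ∧
        (f.range ⊔ M).Normal ∧ ((f.range ⊔ M).index = 1 ∨ (f.range ⊔ M).index = 2) := by
  obtain ⟨K, hperf, hnt⟩ : ∃ K : Subgroup G, commutator K = ⊤ ∧ ¬ Subsingleton K := by
    by_contra hno
    push Not at hno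
    have := solvable_of_no_perfect _ (⊤ : Subgroup G) rfl fun K _ hK => hno K hK
    exact hns (Group.isSolvable_of_isSolvable_injective
      (Subgroup.topEquiv (G := G)).symm.injective (f := (Subgroup.topEquiv (G := G)).symm.toMonoidHom))
  have : Nontrivial K := not_subsingleton_iff_nontrivial.mp hnt
  obtain ⟨h2, a, b, ha, hb, hab⟩ := exists_far (comp hρ K.subtype K.subtype_injective) hperf
  obtain ⟨x, y, hx, hy, hS⟩ : ∃ x y : G, orderOf x = 3 ∧ orderOf y = 3 ∧
      S ρ x y * S ρ x y = (20 : F) • 1 :=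
    ⟨a, b, by rw [Subgroup.orderOf_coe, ha], by rw [Subgroup.orderOf_coe, hb], hab⟩
  clear a b ha hb hab hperf
  have hnc := Closure.far_ne_commute hρ h2 hx hy hS
  obtain ⟨f, hf, hfX, hfY, hcl⟩ := exists_hom hρ hx hy hnc (Closure.cc_of_far hρ h2 hx hy hS)
  have h3mem : ∀ u : G, orderOf u = 3 → u ∈ f.range := fun u hu =>
    Closure.mem_of_three hρ h2 hx hy hS hf hfX hfY hu
  have hDn : f.range.Normal := Closure.range_normal hρ h2 hx hy hS hf hfX hfY hcl
  set C := Subgroup.centralizer (f.range : Set G)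
  set z := f sN with hzdef
  have hz1 : z ≠ 1 := fun h => sN_ne (hf (h.trans (map_one f).symm))
  have hz2 : z ^ 2 = 1 := by rw [← map_pow, sN_sq, map_one]
  have hzo : orderOf z = 2 := orderOf_eq_prime hz2 hz1
  have hzC : z ∈ C := Subgroup.mem_centralizer_iff.mpr fun u _ =>
    (involution_comm hρ hz1 hz2 u).symm
  have hDC : ∀ u ∈ f.range, u ∈ C → u = 1 ∨ u = z := by
    rintro u ⟨g, rfl⟩ hC
    rw [Subgroup.mem_centralizer_iff] at hC
    have hX : sX * g = g * sX := hf (by rw [map_mul, map_mul]; exact hC _ ⟨sX, rfl⟩)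
    have hY : sY * g = g * sY := hf (by rw [map_mul, map_mul]; exact hC _ ⟨sY, rfl⟩)
    rcases eq_one_or_N hX hY with rfl | rfl
    · exact Or.inl (map_one f)
    · exact Or.inr rfl
  obtain ⟨qj, qv, hjd, hj2, hvd, hv5, hv1⟩ := five_four
  set j := f (ofQuad qj hjd) with hj
  set v := f (ofQuad qv hvd) with hv
  have hjsq : j ^ 2 = z := by
    rw [hj, ← map_pow, hzdef]
    congr 1
    apply quad_injective
    rw [sq, quad_mul, quad_ofQuad, sN, quad_ofQuad]
    exact hj2
  have hvo : orderOf v = 5 := by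
    have := Fact.mk Nat.prime_five
    refine orderOf_eq_prime ?_ ?_
    · rw [hv, ← map_pow, ← map_one f]
      congr 1
      apply quad_injective
      rw [show (ofQuad qv hvd) ^ 5 = (ofQuad qv hvd) * (ofQuad qv hvd) *
          ((ofQuad qv hvd) * (ofQuad qv hvd)) * (ofQuad qv hvd) by
        rw [pow_succ, pow_succ, pow_succ, pow_succ, pow_one]; group, quad_mul, quad_mul, quad_mul,
        quad_one, quad_ofQuad]
      exact hv5
    · intro h
      apply hv1
      have := congrArg quad (hf (h.trans (map_one f).symm))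
      rwa [quad_ofQuad, quad_one] at this
  have hjo : orderOf j = 4 := orderOf_eq_prime_pow (p := 2) (n := 1) (by rwa [pow_one, hjsq])
    (by rw [show (2 : ℕ) ^ (1 + 1) = 2 * 2 from rfl, pow_mul, hjsq, hz2])
  have hnot : ∀ c : G, c ∈ C → ∀ w ∈ f.range, orderOf c = orderOf w → c ∈ f.range := by
    intro c hc w hw he
    refine Subgroup.zpowers_le.mpr hw (mem_zpowers_of_commute hρ ?_ (dvd_of_eq he))
    exact Subgroup.mem_centralizer_iff.mp hc w hw
  have hno : ∀ c : G, c ∈ C → orderOf c ≠ 3 ∧ orderOf c ≠ 4 ∧ orderOf c ≠ 5 := by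
    intro c hc
    have key : ∀ w ∈ f.range, orderOf c = orderOf w → orderOf c = 1 ∨ orderOf c = 2 := by
      intro w hw he
      rcases hDC c (hnot c hc w hw he) hc with rfl | rfl
      · exact Or.inl orderOf_one
      · exact Or.inr hzo
    refine ⟨fun h => ?_, fun h => ?_, fun h => ?_⟩
    · rcases key x ⟨sX, hfX⟩ (h.trans hx.symm) with e | e <;> omega
    · rcases key j ⟨_, rfl⟩ (h.trans hjo.symm) with e | e <;> omega
    · rcases key v ⟨_, rfl⟩ (h.trans hvo.symm) with e | e <;> omega
  -- the Sylow two-subgroup of `C` is generated by `z`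
  have := Fact.mk Nat.prime_two
  set zC : C := ⟨z, hzC⟩
  have hzCo : orderOf zC = 2 := by rw [← Subgroup.orderOf_coe]; exact hzo
  obtain ⟨P, hP⟩ := (IsPGroup.of_card (p := 2) (n := 1)
    (by rw [Nat.card_zpowers, hzCo, pow_one]) : IsPGroup 2 (Subgroup.zpowers zC)).exists_le_sylow
  have hPz : (P : Subgroup C) = Subgroup.zpowers zC := by
    refine le_antisymm (fun c hc => ?_) hP
    obtain ⟨k, hk⟩ := P.2 ⟨c, hc⟩
    have hk' : (c : G) ^ 2 ^ k = 1 := congrArg (fun t : (P : Subgroup C) => ((t : C) : G)) hk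
    have hstep : ∀ d : C, (d : G) ^ 4 = 1 → (d : G) ^ 2 = 1 := by
      intro d hd
      by_contra h
      exact (hno d d.2).2.1 (orderOf_eq_prime_pow (p := 2) (n := 1) (by simpa using h) (by simpa using hd))
    have hsq : ∀ n : ℕ, ∀ d : C, (d : G) ^ 2 ^ (n + 1) = 1 → (d : G) ^ 2 = 1 := by
      intro n
      induction n with
      | zero => intro d hd; simpa using hd
      | succ n ih =>
        intro d hd
        have := ih (d * d) (by rw [Subgroup.coe_mul, ← sq, ← pow_mul, ← pow_succ']; exact hd)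
        rw [Subgroup.coe_mul, ← sq, ← pow_mul] at this
        exact hstep d this
    have h2c : (c : G) ^ 2 = 1 := hsq k c (by rw [pow_succ, pow_mul, hk', one_pow])
    rcases eq_or_ne (c : G) 1 with h1 | h1
    · rw [show c = 1 from Subtype.ext h1]; exact one_mem _
    · exact ⟨1, by show zC ^ (1 : ℤ) = c; rw [zpow_one]; exact Subtype.ext (involution_unique hρ hz1 hz2 h1 h2c)⟩
  have hNC : Subgroup.normalizer ((P : Subgroup C) : Set C) ≤ Subgroup.centralizer ((P : Subgroup C) : Set C) := by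
    intro c _
    rw [Subgroup.mem_centralizer_iff]
    intro w hw
    rw [SetLike.mem_coe, hPz] at hw
    obtain ⟨i, rfl⟩ := hw
    have hcm : Commute zC c := Subtype.ext (involution_comm hρ hz1 hz2 (c : G))
    exact hcm.zpow_left i
  set M₀ := (MonoidHom.transferSylow P hNC).ker
  have hcompl := MonoidHom.ker_transferSylow_isComplement' P hNC
  set M : Subgroup G := M₀.map C.subtype with hM
  have hcardM : Nat.card M = (P : Subgroup C).index := by
    rw [hM, Subgroup.card_subtype, ← hcompl.index_eq_card]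
  have hodd : ¬ 2 ∣ Nat.card M := hcardM ▸ P.not_dvd_index
  have hMC : M ≤ C := Subgroup.map_subtype_le _
  have hiM : M₀.index = 2 := by
    rw [← hzCo, ← Nat.card_zpowers, ← hPz]
    exact hcompl.symm.index_eq_card
  have hodd_mem : ∀ c : C, ¬ 2 ∣ orderOf c → c ∈ M₀ := by
    intro c hc
    have hh : (MonoidHom.transferSylow P hNC) c = 1 := by
      rw [← orderOf_eq_one_iff]
      refine Nat.eq_one_of_dvd_coprimes
        ((Nat.prime_two.coprime_iff_not_dvd.mpr hc).symm) (orderOf_map_dvd _ c) ?_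
      have h1 := orderOf_dvd_natCard ((MonoidHom.transferSylow P hNC) c)
      have h2 : Nat.card (P : Subgroup C) = 2 := by
        rw [congrArg (fun S : Subgroup C => Nat.card S) hPz, Nat.card_zpowers, hzCo]
      exact h1.trans (dvd_of_eq h2)
    exact hh
  have hMn : M.Normal := by
    refine ⟨fun m hm g => ?_⟩
    obtain ⟨m, hm0, rfl⟩ := hm
    have hC' : (Subgroup.centralizer (f.range : Set G)).Normal := inferInstance
    have hgm : g * (m : G) * g⁻¹ ∈ C := hC'.conj_mem _ m.2 g
    refine ⟨⟨_, hgm⟩, hodd_mem _ ?_, rfl⟩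
    rw [Subgroup.orderOf_mk, ← MulAut.conj_apply, MulEquiv.orderOf_eq]
    exact fun h => hodd (h.trans (Subgroup.orderOf_dvd_natCard _ ⟨m, hm0, rfl⟩))
  have hinf : f.range ⊓ M = ⊥ := by
    rw [Subgroup.eq_bot_iff_forall]
    intro u hu
    rcases hDC u hu.1 (hMC hu.2) with h | rfl
    · exact h
    · exact absurd (hzo ▸ Subgroup.orderOf_dvd_natCard _ hu.2) hodd
  have hCle : C ≤ f.range ⊔ M := by
    intro c hc
    have hmem : (⟨c, hc⟩ : C) ∈ M₀ ∨ (⟨c, hc⟩ : C) * zC ∈ M₀ := by
      by_cases h : (⟨c, hc⟩ : C) ∈ M₀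
      · exact Or.inl h
      · right
        rw [Subgroup.mul_mem_iff_of_index_two hiM]
        simp only [h, false_iff]
        intro hz
        exact hodd (hzo ▸ Subgroup.orderOf_dvd_natCard M ⟨zC, hz, rfl⟩)
    rcases hmem with h | h
    · exact Subgroup.mem_sup_right ⟨_, h, rfl⟩
    · have h1 : c * z ∈ f.range ⊔ M := Subgroup.mem_sup_right ⟨_, h, rfl⟩
      have h2' : z ∈ f.range ⊔ M := Subgroup.mem_sup_left ⟨_, rfl⟩
      simpa using mul_mem h1 (inv_mem h2')
  have hG0 : (f.range ⊔ M).Normal := Subgroup.sup_normal _ _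
  refine ⟨f, hf, hDn, h3mem, M, hMn, fun s hs m hm => Subgroup.mem_centralizer_iff.mp (hMC hm) s hs,
    ?_, ?_, hinf, hCle, hG0, ?_⟩
  · have hq : ∀ q : ℕ, q.Prime → q = 3 ∨ q = 5 → ¬ q ∣ Nat.card M := by
      intro q hq h hd
      have := Fact.mk hq
      obtain ⟨m, hm⟩ := exists_prime_orderOf_dvd_card' q hd
      have hm' : orderOf (m : G) = q := by rw [Subgroup.orderOf_coe, hm]
      obtain ⟨n3, -, n5⟩ := hno m (hMC m.2)
      rcases h with rfl | rfl
      exacts [n3 hm', n5 hm']
    rw [show (30 : ℕ) = 2 * 3 * 5 from rfl]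
    exact Nat.Coprime.mul_right (Nat.Coprime.mul_right
      (Nat.prime_two.coprime_iff_not_dvd.mpr hodd).symm
      (Nat.prime_three.coprime_iff_not_dvd.mpr (hq 3 Nat.prime_three (Or.inl rfl))).symm)
      (Nat.prime_five.coprime_iff_not_dvd.mpr (hq 5 Nat.prime_five (Or.inr rfl))).symm
  · intro p hp Q
    by_cases hp2 : p = 2
    · subst hp2
      have h1 : Nat.card (Q : Subgroup M) = 1 := by
        obtain ⟨n, hn⟩ := IsPGroup.iff_card.mp Q.2
        rcases n with _ | n
        · exact hn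
        · exact absurd ((dvd_pow_self 2 n.succ_ne_zero).trans
            (hn ▸ Subgroup.card_subgroup_dvd_card _)) hodd
      have := (Nat.card_eq_one_iff_unique.mp h1).1
      exact isCyclic_of_subsingleton
    · exact sylow_odd_cyclic (comp hρ M.subtype M.subtype_injective) hp2 _ Q.2
  · by_cases htop : f.range ⊔ M = ⊤
    · exact Or.inl (Subgroup.index_eq_one.mpr htop)
    · right
      obtain ⟨g₀, hg₀⟩ : ∃ g, g ∉ f.range ⊔ M := by
        by_contra! h
        exact htop ((Subgroup.eq_top_iff' _).mpr h)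
      have heq : f.range ⊔ C = f.range ⊔ M :=
        le_antisymm (sup_le le_sup_left hCle) (sup_le le_sup_left (hMC.trans le_sup_right))
      have hpair : ∀ a b : G, a ∉ f.range ⊔ M → b ∉ f.range ⊔ M → a⁻¹ * b ∈ f.range ⊔ M := by
        intro a b
        rw [← heq]
        exact Closure.coset_pair hρ h2 hx hy hS hf hfX hfY hcl a b
      rw [Subgroup.index_eq_two_iff]
      refine ⟨g₀, fun b => ?_⟩
      by_cases hb : b ∈ f.range ⊔ M
      · exact Or.inr ⟨hb, fun h => hg₀ ((mul_mem_cancel_left hb).mp h)⟩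
      · refine Or.inl ⟨?_, hb⟩
        have := hpair b⁻¹ g₀ (fun h => hb (by simpa using inv_mem h)) hg₀
        rwa [inv_inv] at this

end Cfsg.Agent.Lib.FpfLinear.NonSolvable
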