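import Cfsg.Agent.Lib.FpfLinear.Closure
import Cfsg.Agent.Lib.PGroups.UniqueInvolution
import Cfsg.Agent.Lib.Transfer.Frobenius
import Mathlib.GroupTheory.SpecificGroups.ZGroup
import Mathlib.GroupTheory.SpecificGroups.Quaternion
import Mathlib.GroupTheory.SpecificGroups.Alternating.KleinFour

/-!
# Perfect fixed-point-free linear groups

A nontrivial one is isomorphic to `SL(2, 5)`.
-/

set_option linter.unusedSectionVars false

namespace Cfsg.Agent.Lib.FpfLinear.Perfect

open scoped commutatorElement
open Cfsg Cfsg.Agent.Lib.FpfLinear.Basic Cfsg.Agent.Lib.FpfLinear.Geometry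
  Cfsg.Agent.Lib.FpfLinear.Hom Module

/-- A solvable perfect group is trivial. -/
theorem subsingleton_of_perfect {H : Type*} [Group H] [Group.IsSolvable H]
    (h : commutator H = ⊤) : Subsingleton H := by
  rcases subsingleton_or_nontrivial H with hs | hn
  · exact hs
  · exact absurd h (IsSolvable.commutator_lt_top_of_nontrivial H).ne

theorem perfect_of_surjective {G H : Type*} [Group G] [Group H] (f : G →* H)
    (hf : Function.Surjective f) (h : commutator G = ⊤) : commutator H = ⊤ := by
  rw [commutator_def, ← Subgroup.map_top_of_surjective f hf, ← Subgroup.map_commutator,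
    ← commutator_def, h]

/-- Permutations of at most four points form a solvable group. -/
theorem solvable_perm_le_four {α : Type*} [Finite α] (h : Nat.card α ≤ 4) :
    Group.IsSolvable (Equiv.Perm α) := by
  classical
  have := Fintype.ofFinite α
  have key : Group.IsSolvable (Equiv.Perm (Fin 4)) := by
    have h4 : Nat.card (Fin 4) = 4 := by simp
    haveI := alternatingGroup.kleinFour_isKleinFour h4
    haveI : Group.IsSolvable (alternatingGroup.kleinFour (Fin 4)) :=
      Group.isSolvable_of_comm fun a b => mul_comm_of_exponent_two IsKleinFour.exponent_two a b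
    haveI : Group.IsSolvable (commutator (alternatingGroup (Fin 4))) := by
      rw [← alternatingGroup.kleinFour_eq_commutator h4]; infer_instance
    haveI : Group.IsSolvable (alternatingGroup (Fin 4)) :=
      Group.isSolvable_of_ker_le_range (commutator (alternatingGroup (Fin 4))).subtype
        (Abelianization.of (G := alternatingGroup (Fin 4))) (by simp [Abelianization.ker_of])
    exact Group.isSolvable_of_ker_le_range (alternatingGroup (Fin 4)).subtype
      (Equiv.Perm.sign (α := Fin 4)) (by rw [Subgroup.range_subtype]; rfl)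
  obtain ⟨e⟩ : Nonempty (α ↪ Fin 4) :=
    Function.Embedding.nonempty_of_card_le (by rwa [Fintype.card_fin, ← Nat.card_eq_fintype_card])
  exact Group.isSolvable_of_isSolvable_injective (Equiv.Perm.viaEmbeddingHom_injective e)

/-- The endomorphism of `Q₈` with given values on the generators. -/
def q8map (p q : QuaternionGroup 2) : QuaternionGroup 2 → QuaternionGroup 2
  | .a i => p ^ i.val
  | .xa i => q * p ^ i.val

theorem q8_exponent : ∀ p q : QuaternionGroup 2,
    (∀ u v, q8map p q (u * v) = q8map p q u * q8map p q v) →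
    (∀ u, q8map p q u = 1 → u = 1) → ∀ u, (q8map p q)^[12] u = u := by
  decide +kernel

theorem q8_aut (φ : MulAut (QuaternionGroup 2)) {r : ℕ}
    (hr : φ ^ r = 1) (hr2 : ¬ 2 ∣ r) (hr3 : ¬ 3 ∣ r) : φ = 1 := by
  have hrep : ∀ u : QuaternionGroup 2, φ u = q8map (φ (.a 1)) (φ (.xa 0)) u := by
    intro u
    cases u with
    | a i =>
      show φ (.a i) = φ (.a 1) ^ i.val
      rw [← map_pow, QuaternionGroup.a_one_pow, ZMod.natCast_zmod_val]
    | xa i =>
      show φ (.xa i) = φ (.xa 0) * φ (.a 1) ^ i.val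
      rw [← map_pow, QuaternionGroup.a_one_pow, ZMod.natCast_zmod_val, ← map_mul,
        QuaternionGroup.xa_mul_a, zero_add]
  have hfun : ⇑φ = q8map (φ (.a 1)) (φ (.xa 0)) := funext hrep
  have h12 : φ ^ 12 = 1 := by
    refine MulEquiv.ext fun u => ?_
    have hit : ∀ n : ℕ, ⇑(φ ^ n) = (⇑φ)^[n] := by
      intro n
      induction n with
      | zero => rfl
      | succ n ih =>
        rw [pow_succ, Function.iterate_succ]
        funext v
        show (φ ^ n) (φ v) = _
        rw [ih]; rfl
    rw [hit, hfun, MulAut.one_apply]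
    refine q8_exponent _ _ (fun a b => ?_) (fun a h => ?_) u
    · rw [← hfun]; exact map_mul φ a b
    · rw [← hfun] at h; exact (MulEquiv.map_eq_one_iff φ).mp h
  have hco : Nat.Coprime r 12 := by
    rw [show (12 : ℕ) = 2 ^ 2 * 3 from rfl]
    exact Nat.Coprime.mul_right (Nat.Coprime.pow_right _ ((Nat.prime_two.coprime_iff_not_dvd.mpr hr2).symm))
      ((Nat.prime_three.coprime_iff_not_dvd.mpr hr3).symm)
  have := orderOf_dvd_of_pow_eq_one hr
  have h' := orderOf_dvd_of_pow_eq_one h12
  exact orderOf_eq_one_iff.mp (Nat.eq_one_of_dvd_coprimes hco this h')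

theorem quaternion_aut_big {k m : ℕ} (hm : m = 2 ^ k) (hm4 : 4 ≤ m) (φ : MulAut (QuaternionGroup m))
    {r : ℕ} (hr : φ ^ r = 1) (hr2 : ¬ 2 ∣ r) : φ = 1 := by
  have : NeZero m := ⟨by omega⟩
  have hord : orderOf (φ (.a 1)) = 2 * m := by
    rw [MulEquiv.orderOf_eq, QuaternionGroup.orderOf_a_one]
  obtain ⟨t, ht⟩ : ∃ t, φ (.a 1) = .a t := by
    rcases h : φ (.a 1) with t | t
    · exact ⟨t, rfl⟩
    · rw [h, QuaternionGroup.orderOf_xa] at hord; omega
  have hφa : ∀ i : ZMod (2 * m), φ (.a i) = .a (t * i) := by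
    intro i
    have hpow : ∀ n : ℕ, (QuaternionGroup.a t : QuaternionGroup m) ^ n = .a (t * n) := by
      intro n
      induction n with
      | zero => rw [pow_zero, Nat.cast_zero, mul_zero, QuaternionGroup.a_zero]
      | succ n ih => rw [pow_succ, ih, QuaternionGroup.a_mul_a, Nat.cast_succ, mul_add, mul_one]
    rw [← ZMod.natCast_zmod_val i, ← QuaternionGroup.a_one_pow, map_pow, ht, hpow]
  have hit : ∀ n : ℕ, ∀ i, (φ ^ n) (.a i) = .a (t ^ n * i) := by
    intro n
    induction n with
    | zero => intro i; simp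
    | succ n ih => intro i; rw [pow_succ, MulAut.mul_apply, hφa, ih, pow_succ, mul_assoc]
  have htr : t ^ r = 1 := by
    have := hit r 1
    rw [hr, MulAut.one_apply, mul_one] at this
    exact (QuaternionGroup.a.inj this).symm
  have ht1 : t = 1 := by
    have htu : IsUnit t := IsUnit.of_pow_eq_one htr (fun h => hr2 (h ▸ dvd_zero 2))
    obtain ⟨u, rfl⟩ := htu
    have hu : u ^ r = 1 := Units.ext (by rw [Units.val_pow_eq_pow_val]; exact htr)
    have h1 := orderOf_dvd_of_pow_eq_one hu
    have h2 : orderOf u ∣ 2 ^ k := by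
      have := orderOf_dvd_natCard u
      rw [Nat.card_eq_fintype_card, ZMod.card_units_eq_totient,
        congrArg Nat.totient (show 2 * m = 2 ^ (k + 1) by rw [hm, pow_succ']),
        Nat.totient_prime_pow_succ Nat.prime_two, show 2 - 1 = 1 from rfl, mul_one] at this
      exact this
    have : u = 1 := orderOf_eq_one_iff.mp
      (Nat.eq_one_of_dvd_coprimes ((Nat.prime_two.coprime_iff_not_dvd.mpr hr2).symm.pow_right k) h1 h2)
    rw [this, Units.val_one]
  subst ht1
  obtain ⟨j, hj⟩ : ∃ j, φ (.xa 0) = .xa j := by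
    rcases h : φ (.xa 0) with j | j
    · have := φ.injective (h.trans ((hφa j).trans (by rw [one_mul])).symm)
      cases this
    · exact ⟨j, rfl⟩
  have hφx : ∀ i, φ (.xa i) = .xa (j + i) := by
    intro i
    have h := QuaternionGroup.xa_mul_a (n := m) 0 i
    rw [zero_add] at h
    rw [← h, map_mul, hj, hφa, one_mul, QuaternionGroup.xa_mul_a]
  have hitx : ∀ n : ℕ, (φ ^ n) (.xa 0) = .xa ((n : ZMod (2 * m)) * j) := by
    intro n
    induction n with
    | zero => simp
    | succ n ih =>
      rw [pow_succ', MulAut.mul_apply, ih, hφx, Nat.cast_succ, add_mul, one_mul, add_comm]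
  have hj0 : j = 0 := by
    have := hitx r
    rw [hr, MulAut.one_apply] at this
    have h0 : (r : ZMod (2 * m)) * j = 0 := (QuaternionGroup.xa.inj this).symm
    have hu : IsUnit (r : ZMod (2 * m)) := by
      rw [ZMod.isUnit_iff_coprime, show 2 * m = 2 ^ (k + 1) by rw [hm, pow_succ']]
      exact (Nat.prime_two.coprime_iff_not_dvd.mpr hr2).symm.pow_right _
    exact hu.mul_right_eq_zero.mp h0
  refine MulEquiv.ext fun u => ?_
  cases u with
  | a i => rw [hφa, one_mul]; rfl
  | xa i => rw [hφx, hj0, zero_add]; rfl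

/-- An automorphism of a generalised quaternion group of order prime to six is trivial. -/
theorem quaternion_aut {k : ℕ} (hk : 1 ≤ k) (φ : MulAut (QuaternionGroup (2 ^ k))) {r : ℕ}
    (hr : φ ^ r = 1) (hr2 : ¬ 2 ∣ r) (hr3 : ¬ 3 ∣ r) : φ = 1 := by
  rcases eq_or_lt_of_le hk with rfl | hk2
  · exact q8_aut φ hr hr2 hr3
  · exact quaternion_aut_big rfl (Nat.pow_le_pow_right (n := 2) (by norm_num) hk2) φ hr hr2

variable {F : Type*} [Field F] [IsAlgClosed F] {V : Type*} [AddCommGroup V] [Module F V]
  [FiniteDimensional F V] [Nontrivial V] {G : Type*} [Group G] [Finite G]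
  {ρ : G →* Module.End F V} (hρ : IsLinFPF ρ)
include hρ

theorem unique_prime {p : ℕ} {x y : G} (hx : orderOf x = p) (hy : orderOf y = p)
    (hxy : Commute x y) : y ∈ Subgroup.zpowers x :=
  mem_zpowers_of_commute hρ hxy (by rw [hx, hy])

theorem sylow_odd_cyclic {p : ℕ} [hp : Fact p.Prime] (hp2 : p ≠ 2) (P : Subgroup G)
    (hP : IsPGroup p P) : IsCyclic P := by
  refine PGroups.isCyclic_of_unique_prime hp2 hP fun a b ha hb => ?_
  have : Nontrivial P := ⟨⟨a, 1, fun h => hp.out.ne_one (by rw [← ha, h, orderOf_one])⟩⟩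
  have := hP.center_nontrivial
  obtain ⟨z, hz⟩ := exists_prime_orderOf_dvd_card' p (G := Subgroup.center P) (by
    obtain ⟨n, hn⟩ := IsPGroup.iff_card.mp (hP.to_subgroup (Subgroup.center P))
    have h1 : 1 < Nat.card (Subgroup.center P) := Finite.one_lt_card
    rcases n with _ | n
    · rw [hn, pow_zero] at h1; exact absurd h1 (lt_irrefl 1)
    · rw [hn]; exact dvd_pow_self p n.succ_ne_zero)
  have hzG : orderOf ((z : P) : G) = p := by rw [Subgroup.orderOf_coe, Subgroup.orderOf_coe, hz]
  have hmem : ∀ c : P, orderOf c = p → (c : G) ∈ Subgroup.zpowers ((z : P) : G) := fun c hc =>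
    unique_prime hρ hzG (by rw [Subgroup.orderOf_coe, hc])
      (congrArg Subtype.val (Subgroup.mem_center_iff.mp z.2 c).symm)
  have heq : Subgroup.zpowers (a : G) = Subgroup.zpowers ((z : P) : G) :=
    Subgroup.eq_of_le_of_card_ge (Subgroup.zpowers_le.mpr (hmem a ha))
      (by rw [Nat.card_zpowers, Nat.card_zpowers, hzG, Subgroup.orderOf_coe, ha])
  obtain ⟨i, hi⟩ := heq ▸ hmem b hb
  exact ⟨i, Subtype.ext (by simpa using hi)⟩

/-- Elements of order prime to six centralise the two-subgroups they normalise. -/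
theorem centralizes_two (Q : Subgroup G) (hQ : IsPGroup 2 Q) {g : G}
    (hg : g ∈ Subgroup.normalizer (Q : Set G)) (h2 : ¬ 2 ∣ orderOf g) (h3 : ¬ 3 ∣ orderOf g) :
    g ∈ Subgroup.centralizer (Q : Set G) := by
  have := Fact.mk Nat.prime_two
  set φ := Q.normalizerMonoidHom ⟨g, hg⟩
  suffices hφ : φ = 1 by
    have : (⟨g, hg⟩ : Subgroup.normalizer (Q : Set G)) ∈ Q.normalizerMonoidHom.ker :=
      MonoidHom.mem_ker.mpr hφ
    rw [Subgroup.normalizerMonoidHom_ker, Subgroup.mem_subgroupOf] at this
    exact this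
  have hr : φ ^ orderOf g = 1 := by
    rw [← map_pow, ← Subgroup.orderOf_mk g hg, pow_orderOf_eq_one, map_one]
  have hu : ∀ a b : Q, orderOf a = 2 → orderOf b = 2 → b ∈ Subgroup.zpowers a := by
    intro a b ha hb
    have hne : ∀ c : Q, orderOf c = 2 → (c : G) ≠ 1 ∧ (c : G) ^ 2 = 1 := fun c hc => by
      constructor
      · intro h
        rw [← Subgroup.orderOf_coe, h, orderOf_one] at hc
        norm_num at hc
      · rw [← hc, ← Subgroup.orderOf_coe, pow_orderOf_eq_one]
    have : a = b := Subtype.ext (involution_unique hρ (hne a ha).1 (hne a ha).2 (hne b hb).1 (hne b hb).2)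
    exact this ▸ Subgroup.mem_zpowers a
  rcases PGroups.isCyclic_or_quaternion hQ hu with hc | ⟨-, k, hk, ⟨e⟩⟩
  · obtain ⟨n, hn⟩ := IsPGroup.iff_card.mp hQ
    rcases n with _ | n
    · have := (Nat.card_eq_one_iff_unique.mp (hn.trans (pow_zero 2))).1
      exact MulEquiv.ext fun u => Subsingleton.elim _ _
    · have h := orderOf_dvd_natCard φ
      rw [IsCyclic.card_mulAut, hn, Nat.totient_prime_pow_succ Nat.prime_two,
        show 2 - 1 = 1 from rfl, mul_one] at h
      exact orderOf_eq_one_iff.mp (Nat.eq_one_of_dvd_coprimes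
        ((Nat.prime_two.coprime_iff_not_dvd.mpr h2).symm.pow_right n)
        (orderOf_dvd_of_pow_eq_one hr) h)
  · have h1 := quaternion_aut hk (MulAut.congr e φ) (r := orderOf g)
      (by rw [← map_pow, hr, map_one]) h2 h3
    exact (MulAut.congr e).injective (h1.trans (map_one _).symm)

/-- A perfect group of order prime to three is trivial. -/
theorem subsingleton_of_not_three (h3 : ¬ 3 ∣ Nat.card G) (hperf : commutator G = ⊤) :
    Subsingleton G := by
  have := Fact.mk Nat.prime_two
  have hN : Cfsg.HasNormalPComplement 2 G :=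
    Transfer.Frobenius.hasNormalPComplement_of_forall_centralizes fun Q hQ _ g hg hco =>
      centralizes_two hρ Q hQ hg (fun h => Nat.prime_two.coprime_iff_not_dvd.mp hco.symm h)
        (fun h => h3 (h.trans (orderOf_dvd_natCard g)))
  obtain ⟨P, N, hNn, hc⟩ := hN
  have : Group.IsNilpotent (G ⧸ N) := by
    have hP : IsPGroup 2 (G ⧸ N) := by
      obtain ⟨n, hn⟩ := IsPGroup.iff_card.mp P.2
      refine IsPGroup.of_card (n := n) ?_
      rw [← hn, ← Subgroup.index_eq_card]
      exact hc.symm.index_eq_card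
    exact hP.isNilpotent
  have hsub := subsingleton_of_perfect (perfect_of_surjective (QuotientGroup.mk' N)
    (QuotientGroup.mk'_surjective N) hperf)
  have hP1 : Nat.card (P : Subgroup G) = 1 := by
    rw [← hc.symm.index_eq_card, Subgroup.index_eq_card, Nat.card_unique]
  have hodd : ¬ 2 ∣ Nat.card G := fun h => by
    have := P.dvd_card_of_dvd_card h
    rw [hP1] at this
    norm_num at this
  have : IsZGroup G := by
    refine ⟨fun p hp S => ?_⟩
    have := Fact.mk hp
    by_cases hp2 : p = 2
    · subst hp2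
      have : Nat.card (S : Subgroup G) = 1 := by
        obtain ⟨n, hn⟩ := IsPGroup.iff_card.mp S.2
        rcases n with _ | n
        · exact hn
        · exact absurd ((dvd_pow_self 2 n.succ_ne_zero).trans
            (hn ▸ Subgroup.card_subgroup_dvd_card _)) hodd
      have := (Nat.card_eq_one_iff_unique.mp this).1
      exact isCyclic_of_subsingleton
    · exact sylow_odd_cyclic hρ hp2 _ S.2
  rcases subsingleton_or_nontrivial G with hs | hn
  · exact hs
  · exact absurd hperf (IsZGroup.commutator_lt (G := G)).ne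

/-- A perfect group has two non-commuting elements of order three. -/
theorem exists_noncommuting (hperf : commutator G = ⊤) [Nontrivial G] :
    ∃ x y : G, orderOf x = 3 ∧ orderOf y = 3 ∧ ¬ Commute x y := by
  have h3 : 3 ∣ Nat.card G := by
    by_contra h
    exact not_subsingleton G (subsingleton_of_not_three hρ h hperf)
  have := Fact.mk Nat.prime_three
  obtain ⟨x, hx⟩ := exists_prime_orderOf_dvd_card' 3 h3
  by_contra hno
  push Not at hno
  have hW : ∀ g : G, g * x * g⁻¹ ∈ Subgroup.zpowers x := fun g => by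
    have h : orderOf (g * x * g⁻¹) = 3 := by rw [← MulAut.conj_apply, MulEquiv.orderOf_eq, hx]
    exact unique_prime hρ hx h (hno x _ hx h)
  -- the action on the subgroup generated by `x` is trivial
  have hnorm : (Subgroup.zpowers x).Normal := by
    refine ⟨fun n hn g => ?_⟩
    obtain ⟨i, rfl⟩ := hn
    show g * x ^ i * g⁻¹ ∈ _
    rw [← conj_zpow]
    exact zpow_mem (hW g) i
  have hcen : ∀ g : G, g * x = x * g := by
    let χ : G →* MulAut (Subgroup.zpowers x) := MulAut.conjNormal
    have hχ : χ = 1 := by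
      have hcomm : ∀ a b : MulAut (Subgroup.zpowers x), a * b = b * a := by
        intro a b
        obtain ⟨ma, hma⟩ := MonoidHom.map_cyclic a.toMonoidHom
        obtain ⟨mb, hmb⟩ := MonoidHom.map_cyclic b.toMonoidHom
        refine MulEquiv.ext fun u => ?_
        show a (b u) = b (a u)
        have ea : ∀ v, a v = v ^ ma := hma
        have eb : ∀ v, b v = v ^ mb := hmb
        rw [ea, eb, eb, ea, ← zpow_mul, ← zpow_mul, mul_comm]
      have hk : commutator G ≤ χ.ker := by
        rw [commutator_def, Subgroup.commutator_le]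
        intro a _ b _
        rw [MonoidHom.mem_ker, map_commutatorElement, commutatorElement_eq_one_iff_mul_comm]
        exact hcomm _ _
      exact MonoidHom.ext fun g => MonoidHom.mem_ker.mp (hk (hperf ▸ Subgroup.mem_top g))
    intro g
    have := congrArg Subtype.val (MulEquiv.congr_fun (DFunLike.congr_fun hχ g)
      ⟨x, Subgroup.mem_zpowers x⟩)
    have h : g * x * g⁻¹ = x := this
    exact mul_inv_eq_iff_eq_mul.mp h
  -- transfer to a Sylow subgroup
  obtain ⟨P, hP⟩ := (IsPGroup.of_card (p := 3) (n := 1)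
    (by rw [Nat.card_zpowers, hx, pow_one]) : IsPGroup 3 (Subgroup.zpowers x)).exists_le_sylow
  have hxP : x ∈ (P : Subgroup G) := hP (Subgroup.mem_zpowers x)
  have : IsCyclic (P : Subgroup G) := sylow_odd_cyclic hρ (by norm_num) _ P.2
  let _ : CommGroup (P : Subgroup G) := IsCyclic.commGroup
  set τ := MonoidHom.transfer (MonoidHom.id (P : Subgroup G))
  have hτ : τ x = 1 := by
    have hk : commutator G ≤ τ.ker := by
      rw [commutator_def, Subgroup.commutator_le]
      intro a _ b _
      rw [MonoidHom.mem_ker, map_commutatorElement, commutatorElement_eq_one_iff_mul_comm]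
      exact mul_comm _ _
    exact MonoidHom.mem_ker.mp (hk (hperf ▸ Subgroup.mem_top x))
  rw [MonoidHom.transfer_eq_pow _ x (fun k g₀ _ => by
    have hc : Commute g₀ x := hcen g₀
    rw [mul_assoc, ← (hc.pow_right k).eq, inv_mul_cancel_left])] at hτ
  have hpow : x ^ (P : Subgroup G).index = 1 := congrArg Subtype.val hτ
  have hd := orderOf_dvd_of_pow_eq_one hpow
  rw [hx] at hd
  exact P.not_dvd_index hd

/-- A perfect group has a far pair. -/
theorem exists_far (hperf : commutator G = ⊤) [Nontrivial G] :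
    (2 : F) ≠ 0 ∧ ∃ x y : G, orderOf x = 3 ∧ orderOf y = 3 ∧
      S ρ x y * S ρ x y = (20 : F) • 1 := by
  obtain ⟨x, y0, hx, hy0, hxy0⟩ := exists_noncommuting hρ hperf
  obtain ⟨h2, -⟩ := Pair.cases hρ hx hy0 hxy0
  refine ⟨h2, ?_⟩
  by_contra hno
  push Not at hno
  obtain ⟨y, hy, hxy, hnc⟩ : ∃ y, orderOf y = 3 ∧ S ρ x y = (2 : F) • 1 ∧ ¬ Commute x y := by
    rcases five hρ h2 hx hy0 with ⟨rfl, -⟩ | ⟨rfl, -⟩ | e | e | e
    · exact absurd (Commute.refl _) hxy0
    · exact absurd (Commute.refl x).inv_right hxy0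
    · refine ⟨y0⁻¹, by rw [orderOf_inv, hy0], ?_, fun h => hxy0 (by simpa using h.inv_right)⟩
      rw [S_inv hρ hy0, e, ← neg_smul, neg_neg]
    · exact ⟨y0, hy0, e, hxy0⟩
    · exact absurd e (hno x y0 hx hy0)
  have hord : ∀ a b : G, orderOf b = 3 → orderOf (a * b * a⁻¹) = 3 := fun a b hb => by
    rw [← MulAut.conj_apply, MulEquiv.orderOf_eq, hb]
  have hline : ∀ u : G, orderOf u = 3 → S ρ x u = (2 : F) • 1 →
      u = y ∨ u = x * y * x⁻¹ ∨ u = x⁻¹ * y * x := by
    intro u hu hS
    by_cases hr : Rot x y u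
    · exact hr.cases hx
    obtain ⟨u', ru, hyu'⟩ := star hρ h2 hx hy hu hxy hS hr
    refine absurd (opposite hρ h2 hx hy (ru.orderOf_eq hu) hxy (S_rot ru hS) hyu')
      (hno _ _ (ru.orderOf_eq hu) ?_)
    have := hord x⁻¹ y hy
    rwa [inv_inv] at this
  let W : Finset (Subgroup G) := by
    classical exact {Subgroup.zpowers x, Subgroup.zpowers y, Subgroup.zpowers (x * y * x⁻¹),
      Subgroup.zpowers (x⁻¹ * y * x)}
  have hWmem : ∀ u : G, orderOf u = 3 → Subgroup.zpowers u ∈ W := by
    intro u hu
    classical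
    simp only [W, Finset.mem_insert, Finset.mem_singleton]
    rcases five hρ h2 hx hu with ⟨rfl, -⟩ | ⟨rfl, -⟩ | e | e | e
    · exact Or.inl rfl
    · exact Or.inl (Subgroup.zpowers_inv)
    · rcases hline u⁻¹ (by rw [orderOf_inv, hu]) (by rw [S_inv hρ hu, e, ← neg_smul, neg_neg]) with
        h | h | h <;> rw [← Subgroup.zpowers_inv (g := u), h] <;> simp
    · rcases hline u hu e with h | h | h <;> rw [h] <;> simp
    · exact absurd e (hno x u hx hu)
  let T : Set (Subgroup G) := {S | ∃ u, orderOf u = 3 ∧ S = Subgroup.zpowers u}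
  have hTW : T ⊆ (W : Set (Subgroup G)) := by rintro S ⟨u, hu, rfl⟩; exact hWmem u hu
  have hfin : Finite T := (W.finite_toSet.subset hTW).to_subtype
  have hcard : Nat.card T ≤ 4 := by
    rw [Nat.card_coe_set_eq]
    refine (Set.ncard_le_ncard hTW W.finite_toSet).trans ?_
    rw [Set.ncard_coe_finset]
    classical exact Finset.card_le_four
  let act : MulAction G T :=
  { smul := fun g S => ⟨(S : Subgroup G).map (MulAut.conj g).toMonoidHom, by
      obtain ⟨u, hu, hS⟩ := S.2
      exact ⟨g * u * g⁻¹, hord g u hu, by rw [hS, MonoidHom.map_zpowers]; rfl⟩⟩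
    one_smul := fun S => Subtype.ext (by
      show (S : Subgroup G).map (MulAut.conj (1 : G)).toMonoidHom = S
      rw [map_one]; exact Subgroup.map_id _)
    mul_smul := fun g h S => Subtype.ext (by
      show (S : Subgroup G).map (MulAut.conj (g * h)).toMonoidHom =
        ((S : Subgroup G).map (MulAut.conj h).toMonoidHom).map (MulAut.conj g).toMonoidHom
      rw [map_mul, Subgroup.map_map]; rfl) }
  let θ : G →* Equiv.Perm T := @MulAction.toPermHom G T _ act
  have := solvable_perm_le_four hcard
  have hθ : ∀ g, θ g = 1 := fun g => by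
    have hr : Group.IsSolvable θ.range := inferInstance
    have := subsingleton_of_perfect (perfect_of_surjective θ.rangeRestrict
      θ.rangeRestrict_surjective hperf)
    exact congrArg Subtype.val (Subsingleton.elim (θ.rangeRestrict g) 1)
  have hconj : y * x * y⁻¹ ∈ Subgroup.zpowers x := by
    have h := congrArg Subtype.val (Equiv.Perm.congr_fun (hθ y) ⟨_, x, hx, rfl⟩)
    have h' : (Subgroup.zpowers x).map (MulAut.conj y).toMonoidHom = Subgroup.zpowers x := h
    exact h' ▸ Subgroup.mem_map_of_mem _ (Subgroup.mem_zpowers x)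
  have hdual : x * y * x⁻¹ ∈ Subgroup.zpowers y := by
    have h := congrArg Subtype.val (Equiv.Perm.congr_fun (hθ x) ⟨_, y, hy, rfl⟩)
    have h' : (Subgroup.zpowers y).map (MulAut.conj x).toMonoidHom = Subgroup.zpowers y := h
    exact h' ▸ Subgroup.mem_map_of_mem _ (Subgroup.mem_zpowers y)
  apply hnc
  have hc1 : x * y * x⁻¹ * y⁻¹ ∈ Subgroup.zpowers x := by
    rw [show x * y * x⁻¹ * y⁻¹ = x * (y * x * y⁻¹)⁻¹ by group]
    exact mul_mem (Subgroup.mem_zpowers x) (inv_mem hconj)
  have hc2 : x * y * x⁻¹ * y⁻¹ ∈ Subgroup.zpowers y :=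
    mul_mem hdual (inv_mem (Subgroup.mem_zpowers y))
  have h1 : x * y * x⁻¹ * y⁻¹ = 1 := by
    by_contra h
    have := Fact.mk Nat.prime_three
    have hord3 : orderOf (x * y * x⁻¹ * y⁻¹) = 3 := by
      refine orderOf_eq_prime ?_ h
      obtain ⟨i, hi⟩ := hc1
      rw [← hi, ← zpow_natCast, zpow_comm, zpow_natCast, ← hx, pow_orderOf_eq_one, one_zpow]
    have e : Subgroup.zpowers x = Subgroup.zpowers y :=
      (Subgroup.eq_of_le_of_card_ge (Subgroup.zpowers_le.mpr hc1)
        (by rw [Nat.card_zpowers, Nat.card_zpowers, hx, hord3])).symm.trans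
      (Subgroup.eq_of_le_of_card_ge (Subgroup.zpowers_le.mpr hc2)
        (by rw [Nat.card_zpowers, Nat.card_zpowers, hy, hord3]))
    obtain ⟨i, hi⟩ := e ▸ Subgroup.mem_zpowers y
    exact hnc (hi ▸ (Commute.refl x).zpow_right i)
  exact commutatorElement_eq_one_iff_commute.mp h1

omit hρ in
theorem solvable_of_no_perfect : ∀ (n : ℕ) (H : Subgroup G), Nat.card H = n →
    (∀ K : Subgroup G, K ≤ H → commutator K = ⊤ → Subsingleton K) → Group.IsSolvable H := by
  intro n
  induction n using Nat.strong_induction_on with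
  | _ n ih =>
    intro H hn h
    by_cases hc : commutator H = ⊤
    · have := h H le_rfl hc
      infer_instance
    · set D := (commutator H).map H.subtype
      have hlt : Nat.card D < n := by
        rw [Nat.card_congr (Subgroup.equivMapOfInjective _ _ H.subtype_injective).toEquiv.symm, ← hn]
        exact lt_of_le_of_ne (Subgroup.card_le_card_group _)
          (fun e => hc (Subgroup.eq_top_of_card_eq _ e))
      have := ih _ hlt D rfl fun K hK => h K (hK.trans (Subgroup.map_subtype_le _))
      have : Group.IsSolvable (commutator H) := Group.isSolvable_of_isSolvable_injective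
        (f := (Subgroup.equivMapOfInjective (commutator H) H.subtype H.subtype_injective).toMonoidHom) (Subgroup.equivMapOfInjective (commutator H) H.subtype H.subtype_injective).injective
      exact Group.isSolvable_of_ker_le_range (commutator H).subtype (Abelianization.of (G := H))
        (by simp [Abelianization.ker_of])

/-- A subgroup of order prime to three is solvable. -/
theorem solvable_of_not_three (H : Subgroup G) (h3 : ¬ 3 ∣ Nat.card H) : Group.IsSolvable H :=
  solvable_of_no_perfect _ H rfl fun K hK hperf =>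
    subsingleton_of_not_three (comp hρ K.subtype K.subtype_injective)
      (fun h => h3 (h.trans (Subgroup.card_dvd_of_le hK))) hperf

/-- **Zassenhaus.** A nontrivial perfect fixed-point-free linear group is `SL(2, 5)`. -/
theorem perfect_iso (hperf : commutator G = ⊤) [Nontrivial G] :
    Nonempty (G ≃* SL) := by
  obtain ⟨h2, x, y, hx, hy, hS⟩ := exists_far hρ hperf
  have hnc := Closure.far_ne_commute hρ h2 hx hy hS
  obtain ⟨f, hf, hfX, hfY, hcl⟩ := exists_hom hρ hx hy hnc (Closure.cc_of_far hρ h2 hx hy hS)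
  set K := f.range
  set C := Subgroup.centralizer (K : Set G)
  have hKn : K.Normal := Closure.range_normal hρ h2 hx hy hS hf hfX hfY hcl
  have hN : K ⊔ C = ⊤ := by
    have : (K ⊔ C).Normal := Subgroup.sup_normal _ _
    by_contra hne
    have hcomm : ∀ a b : G ⧸ (K ⊔ C), a * b = b * a := by
      intro a b
      induction a using QuotientGroup.induction_on with | _ a => ?_
      induction b using QuotientGroup.induction_on with | _ b => ?_
      by_cases ha : a ∈ K ⊔ C
      · rw [(QuotientGroup.eq_one_iff a).mpr ha, one_mul, mul_one]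
      by_cases hb : b ∈ K ⊔ C
      · rw [(QuotientGroup.eq_one_iff b).mpr hb, one_mul, mul_one]
      have e : (a : G ⧸ (K ⊔ C)) = b := QuotientGroup.eq.mpr
        (Closure.coset_pair hρ h2 hx hy hS hf hfX hfY hcl a b ha hb)
      rw [e]
    apply hne
    rw [eq_top_iff, ← hperf, commutator_def, Subgroup.commutator_le]
    intro a _ b _
    rw [← QuotientGroup.eq_one_iff]
    show QuotientGroup.mk' (K ⊔ C) ⁅a, b⁆ = 1
    rw [map_commutatorElement, commutatorElement_eq_one_iff_mul_comm]
    exact hcomm _ _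
  have hC3 : ¬ 3 ∣ Nat.card C := by
    intro h
    have := Fact.mk Nat.prime_three
    obtain ⟨c, hc⟩ := exists_prime_orderOf_dvd_card' 3 h
    have hc' : orderOf (c : G) = 3 := by rw [Subgroup.orderOf_coe, hc]
    have hcK : (c : G) ∈ K := Closure.mem_of_three hρ h2 hx hy hS hf hfX hfY hc'
    have e1 : Commute (c : G) x := (Subgroup.mem_centralizer_iff.mp c.2 x ⟨sX, hfX⟩).symm
    have e2 : Commute (c : G) y := (Subgroup.mem_centralizer_iff.mp c.2 y ⟨sY, hfY⟩).symm
    obtain ⟨i, hi⟩ := unique_prime hρ hc' hx e1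
    obtain ⟨j, hj⟩ := unique_prime hρ hc' hy e2
    exact hnc (hi ▸ hj ▸ Commute.zpow_zpow (Commute.refl (c : G)) i j)
  have := solvable_of_not_three hρ C hC3
  have hsurj : Function.Surjective ((QuotientGroup.mk' K).comp C.subtype) := by
    intro q
    induction q using QuotientGroup.induction_on with | _ g => ?_
    obtain ⟨k, hk, c, hc, rfl⟩ := Subgroup.mem_sup_of_normal_left.mp (hN ▸ Subgroup.mem_top g)
    refine ⟨⟨c, hc⟩, ?_⟩
    show ((c : G) : G ⧸ K) = ((k * c : G) : G ⧸ K)
    rw [QuotientGroup.mk_mul, (QuotientGroup.eq_one_iff k).mpr hk, one_mul]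
  have : Group.IsSolvable (G ⧸ K) := Group.isSolvable_of_surjective hsurj
  have hsub := subsingleton_of_perfect (perfect_of_surjective (QuotientGroup.mk' K)
    (QuotientGroup.mk'_surjective K) hperf)
  have htop : Function.Surjective f := fun g => MonoidHom.mem_range.mp
    ((QuotientGroup.eq_one_iff g).mp (Subsingleton.elim _ _))
  exact ⟨(MulEquiv.ofBijective f ⟨hf, htop⟩).symm⟩

end Cfsg.Agent.Lib.FpfLinear.Perfect
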