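import Mathlib.Algebra.Algebra.Basic
import Mathlib.Algebra.CharP.Basic
import Mathlib.Tactic.Module
import Mathlib.Tactic.NoncommRing
import Mathlib.Tactic.NormNum

/-!
# Identities in algebras generated by elements with square `-3`

These are the identities behind the elementary proof of Zassenhaus's theorem: if `x` satisfies
`x² + x + 1 = 0` then `2x+1` squares to `-3`, and the anticommutators of these elements are the
invariants of the configuration of subgroups of order three.
-/

set_option linter.unusedSimpArgs false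
set_option linter.unusedSectionVars false

namespace Cfsg.Agent.Lib.FpfLinear.Algebra

variable {F : Type*} [Field F] {R : Type*} [Ring R] [Algebra F R]

/-- `2x + 1`. -/
def pr (x : R) : R := 2 * x + 1

/-- The anticommutator. -/
def ac (a b : R) : R := a * b + b * a

theorem pr_sq {x : R} (hx : x * x + x + 1 = 0) : pr x * pr x = -3 := by
  calc pr x * pr x = 4 * (x * x + x + 1) - (1 + 1 + 1) := by unfold pr; noncomm_ring
    _ = -3 := by rw [hx, mul_zero, zero_sub]; norm_num

theorem pr_neg {x : R} : pr (-x - 1) = - pr x := by unfold pr; noncomm_ring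

theorem ac_pr (x y : R) : ac (pr x) (pr y) = 4 * (x * y + y * x + x + y + 1) - 2 := by
  rw [show (2 : R) = 1 + 1 by norm_num]; unfold ac pr; noncomm_ring

theorem ac_comm_left {a b : R} (ha : a * a = -3) : ac a b * a = a * ac a b := by
  have h1 : a * a * b = b * (a * a) := by rw [ha]; noncomm_ring
  calc ac a b * a = a * b * a + b * (a * a) := by unfold ac; noncomm_ring
    _ = a * b * a + a * a * b := by rw [h1]
    _ = a * ac a b := by unfold ac; noncomm_ring

theorem ac_symm (a b : R) : ac a b = ac b a := add_comm _ _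

/-- An anticommutator commutes with both of its arguments. -/
theorem ac_comm_right {a b : R} (hb : b * b = -3) : ac a b * b = b * ac a b := by
  rw [ac_symm]; exact ac_comm_left hb

/-- An element anticommutator commutes with a third element when the two other anticommutators
are integers. -/
theorem ac_comm_third {a b d : R} {m n : ℤ} (hab : ac a b = m) (had : ac a d = n) :
    ac b d * a = a * ac b d := by
  unfold ac at *
  calc (b * d + d * b) * a
      = b * (a * d + d * a) + d * (a * b + b * a) - (b * a * d + d * a * b) := by noncomm_ring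
    _ = (a * d + d * a) * b + (a * b + b * a) * d - (b * a * d + d * a * b) := by
        rw [had, hab, (Int.cast_commute n b).eq, (Int.cast_commute m d).eq]
    _ = a * (b * d + d * b) := by noncomm_ring

variable (F)

theorem neg_three : (-3 : R) = (-3 : F) • (1 : R) := by
  rw [Algebra.smul_def, mul_one, map_neg, map_ofNat]

theorem num_smul (n : ℕ) [n.AtLeastTwo] :
    (OfNat.ofNat n : R) = (OfNat.ofNat n : F) • (1 : R) := by
  rw [Algebra.smul_def, mul_one, map_ofNat]

theorem neg_num_smul (n : ℕ) [n.AtLeastTwo] :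
    (-OfNat.ofNat n : R) = (-OfNat.ofNat n : F) • (1 : R) := by
  rw [Algebra.smul_def, mul_one, map_neg, map_ofNat]

variable {F}

/-- Right multiplication forms of a rewriting rule. -/
theorem sq_rule {a : R} (ha : a * a = -3) :
    a * a = (-3 : F) • (1 : R) ∧ ∀ r : R, a * (a * r) = (-3 : F) • r := by
  have h : a * a = (-3 : F) • (1 : R) := ha.trans (neg_three F)
  exact ⟨h, fun r => by rw [← mul_assoc, h, smul_mul_assoc, one_mul]⟩

theorem swap_rule {a d σ : R} (had : ac a d = σ) :
    d * a = σ - a * d ∧ ∀ r : R, d * (a * r) = σ * r - a * (d * r) := by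
  have h : d * a = σ - a * d := by rw [eq_sub_iff_add_eq', ← had]; rfl
  exact ⟨h, fun r => by rw [← mul_assoc, h, sub_mul, mul_assoc]⟩

theorem central_rule {a σ : R} (h : σ * a = a * σ) :
    a * σ = σ * a ∧ ∀ r : R, a * (σ * r) = σ * (a * r) :=
  ⟨h.symm, fun r => by rw [← mul_assoc, ← h, mul_assoc]⟩

/-- The conjugate of the second element by a power of the first, as polynomials. -/
def cj (a b : R) : R := (a - 1) * b * (-a - 1)

/-- The inverse conjugate. -/
def cj' (a b : R) : R := (-a - 1) * b * (a - 1)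

theorem pr_cj {x y : R} (hx : x * x + x + 1 = 0) :
    (4 : R) * pr (x * y * (-x - 1)) = cj (pr x) (pr y) ∧
    (4 : R) * pr ((-x - 1) * y * x) = cj' (pr x) (pr y) := by
  simp only [cj, cj', pr]
  constructor
  · calc (4 : R) * (2 * (x * y * (-x - 1)) + 1)
        = (2 * x + 1 - 1) * (2 * y + 1) * (-(2 * x + 1) - 1) + 4 * (x * x + x + 1) := by
          noncomm_ring
      _ = _ := by rw [hx, mul_zero, add_zero]
  · calc (4 : R) * (2 * ((-x - 1) * y * x) + 1)
        = (-(2 * x + 1) - 1) * (2 * y + 1) * (2 * x + 1 - 1) + 4 * (x * x + x + 1) := by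
          noncomm_ring
      _ = _ := by rw [hx, mul_zero, add_zero]

theorem far_edge {a b s : R} (ha : a * a = -3) (hb : b * b = -3) (hab : ac a b = s) :
    ac a (cj b a) = (12 : F) • (1 : R) - s * s := by
  obtain ⟨A1, A2⟩ := sq_rule (F := F) ha
  obtain ⟨B1, B2⟩ := sq_rule (F := F) hb
  obtain ⟨W1, W2⟩ := swap_rule hab
  obtain ⟨C1, C2⟩ := central_rule (hab ▸ ac_comm_left ha : s * a = a * s)
  obtain ⟨D1, D2⟩ := central_rule (hab ▸ ac_comm_right hb : s * b = b * s)
  simp only [ac, cj, mul_add, add_mul, mul_sub, sub_mul, smul_add, smul_sub, smul_mul_assoc,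
    mul_smul_comm, neg_mul, mul_neg, mul_assoc, smul_smul, A1, A2, B1, B2, W1, W2, C1, C2, D1, D2,
    mul_one, one_mul]
  module

section Triangle

variable {a b d : R} (ha : a * a = -3) (hb : b * b = -3) (hd : d * d = -3)
include ha hb hd

theorem tri_sq (hab : ac a b = 2) (had : ac a d = 2) (hbd : ac b d = 2) :
    let k : R := (2 : F) • (a * b) - (2 : F) • 1
    let T : R := k * ((2 : F) • d + a + b)
    T * T = (256 : F) • (1 : R) ∧ k * k = (-32 : F) • (1 : R) := by
  obtain ⟨A1, A2⟩ := sq_rule (F := F) ha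
  obtain ⟨B1, B2⟩ := sq_rule (F := F) hb
  obtain ⟨D1, D2⟩ := sq_rule (F := F) hd
  obtain ⟨U1, U2⟩ := swap_rule (hab.trans (num_smul F 2))
  obtain ⟨V1, V2⟩ := swap_rule (had.trans (num_smul F 2))
  obtain ⟨W1, W2⟩ := swap_rule (hbd.trans (num_smul F 2))
  constructor <;>
  · simp only [mul_add, add_mul, mul_sub, sub_mul, smul_add, smul_sub, smul_mul_assoc,
      mul_smul_comm, neg_mul, mul_neg, mul_assoc, smul_smul, A1, A2, B1, B2, D1, D2, U1, U2, V1, V2,
      W1, W2, mul_one, one_mul]
    module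

theorem tri_conj (hab : ac a b = 2) :
    cj a b = -(2 : F) • a - (2 : F) • b - ((2 : F) • (a * b) - (2 : F) • (1 : R)) ∧
    cj' a b = -(2 : F) • a - (2 : F) • b + ((2 : F) • (a * b) - (2 : F) • (1 : R)) := by
  obtain ⟨A1, A2⟩ := sq_rule (F := F) ha
  obtain ⟨B1, B2⟩ := sq_rule (F := F) hb
  obtain ⟨U1, U2⟩ := swap_rule (hab.trans (num_smul F 2))
  constructor <;>
  · simp only [cj, cj', mul_add, add_mul, mul_sub, sub_mul, smul_add, smul_sub, smul_mul_assoc,
      mul_smul_comm, neg_mul, mul_neg, mul_assoc, smul_smul, A1, A2, B1, B2, U1, U2,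
      mul_one, one_mul]
    module

theorem opposite_sq (hab : ac a b = 2) (had : ac a d = 2) (hbd : ac b d = -2) :
    ac d (cj' a b) * ac d (cj' a b) = (320 : F) • (1 : R) := by
  obtain ⟨A1, A2⟩ := sq_rule (F := F) ha
  obtain ⟨B1, B2⟩ := sq_rule (F := F) hb
  obtain ⟨D1, D2⟩ := sq_rule (F := F) hd
  obtain ⟨U1, U2⟩ := swap_rule (hab.trans (num_smul F 2))
  obtain ⟨V1, V2⟩ := swap_rule (had.trans (num_smul F 2))
  obtain ⟨W1, W2⟩ := swap_rule (hbd.trans (neg_num_smul F 2))
  simp only [ac, cj', mul_add, add_mul, mul_sub, sub_mul, smul_add, smul_sub, smul_mul_assoc,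
      mul_smul_comm, neg_mul, mul_neg, mul_assoc, smul_smul, A1, A2, B1, B2, D1, D2, U1, U2, V1, V2,
      W1, W2, mul_one, one_mul]
  module

theorem star_sums (hab : ac a b = 2) (had : ac a d = 2) :
    (4 : F) • ac b d + ac b (cj a d) + ac b (cj' a d) = (-8 : F) • (1 : R) ∧
    (16 : F) • (ac b d * ac b d) + ac b (cj a d) * ac b (cj a d) +
      ac b (cj' a d) * ac b (cj' a d) = (704 : F) • (1 : R) := by
  obtain ⟨A1, A2⟩ := sq_rule (F := F) ha
  obtain ⟨B1, B2⟩ := sq_rule (F := F) hb
  obtain ⟨D1, D2⟩ := sq_rule (F := F) hd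
  obtain ⟨U1, U2⟩ := swap_rule (hab.trans (num_smul F 2))
  obtain ⟨V1, V2⟩ := swap_rule (had.trans (num_smul F 2))
  generalize hσ : ac b d = σ
  obtain ⟨W1, W2⟩ := swap_rule hσ
  obtain ⟨E1, E2⟩ := central_rule (hσ ▸ ac_comm_third (m := 2) (n := 2) (by simpa using hab)
    (by simpa using had) : σ * a = a * σ)
  obtain ⟨F1, F2⟩ := central_rule (hσ ▸ ac_comm_left hb : σ * b = b * σ)
  obtain ⟨G1, G2⟩ := central_rule (hσ ▸ ac_comm_right hd : σ * d = d * σ)
  constructor <;>
  · simp only [ac, cj, cj', mul_add, add_mul, mul_sub, sub_mul, smul_add, smul_sub, smul_mul_assoc,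
      mul_smul_comm, neg_mul, mul_neg, mul_assoc, smul_smul, A1, A2, B1, B2, D1, D2, U1, U2, V1, V2,
      W1, W2, E1, E2, F1, F2, G1, G2, mul_one, one_mul]
    module

end Triangle

/-- Sixteen times the conjugate of `d` by `x y⁻¹`. -/
def tw (a b d : R) : R := (1 + b - a - a * b) * d * (1 + a - b - b * a)

theorem pr_tw {x y u : R} (hx : x * x + x + 1 = 0) (hy : y * y + y + 1 = 0) :
    (16 : R) * pr (x * (-y - 1) * u * (y * (-x - 1))) = tw (pr x) (pr y) (pr u) := by
  have h1 : (1 : R) + pr y - pr x - pr x * pr y = 4 * (x * (-y - 1)) := by unfold pr; noncomm_ring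
  have h2 : (1 : R) + pr x - pr y - pr y * pr x = 4 * (y * (-x - 1)) := by unfold pr; noncomm_ring
  have h3 : x * (-y - 1) * (y * (-x - 1)) = 1 := by
    calc x * (-y - 1) * (y * (-x - 1))
        = x * (-(y * y + y + 1) + 1) * (-x - 1) := by noncomm_ring
      _ = x * (-x - 1) := by rw [hy]; noncomm_ring
      _ = -(x * x + x + 1) + 1 := by noncomm_ring
      _ = 1 := by rw [hx, neg_zero, zero_add]
  unfold tw
  rw [h1, h2]
  unfold pr
  calc (16 : R) * (2 * (x * (-y - 1) * u * (y * (-x - 1))) + 1)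
      = 16 * (2 * (x * (-y - 1) * u * (y * (-x - 1))) + x * (-y - 1) * (y * (-x - 1))) := by
        rw [h3]
    _ = _ := by noncomm_ring

theorem tw_eq {a b d : R} (ha : a * a = -3) (hb : b * b = -3) (hd : d * d = -3)
    (hab : ac a b = 2) (had : ac a d = 2) (hbd : ac b d = -2) :
    tw a b d = (8 : F) • (1 + a * d - a * b + b * d) := by
  obtain ⟨A1, A2⟩ := sq_rule (F := F) ha
  obtain ⟨B1, B2⟩ := sq_rule (F := F) hb
  obtain ⟨D1, D2⟩ := sq_rule (F := F) hd
  obtain ⟨U1, U2⟩ := swap_rule (hab.trans (num_smul F 2))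
  obtain ⟨V1, V2⟩ := swap_rule (had.trans (num_smul F 2))
  obtain ⟨W1, W2⟩ := swap_rule (hbd.trans (neg_num_smul F 2))
  simp only [tw, mul_add, add_mul, mul_sub, sub_mul, smul_add, smul_sub, smul_mul_assoc,
      mul_smul_comm, neg_mul, mul_neg, mul_assoc, smul_smul, A1, A2, B1, B2, D1, D2, U1, U2, V1, V2,
      W1, W2, mul_one, one_mul]
  module

theorem star_twist {a b d e : R} (ha : a * a = -3) (hb : b * b = -3) (hd : d * d = -3)
    (he : e * e = -3) (hab : ac a b = 2) (had : ac a d = 2) (hae : ac a e = 2)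
    (hbd : ac b d = -2) (hbe : ac b e = -2) :
    ac a (tw a b d) * ac a (tw a b d) = (5120 : F) • (1 : R) ∧
    ac e (tw a b d) * ac e (tw a b d) =
      (8192 : F) • (1 : R) - (1024 : F) • ac d e - (256 : F) • (ac d e * ac d e) := by
  rw [tw_eq (F := F) ha hb hd hab had hbd]
  obtain ⟨A1, A2⟩ := sq_rule (F := F) ha
  obtain ⟨B1, B2⟩ := sq_rule (F := F) hb
  obtain ⟨D1, D2⟩ := sq_rule (F := F) hd
  obtain ⟨X1, X2⟩ := sq_rule (F := F) he
  obtain ⟨U1, U2⟩ := swap_rule (hab.trans (num_smul F 2))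
  obtain ⟨V1, V2⟩ := swap_rule (had.trans (num_smul F 2))
  obtain ⟨Y1, Y2⟩ := swap_rule (hae.trans (num_smul F 2))
  obtain ⟨W1, W2⟩ := swap_rule (hbd.trans (neg_num_smul F 2))
  obtain ⟨Z1, Z2⟩ := swap_rule (hbe.trans (neg_num_smul F 2))
  generalize hσ : ac d e = σ
  obtain ⟨S1, S2⟩ := swap_rule hσ
  have h2 : ac a d = ((2 : ℤ) : R) := by simpa using had
  obtain ⟨E1, E2⟩ := central_rule (hσ ▸ ac_comm_third (m := 2) (n := 2) h2
    (by simpa using hae) : σ * a = a * σ)
  obtain ⟨F1, F2⟩ := central_rule (hσ ▸ ac_comm_third (m := -2) (n := -2) (by simpa using hbd)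
    (by simpa using hbe) : σ * b = b * σ)
  obtain ⟨G1, G2⟩ := central_rule (hσ ▸ ac_comm_left hd : σ * d = d * σ)
  obtain ⟨H1, H2⟩ := central_rule (hσ ▸ ac_comm_right he : σ * e = e * σ)
  constructor
  · simp only [ac, mul_add, add_mul, mul_sub, sub_mul, smul_add, smul_sub, smul_mul_assoc,
      mul_smul_comm, neg_mul, mul_neg, mul_assoc, smul_smul, A1, A2, B1, B2, D1, D2, U1, U2, V1, V2,
      W1, W2, mul_one, one_mul]
    module
  · have hP : ac e ((8 : F) • (1 + a * d - a * b + b * d)) =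
        (16 : F) • (a * (d * e) - a * (b * e) + b * (d * e) + e - a - b) -
          (8 : F) • (σ * a + σ * b) := by
      simp only [ac, mul_add, add_mul, mul_sub, sub_mul, smul_add, smul_sub, smul_mul_assoc,
        mul_smul_comm, neg_mul, mul_neg, mul_assoc, smul_smul, A1, A2, B1, B2, D1, D2, X1, X2, U1,
        U2, V1, V2, Y1, Y2, W1, W2, Z1, Z2, S1, S2, E1, E2, F1, F2, mul_one, one_mul]
      module
    rw [hP]
    simp only [mul_add, add_mul, mul_sub, sub_mul, smul_add, smul_sub, smul_mul_assoc,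
      mul_smul_comm, neg_mul, mul_neg, mul_assoc, smul_smul, A1, A2, B1, B2, D1, D2, X1, X2, U1, U2,
      V1, V2, Y1, Y2, W1, W2, Z1, Z2, S1, S2, E1, E2, F1, F2, G1, G2, H1, H2, mul_one, one_mul]
    module

end Cfsg.Agent.Lib.FpfLinear.Algebra
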