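import Mathlib.LinearAlgebra.Eigenspace.Triangularizable
import Mathlib.FieldTheory.IsAlgClosed.Basic
import Mathlib.GroupTheory.Exponent
import Mathlib.GroupTheory.Perm.Cycle.Type
import Mathlib.RingTheory.RootsOfUnity.PrimitiveRoots
import Mathlib.Algebra.CharP.Algebra
import Mathlib.Algebra.CharP.Lemmas
import Mathlib.Tactic.Module
import Mathlib.Tactic.NoncommRing

/-!
# Fixed-point-free linear actions

Elementary consequences: unique involution, quadratic identities for elements of small order,
cyclicity of commuting elements.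
-/

namespace Cfsg.Agent.Lib.FpfLinear.Basic

open Module

variable {F : Type*} [Field F] {V : Type*} [AddCommGroup V] [Module F V] {G : Type*} [Group G]

/-- Every non-identity element fixes only zero. -/
def IsLinFPF (ρ : G →* Module.End F V) : Prop := ∀ g : G, g ≠ 1 → ∀ v : V, ρ g v = v → v = 0

variable {ρ : G →* Module.End F V} (hρ : IsLinFPF ρ)
include hρ

theorem eq_one_of_fixed {g : G} {v : V} (hv : v ≠ 0) (h : ρ g v = v) : g = 1 := by
  by_contra hg
  exact hv (hρ g hg v h)

theorem eq_of_agree {g h : G} {v : V} (hv : v ≠ 0) (e : ρ g v = ρ h v) : g = h := by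
  refine (inv_mul_eq_one.mp (eq_one_of_fixed hρ hv ?_)).symm
  rw [map_mul, Module.End.mul_apply, e, ← Module.End.mul_apply, ← map_mul, inv_mul_cancel,
    map_one, Module.End.one_apply]

theorem injective [Nontrivial V] : Function.Injective ρ := by
  intro g h e
  obtain ⟨v, hv⟩ := exists_ne (0 : V)
  exact eq_of_agree hρ hv (by rw [e])

theorem comp {H : Type*} [Group H] (f : H →* G) (hf : Function.Injective f) :
    IsLinFPF (ρ.comp f) := fun h hh v hv =>
  hρ (f h) (fun e => hh (hf (e.trans (map_one f).symm))) v hv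

/-- The sum over the powers of a non-identity element vanishes. -/
theorem geom_sum_eq_zero {g : G} (hg : g ≠ 1) {n : ℕ} (hn : g ^ n = 1) :
    ∑ i ∈ Finset.range n, ρ g ^ i = 0 := by
  refine LinearMap.ext fun v => ?_
  refine hρ g hg _ ?_
  have h : (ρ g - 1) * ∑ i ∈ Finset.range n, ρ g ^ i = 0 := by
    rw [mul_geom_sum, ← map_pow, hn, map_one, sub_self]
  have := LinearMap.congr_fun h v
  simpa [Module.End.mul_apply, sub_eq_zero] using this

theorem natCast_ne_zero [Finite G] [Nontrivial V] {p : ℕ} (hp : p.Prime) (hd : p ∣ Nat.card G) :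
    (p : F) ≠ 0 := by
  intro h0
  have := Fact.mk hp
  obtain ⟨g, hg⟩ := exists_prime_orderOf_dvd_card' p hd
  have hg1 : g ≠ 1 := fun h => hp.ne_one (by rw [← hg, h, orderOf_one])
  have : CharP F p := CharP.ringChar_of_prime_eq_zero hp h0 ▸ ringChar.charP F
  have : CharP (Module.End F V) p :=
    charP_of_injective_ringHom (RingHom.injective (algebraMap F (Module.End F V))) p
  have hnil : (ρ g - 1) ^ p = 0 := by
    rw [sub_pow_char_of_commute (p := p) (Commute.one_right _), one_pow, ← map_pow,
      ← hg, pow_orderOf_eq_one, map_one, sub_self]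
  obtain ⟨v, hv⟩ := exists_ne (0 : V)
  have hinj : ∀ w : V, (ρ g - 1) w = 0 → w = 0 := fun w hw =>
    hρ g hg1 w (sub_eq_zero.mp (by simpa using hw))
  have key : ∀ k : ℕ, ((ρ g - 1) ^ k : Module.End F V) v ≠ 0 := by
    intro k
    induction k with
    | zero => simpa using hv
    | succ k ih => rw [pow_succ', Module.End.mul_apply]; exact fun h => ih (hinj _ h)
  exact key p (by rw [hnil]; rfl)

theorem eq_neg_one {g : G} (hg : g ≠ 1) (h2 : g ^ 2 = 1) : ρ g = -1 := by
  have h := geom_sum_eq_zero hρ hg h2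
  rw [Finset.sum_range_succ, Finset.sum_range_one, pow_zero, pow_one] at h
  exact eq_neg_of_add_eq_zero_right h

theorem involution_unique [Nontrivial V] {g h : G} (hg : g ≠ 1) (hg2 : g ^ 2 = 1) (hh : h ≠ 1)
    (hh2 : h ^ 2 = 1) : g = h :=
  injective hρ (by rw [eq_neg_one hρ hg hg2, eq_neg_one hρ hh hh2])

theorem involution_comm [Nontrivial V] {g : G} (hg : g ≠ 1) (hg2 : g ^ 2 = 1) (h : G) :
    g * h = h * g :=
  injective hρ (by rw [map_mul, map_mul, eq_neg_one hρ hg hg2, neg_one_mul, mul_neg_one])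

theorem order_three {g : G} (hg : orderOf g = 3) : ρ g * ρ g + ρ g + 1 = 0 := by
  have h1 : g ≠ 1 := fun h => by simp [h] at hg
  have h := geom_sum_eq_zero hρ h1 (n := 3) (by rw [← hg, pow_orderOf_eq_one])
  simp only [Finset.sum_range_succ, Finset.sum_range_zero, pow_zero, pow_one, zero_add] at h
  rw [← sq]
  rw [← h]
  abel

theorem order_four {g : G} (hg : orderOf g = 4) : ρ g * ρ g = -1 := by
  rw [← map_mul, ← sq]
  refine eq_neg_one hρ ?_ (by rw [← pow_mul]; exact orderOf_dvd_iff_pow_eq_one.mp hg.dvd)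
  intro h
  have := orderOf_dvd_of_pow_eq_one h
  rw [hg] at this
  norm_num at this

theorem order_six {g : G} (hg : orderOf g = 6) : ρ g * ρ g - ρ g + 1 = 0 := by
  have h3 : ρ (g ^ 3) = -1 := by
    refine eq_neg_one hρ ?_ (by rw [← pow_mul]; exact orderOf_dvd_iff_pow_eq_one.mp hg.dvd)
    intro h
    have := orderOf_dvd_of_pow_eq_one h
    rw [hg] at this
    norm_num at this
  have h2 : g ^ 2 ≠ 1 := by
    intro h
    have := orderOf_dvd_of_pow_eq_one h
    rw [hg] at this
    norm_num at this
  refine LinearMap.ext fun v => hρ (g ^ 2) h2 _ ?_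
  have h : (ρ g + 1) * (ρ g * ρ g - ρ g + 1) = 0 := by
    have : ρ g * ρ g * ρ g = -1 := by rw [← h3, map_pow, pow_three']
    calc _ = ρ g * ρ g * ρ g + 1 := by noncomm_ring
      _ = 0 := by rw [this, neg_add_cancel]
  have hm := LinearMap.congr_fun h v
  set w := (ρ g * ρ g - ρ g + 1 : Module.End F V) v
  simp only [Module.End.mul_apply, LinearMap.add_apply, Module.End.one_apply,
    LinearMap.zero_apply] at hm
  have hgw : ρ g w = -w := eq_neg_of_add_eq_zero_left hm
  rw [map_pow, sq, Module.End.mul_apply, hgw, map_neg, hgw, neg_neg]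

theorem inv_eq_of_order_three {g : G} (hg : orderOf g = 3) : ρ g⁻¹ = -ρ g - 1 := by
  have h1 : g * g = g⁻¹ := by
    refine eq_inv_of_mul_eq_one_left ?_
    rw [← pow_three', ← hg, pow_orderOf_eq_one]
  have h := order_three hρ hg
  rw [← h1, map_mul, ← sub_eq_zero]
  rw [← h]
  abel

variable [IsAlgClosed F] [FiniteDimensional F V] [Nontrivial V] [Finite G]

theorem mem_zpowers_of_commute {x y : G} (hxy : Commute x y) (hy : orderOf y ∣ orderOf x) :
    y ∈ Subgroup.zpowers x := by
  obtain ⟨μ, hμ⟩ := Module.End.exists_eigenvalue (ρ x)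
  set E := Module.End.eigenspace (ρ x) μ with hE
  have hinv : ∀ v ∈ E, ρ y v ∈ E := by
    intro v hv
    rw [hE, Module.End.mem_eigenspace_iff] at hv ⊢
    rw [← Module.End.mul_apply, ← map_mul, hxy.eq, map_mul, Module.End.mul_apply, hv, map_smul]
  have : Nontrivial E := Submodule.nontrivial_iff_ne_bot.mpr hμ
  obtain ⟨ν, hν⟩ := Module.End.exists_eigenvalue ((ρ y).restrict hinv)
  obtain ⟨⟨w, hwE⟩, hw⟩ := hν.exists_hasEigenvector
  have hw0 : w ≠ 0 := fun h => hw.2 (Subtype.ext h)
  have hyw : ρ y w = ν • w := congrArg Subtype.val (Module.End.mem_eigenspace_iff.mp hw.1)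
  have hxw : ρ x w = μ • w := Module.End.mem_eigenspace_iff.mp hwE
  have hpow : ∀ (k : G) (t : F), ρ k w = t • w → ∀ n : ℕ, ρ (k ^ n) w = t ^ n • w := by
    intro k t hk n
    induction n with
    | zero => simp
    | succ n ih => rw [pow_succ, map_mul, Module.End.mul_apply, hk, map_smul, ih, smul_smul,
        pow_succ, mul_comm]
  set n := orderOf x
  have hprim : IsPrimitiveRoot μ n := by
    refine ⟨?_, fun k hk => ?_⟩
    · have := hpow x μ hxw n
      rw [pow_orderOf_eq_one, map_one, Module.End.one_apply] at this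
      exact (smul_left_injective F hw0 (by simp only [one_smul]; exact this)).symm
    · exact orderOf_dvd_of_pow_eq_one
        (eq_one_of_fixed hρ hw0 (by rw [hpow x μ hxw k, hk, one_smul]))
  have hνn : ν ^ n = 1 := by
    have := hpow y ν hyw n
    rw [orderOf_dvd_iff_pow_eq_one.mp hy, map_one, Module.End.one_apply] at this
    exact (smul_left_injective F hw0 (by simp only [one_smul]; exact this)).symm
  have : NeZero n := ⟨(orderOf_pos x).ne'⟩
  obtain ⟨i, -, hi⟩ := hprim.eq_pow_of_pow_eq_one hνn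
  have : y = x ^ i := eq_of_agree hρ hw0 (by rw [hyw, hpow x μ hxw i, hi])
  exact this ▸ Subgroup.npow_mem_zpowers x i

theorem isCyclic_of_comm (A : Subgroup G) (hA : IsMulCommutative A) : IsCyclic A := by
  let _ : CommGroup A := { (inferInstance : Group A) with mul_comm := fun a b => hA.is_comm.comm a b }
  obtain ⟨a, ha⟩ := Monoid.exists_orderOf_eq_exponent (G := A)
    (Monoid.ExponentExists.of_finite (G := A))
  refine ⟨a, fun b => ?_⟩
  have hy : orderOf (b : G) ∣ orderOf (a : G) := by
    rw [Subgroup.orderOf_coe, Subgroup.orderOf_coe, ha]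
    exact Monoid.order_dvd_exponent b
  obtain ⟨k, hk⟩ := mem_zpowers_of_commute hρ
    (show Commute (a : G) b from congrArg Subtype.val (hA.is_comm.comm a b)) hy
  exact ⟨k, Subtype.ext (by simpa using hk)⟩

end Cfsg.Agent.Lib.FpfLinear.Basic
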