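import Cfsg.Agent.Lib.FpfLinear.Hom

/-!
# The subgroup generated by a far pair

It contains every element of order three; together with its centraliser it has index at most two.
-/

set_option linter.unusedSectionVars false

namespace Cfsg.Agent.Lib.FpfLinear.Closure

open Cfsg.Agent.Lib.FpfLinear.Basic Cfsg.Agent.Lib.FpfLinear.Model Cfsg.Agent.Lib.FpfLinear.Hom
  Cfsg.Agent.Lib.FpfLinear.Geometry Module

variable {F : Type*} [Field F] [IsAlgClosed F] {V : Type*} [AddCommGroup V] [Module F V]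
  [FiniteDimensional F V] [Nontrivial V] {G : Type*} [Group G] [Finite G]
  {ρ : G →* Module.End F V} (hρ : IsLinFPF ρ)
include hρ

theorem inv_three {a : G} (ha : orderOf a = 3) : a⁻¹ = a * a :=
  (eq_inv_of_mul_eq_one_left (by rw [← pow_three', ← ha, pow_orderOf_eq_one])).symm

theorem far_ne_commute (h2 : (2 : F) ≠ 0) {x y : G} (hx : orderOf x = 3) (hy : orderOf y = 3)
    (h : S ρ x y * S ρ x y = (20 : F) • 1) : ¬ Commute x y := by
  intro hc
  have h36 : S ρ x y * S ρ x y = (36 : F) • 1 := by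
    rcases zpowers_three hx (mem_zpowers_of_commute hρ hc (by rw [hx, hy])) with e | e | e
    · exact absurd hy (by simp [e])
    · rw [e, S_self hρ hx, smul_mul_smul_comm, mul_one]; norm_num
    · rw [e, S_inv hρ hx, S_self hρ hx, neg_mul_neg, smul_mul_smul_comm, mul_one]; norm_num
  exact sixteen_ne hρ h2 (by linear_combination -(smul_one_inj (h.symm.trans h36)))

theorem cc_of_far (h2 : (2 : F) ≠ 0) {x y : G} (hx : orderOf x = 3) (hy : orderOf y = 3)
    (h : S ρ x y * S ρ x y = (20 : F) • 1) :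
    Pair.cc ρ x y * Pair.cc ρ x y = Pair.cc ρ x y + 1 := by
  have hS : S ρ x y = (4 : F) • Pair.cc ρ x y - (2 : F) • 1 := by
    rw [← Algebra.num_smul F 2, S, Algebra.ac_pr, Algebra.num_smul F 4, smul_mul_assoc, one_mul]
    rfl
  obtain ⟨-, e | e | e⟩ := Pair.cases hρ hx hy (far_ne_commute hρ h2 hx hy h)
  · rw [hS, e, smul_zero, zero_sub, neg_mul_neg, smul_mul_smul_comm, mul_one] at h
    exact absurd (sixteen_ne hρ h2) (not_not.mpr (by linear_combination -(smul_one_inj h)))
  · rw [hS, e, ← sub_smul, smul_mul_smul_comm, mul_one] at h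
    exact absurd (sixteen_ne hρ h2) (not_not.mpr (by linear_combination -(smul_one_inj h)))
  · exact e

variable (h2 : (2 : F) ≠ 0) {x y : G} (hx : orderOf x = 3) (hy : orderOf y = 3)
  (hS : S ρ x y * S ρ x y = (20 : F) • 1) {f : SL →* G} (hf : Function.Injective f)
  (hfX : f sX = x) (hfY : f sY = y)
include h2 hx hy hS hf hfX hfY

theorem exists_conj {p : G} (hp : p ∈ f.range) (hp3 : orderOf p = 3) :
    ∃ k ∈ f.range, p = k * x * k⁻¹ := by
  obtain ⟨g, rfl⟩ := hp
  rw [orderOf_injective f hf] at hp3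
  obtain ⟨w, -, hw⟩ := conj_three _ _ _ _ (quad_det g)
    (by
      have : quad (g ^ 3) = qI := by rw [← hp3, pow_orderOf_eq_one, quad_one]
      rwa [pow_three', quad_mul, quad_mul] at this)
    (fun h => by
      have : g = 1 := quad_injective (h.trans quad_one.symm)
      simp [this] at hp3)
  have hwd : qdet (qword w) = 1 := by
    clear hw
    induction w with
    | nil => decide
    | cons s w ih => rw [qword, qdet_qm, ih]; cases s <;> decide
  refine ⟨f (ofQuad (qword w) hwd), ⟨_, rfl⟩, ?_⟩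
  rw [eq_mul_inv_iff_mul_eq, ← hfX, ← map_mul, ← map_mul]
  congr 1
  apply quad_injective
  rw [quad_mul, quad_mul, sX, quad_ofQuad, quad_ofQuad]
  exact hw.symm

omit h2 hS in
theorem mem_x : x ∈ f.range := ⟨sX, hfX⟩

theorem edge_at_x {u : G} (hu : orderOf u = 3) (h : S ρ x u = (2 : F) • 1) : u ∈ f.range := by
  have hx' := inv_three hρ hx
  have hy' := inv_three hρ hy
  have hord : ∀ a b : G, orderOf b = 3 → orderOf (a * b * a⁻¹)⁻¹ = 3 := fun a b hb => by
    rw [orderOf_inv, ← MulAut.conj_apply, MulEquiv.orderOf_eq, hb]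
  have hS' : S ρ x y⁻¹ * S ρ x y⁻¹ = (20 : F) • 1 := by rw [S_inv hρ hy, neg_mul_neg, hS]
  have hy'' : orderOf y⁻¹ = 3 := by rw [orderOf_inv, hy]
  set q1 := (y * x * y⁻¹)⁻¹ with hq1
  set q2 := (y⁻¹ * x * y⁻¹⁻¹)⁻¹ with hq2
  have s1 : S ρ x q1 = (2 : F) • 1 := by
    rw [hq1, S_inv hρ (by rw [← MulAut.conj_apply, MulEquiv.orderOf_eq, hx]), far hρ h2 hx hy hS,
      ← neg_smul, neg_neg]
  have s2 : S ρ x q2 = (2 : F) • 1 := by
    rw [hq2, S_inv hρ (by rw [← MulAut.conj_apply, MulEquiv.orderOf_eq, hx]),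
      far hρ h2 hx hy'' hS', ← neg_smul, neg_neg]
  have e1 : q1 = f (sY * (sX * sX) * (sY * sY)) := by
    rw [map_mul, map_mul, map_mul, map_mul, hfX, hfY, ← hx', ← hy', hq1]; group
  have e2 : q2 = f (sY * sY * (sX * sX) * sY) := by
    rw [map_mul, map_mul, map_mul, map_mul, hfX, hfY, ← hx', ← hy', hq2]; group
  have hclosed : ∀ q u : G, q ∈ f.range → Rot x q u → u ∈ f.range := by
    rintro q v hq ⟨k, hk, rfl⟩
    have hk' : k ∈ f.range := Subgroup.zpowers_le.mpr (mem_x hρ hx hy hf hfX hfY) hk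
    exact mul_mem (mul_mem hk' hq) (inv_mem hk')
  have hdist : ¬ Rot x q1 q2 := by
    intro hr
    obtain ⟨l0, l1, l2⟩ := Model.lines
    have hxe : x⁻¹ = f (sX * sX) := by rw [map_mul, hfX, hx']
    rcases hr.cases hx with e | e | e
    · rw [e1, e2] at e
      apply l0
      have := congrArg quad (hf e)
      simpa [quad_mul, sX, sY, quad_ofQuad, sq2] using this
    · rw [e1, e2, hxe, ← hfX, ← map_mul, ← map_mul] at e
      apply l1
      have := congrArg quad (hf e)
      simpa [quad_mul, sX, sY, quad_ofQuad, sq2] using this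
    · rw [e1, e2, hxe, ← hfX, ← map_mul, ← map_mul] at e
      apply l2
      have := congrArg quad (hf e)
      simpa [quad_mul, sX, sY, quad_ofQuad, sq2] using this
  by_cases hr : Rot x q1 u
  · exact hclosed q1 u (e1 ▸ ⟨_, rfl⟩) hr
  · exact hclosed q2 u (e2 ▸ ⟨_, rfl⟩)
      (two_lines hρ h2 hx (hord _ _ hx) (hord _ _ hx) hu s1 s2 h hdist hr)

theorem edge_at_x' {u : G} (hu : orderOf u = 3) {t : F} (h : S ρ x u = t • 1)
    (ht : t = 2 ∨ t = -2) : u ∈ f.range := by
  rcases ht with rfl | rfl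
  · exact edge_at_x hρ h2 hx hy hS hf hfX hfY hu h
  · rw [← inv_inv u]
    refine inv_mem (edge_at_x hρ h2 hx hy hS hf hfX hfY (by rw [orderOf_inv, hu]) ?_)
    rw [S_inv hρ hu, h, ← neg_smul, neg_neg]

theorem mem_of_three {u : G} (hu : orderOf u = 3) : u ∈ f.range := by
  have hmem := mem_x hρ hx hy hf hfX hfY
  rcases five hρ h2 hx hu with ⟨rfl, -⟩ | ⟨rfl, -⟩ | e | e | e
  · exact hmem
  · exact inv_mem hmem
  · exact edge_at_x' hρ h2 hx hy hS hf hfX hfY hu e (Or.inr rfl)
  · exact edge_at_x' hρ h2 hx hy hS hf hfX hfY hu e (Or.inl rfl)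
  · have hu' : orderOf u⁻¹ = 3 := by rw [orderOf_inv, hu]
    have hord : ∀ a : G, orderOf (a * x * a⁻¹) = 3 := fun a => by
      rw [← MulAut.conj_apply, MulEquiv.orderOf_eq, hx]
    have h1 : u * x * u⁻¹ ∈ f.range :=
      edge_at_x' hρ h2 hx hy hS hf hfX hfY (hord u) (far hρ h2 hx hu e) (Or.inr rfl)
    have h1' : u⁻¹ * x * u⁻¹⁻¹ ∈ f.range :=
      edge_at_x' hρ h2 hx hy hS hf hfX hfY (hord _)
        (far hρ h2 hx hu' (by rw [S_inv hρ hu, neg_mul_neg, e])) (Or.inr rfl)
    obtain ⟨f', -, hX', hY', -⟩ := exists_hom hρ hx hu (far_ne_commute hρ h2 hx hu e)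
      (cc_of_far hρ h2 hx hu e)
    have hw : sY = sX * sX * (sY * sY * sX * sY) * sX * (sY * sX * (sY * sY)) * sX * sX := by
      apply quad_injective
      have := Model.gen_true_word
      simpa [quad_mul, sX, sY, quad_ofQuad, sq2] using this
    have := congrArg f' hw
    simp only [map_mul, hX', hY', ← inv_three hρ hu] at this
    rw [this]
    rw [inv_inv] at h1'
    exact mul_mem (mul_mem (mul_mem (mul_mem (mul_mem (mul_mem hmem hmem) h1') hmem) h1) hmem) hmem

variable (hcl : ∀ g, f g ∈ Subgroup.closure {x, y})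
include hcl

theorem range_normal : f.range.Normal := by
  refine ⟨fun n hn g => ?_⟩
  obtain ⟨a, rfl⟩ := hn
  have h : Subgroup.closure {x, y} ≤ f.range.comap (MulAut.conj g).toMonoidHom := by
    rw [Subgroup.closure_le]
    rintro u (rfl | rfl)
    · exact mem_of_three hρ h2 hx hy hS hf hfX hfY
        (by rw [← hx]; exact MulEquiv.orderOf_eq (MulAut.conj g) _)
    · exact mem_of_three hρ h2 hx hy hS hf hfX hfY
        (by rw [← hy]; exact MulEquiv.orderOf_eq (MulAut.conj g) _)
  exact h (hcl a)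

theorem center_at (g : G) (hgx : g * x * g⁻¹ = x) (hgy : g * y * g⁻¹ = y) :
    g ∈ Subgroup.centralizer (f.range : Set G) := by
  have h : Subgroup.closure {x, y} ≤ Subgroup.centralizer {g} := by
    rw [Subgroup.closure_le]
    rintro u (rfl | rfl) <;> rw [SetLike.mem_coe, Subgroup.mem_centralizer_singleton_iff]
    · exact (mul_inv_eq_iff_eq_mul.mp hgx).symm
    · exact (mul_inv_eq_iff_eq_mul.mp hgy).symm
  rw [Subgroup.mem_centralizer_iff]
  rintro u ⟨a, rfl⟩
  exact Subgroup.mem_centralizer_singleton_iff.mp (h (hcl a))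

/-- Modulo `K·C(K)` at most two cosets. -/
theorem coset_pair (a b : G) (ha : a ∉ f.range ⊔ Subgroup.centralizer (f.range : Set G))
    (hb : b ∉ f.range ⊔ Subgroup.centralizer (f.range : Set G)) :
    a⁻¹ * b ∈ f.range ⊔ Subgroup.centralizer (f.range : Set G) := by
  set K := f.range
  set N := K ⊔ Subgroup.centralizer (K : Set G)
  set y2 : G := f (ofQuad gen2 (by decide))
  have key : ∀ g : G, g ∉ N →
      ∃ k ∈ N, k * g * x * (k * g)⁻¹ = x ∧ k * g * y * (k * g)⁻¹ = y2 := by
    intro g hgN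
    have hord : ∀ a u : G, orderOf u = 3 → orderOf (a * u * a⁻¹) = 3 := fun a u hu => by
      rw [← MulAut.conj_apply, MulEquiv.orderOf_eq, hu]
    obtain ⟨k1, hk1, e1⟩ := exists_conj hρ h2 hx hy hS hf hfX hfY
      (mem_of_three hρ h2 hx hy hS hf hfX hfY (hord g x hx)) (hord g x hx)
    obtain ⟨g1, hg1⟩ : ∃ g1, g1 = k1⁻¹ * g := ⟨_, rfl⟩
    have hg1x : g1 * x * g1⁻¹ = x := by
      calc g1 * x * g1⁻¹ = k1⁻¹ * (g * x * g⁻¹) * k1 := by rw [hg1]; group
        _ = x := by rw [e1]; group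
    obtain ⟨q, hq⟩ := mem_of_three hρ h2 hx hy hS hf hfX hfY (hord g1 y hy)
    have hq3 : orderOf q = 3 := by rw [← orderOf_injective f hf, hq, hord g1 y hy]
    have hxq : f (sX * q) = g1 * f (sX * sY) * g1⁻¹ := by
      rw [map_mul, map_mul, hfX, hfY, hq]
      calc x * (g1 * y * g1⁻¹) = g1 * x * g1⁻¹ * (g1 * y * g1⁻¹) := by rw [hg1x]
        _ = _ := by group
    have hN5 : (sX * sY) ^ 5 = sN := by
      apply quad_injective
      rw [show (sX * sY) ^ 5 = (sX * sY) * (sX * sY) * ((sX * sY) * (sX * sY)) * (sX * sY) by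
          rw [pow_succ, pow_succ, pow_succ, pow_succ, pow_one]; group, quad_mul, quad_mul, quad_mul,
        quad_mul, sX, sY, quad_ofQuad, quad_ofQuad, sN, quad_ofQuad, ← wordOf_basic.2.2.2]
      rfl
    have hN2 : sN ^ 2 = 1 := by
      apply quad_injective
      rw [sq, quad_mul, quad_one, sN, quad_ofQuad]
      decide
    have hNne : sN ≠ 1 := by
      intro h
      have := congrArg quad h
      rw [sN, quad_ofQuad, quad_one] at this
      exact absurd this (by decide)
    have hcen : g1 * f sN = f sN * g1 :=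
      (involution_comm hρ (fun h => hNne (hf (h.trans (map_one f).symm)))
        (by rw [← map_pow, hN2, map_one]) g1).symm
    have c1 : (sX * q) ^ 5 = sN := hf (by
      rw [map_pow, hxq, conj_pow, ← map_pow, hN5, hcen, mul_inv_cancel_right])
    have c2 : sX * q ≠ sN := by
      intro h
      rw [h] at hxq
      have e : f (sX * sY) = f sN := by
        calc f (sX * sY) = g1⁻¹ * (g1 * f (sX * sY) * g1⁻¹) * g1 := by group
          _ = g1⁻¹ * f sN * g1 := by rw [hxq]
          _ = f sN := by rw [mul_assoc, ← hcen, inv_mul_cancel_left]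
      have := congrArg quad (hf e)
      rw [quad_mul, sX, sY, sN, quad_ofQuad, quad_ofQuad, quad_ofQuad] at this
      exact absurd this (by decide)
    have hq3' : q ^ 3 = 1 := by rw [← hq3, pow_orderOf_eq_one]
    have hmem := far_partners _ _ _ _ (quad_det q)
      (by
        have : quad (q ^ 3) = qI := by rw [hq3', quad_one]
        rwa [pow_three', quad_mul, quad_mul] at this)
      (fun h => by
        have : q = 1 := quad_injective (h.trans quad_one.symm)
        simp [this] at hq3)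
      (by
        have : quad ((sX * q) ^ 5) = qN := by rw [c1, sN, quad_ofQuad]
        rw [show (sX * q) ^ 5 = (sX * q) * (sX * q) * ((sX * q) * (sX * q)) * (sX * q) by
            rw [pow_succ, pow_succ, pow_succ, pow_succ, pow_one]; group] at this
        simp only [quad_mul, sX, quad_ofQuad] at this
        exact this)
      (fun h => c2 (quad_injective (by rw [quad_mul, sX, sN, quad_ofQuad, quad_ofQuad]; exact h)))
    have hfin : ∀ (r : SL) (k : G), k ∈ Subgroup.zpowers x → f q = k * f r * k⁻¹ →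
        k⁻¹ * g1 * x * (k⁻¹ * g1)⁻¹ = x ∧ k⁻¹ * g1 * y * (k⁻¹ * g1)⁻¹ = f r := by
      intro r k hk hr
      constructor
      · obtain ⟨i, rfl⟩ := hk
        calc (x ^ i)⁻¹ * g1 * x * ((x ^ i)⁻¹ * g1)⁻¹ = (x ^ i)⁻¹ * (g1 * x * g1⁻¹) * x ^ i := by
              group
          _ = x := by rw [hg1x]; group
      · calc k⁻¹ * g1 * y * (k⁻¹ * g1)⁻¹ = k⁻¹ * (g1 * y * g1⁻¹) * k := by group
          _ = f r := by rw [← hq, hr]; group
    have hxK : ∀ k ∈ Subgroup.zpowers x, k⁻¹ * k1⁻¹ ∈ N := fun k hk =>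
      Subgroup.mem_sup_left (mul_mem (inv_mem (Subgroup.zpowers_le.mpr (show x ∈ f.range from ⟨sX, hfX⟩) hk)) (inv_mem hk1))
    have conclude : ∀ k ∈ Subgroup.zpowers x,
        (f q = k * y * k⁻¹ ∨ f q = k * y2 * k⁻¹) →
        ∃ l ∈ N, l * g * x * (l * g)⁻¹ = x ∧ l * g * y * (l * g)⁻¹ = y2 := by
      intro k hk hr
      rcases hr with hr | hr
      · exfalso
        obtain ⟨a1, a2⟩ := hfin sY k hk (by rw [hfY]; exact hr)
        rw [hfY] at a2
        have hc := Subgroup.mem_sup_right (S := K) (center_at hρ h2 hx hy hS hf hfX hfY hcl _ a1 a2)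
        apply hgN
        have : g = (k⁻¹ * k1⁻¹)⁻¹ * (k⁻¹ * g1) := by rw [hg1]; group
        rw [this]
        exact mul_mem (inv_mem (hxK k hk)) hc
      · obtain ⟨a1, a2⟩ := hfin _ k hk hr
        exact ⟨k⁻¹ * k1⁻¹, hxK k hk, by rw [mul_assoc k⁻¹ k1⁻¹ g, ← hg1]; exact a1,
          by rw [mul_assoc k⁻¹ k1⁻¹ g, ← hg1]; exact a2⟩
    have hto : ∀ (r : SL) (p : Quad) (hp : quad r = p), quad q = p → f q = f r := fun r p hp h => by
      rw [quad_injective (h.trans hp.symm)]
    have hxe : x⁻¹ = f (sX * sX) := by rw [map_mul, hfX, inv_three hρ hx]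
    simp only [List.mem_cons, List.not_mem_nil, or_false] at hmem
    have h1 := Subgroup.one_mem (Subgroup.zpowers x)
    have hX := Subgroup.mem_zpowers x
    rcases hmem with h | h | h | h | h | h
    · refine conclude 1 h1 (Or.inl ?_)
      rw [hto sY _ (quad_ofQuad _ _) h, hfY]; group
    · refine conclude x hX (Or.inl ?_)
      rw [hto (sX * sY * (sX * sX)) _ (by simp [quad_mul, sX, sY, quad_ofQuad, sq2]) h, map_mul,
        map_mul, hfY, ← hxe, hfX]
    · refine conclude x⁻¹ (inv_mem hX) (Or.inl ?_)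
      rw [hto (sX * sX * sY * sX) _ (by simp [quad_mul, sX, sY, quad_ofQuad, sq2]) h, map_mul,
        map_mul, hfY, ← hxe, hfX, inv_inv]
    · refine conclude 1 h1 (Or.inr ?_)
      rw [hto (ofQuad gen2 (by decide)) _ (quad_ofQuad _ _) h]; group; rfl
    · refine conclude x hX (Or.inr ?_)
      rw [hto (sX * ofQuad gen2 (by decide) * (sX * sX)) _
        (by simp [quad_mul, sX, quad_ofQuad, sq2]) h, map_mul, map_mul, ← hxe, hfX]
    · refine conclude x⁻¹ (inv_mem hX) (Or.inr ?_)
      rw [hto (sX * sX * ofQuad gen2 (by decide) * sX) _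
        (by simp [quad_mul, sX, quad_ofQuad, sq2]) h, map_mul, map_mul, ← hxe, hfX, inv_inv]
  obtain ⟨k, hk, kx, ky⟩ := key a ha
  obtain ⟨l, hl, lx, ly⟩ := key b hb
  set g := k * a
  set g' := l * b
  have hc : g⁻¹ * g' ∈ N := Subgroup.mem_sup_right (center_at hρ h2 hx hy hS hf hfX hfY hcl _
    (by calc g⁻¹ * g' * x * (g⁻¹ * g')⁻¹ = g⁻¹ * (g' * x * g'⁻¹) * g := by group
          _ = g⁻¹ * (g * x * g⁻¹) * g := by rw [lx, kx]
          _ = x := by group)
    (by calc g⁻¹ * g' * y * (g⁻¹ * g')⁻¹ = g⁻¹ * (g' * y * g'⁻¹) * g := by group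
          _ = g⁻¹ * (g * y * g⁻¹) * g := by rw [ly, ky]
          _ = y := by group))
  have hN : N.Normal := by
    have : K.Normal := range_normal hρ h2 hx hy hS hf hfX hfY hcl
    exact Subgroup.sup_normal _ _
  have hd : a⁻¹ * (k⁻¹ * l) * a ∈ N := by
    simpa using hN.conj_mem _ (mul_mem (inv_mem hk) hl) a⁻¹
  have : a⁻¹ * b = (a⁻¹ * (k⁻¹ * l) * a)⁻¹ * (g⁻¹ * g') := by simp only [g, g']; group
  rw [this]
  exact mul_mem (inv_mem hd) hc

end Cfsg.Agent.Lib.FpfLinear.Closure
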