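import Mathlib.GroupTheory.GroupAction.Quotient
import Mathlib.GroupTheory.Perm.Cycle.Type
import Mathlib.GroupTheory.SpecificGroups.Cyclic
import Mathlib.Algebra.BigOperators.Fin
import Mathlib.Tactic.Linarith
import Mathlib.Tactic.IntervalCases

/-!
# Finite groups with two poles for each element

The orbit count of the finite rotation groups, used for two generators of order three.
-/

namespace Cfsg.Agent.Lib.FpfLinear.Counting

open MulAction

variable {Q Ω : Type*} [Group Q] [MulAction Q Ω]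

/-- Solutions of the counting equation with three orbits. -/
theorem three_orbit_types {N e₁ e₂ e₃ a₁ a₂ a₃ : ℕ} (h₁ : a₁ * e₁ = N) (h₂ : a₂ * e₂ = N)
    (h₃ : a₃ * e₃ = N) (he₁ : 2 ≤ e₁) (h12 : e₁ ≤ e₂) (h23 : e₂ ≤ e₃) (hN : 2 ≤ N)
    (hsum : a₁ + a₂ + a₃ = N + 2) :
    e₁ = 2 ∧ ((e₂ = 2 ∧ a₃ = 2) ∨ (e₂ = 3 ∧ (e₃ = 3 ∨ e₃ = 4 ∧ a₃ = 6 ∨ e₃ = 5))) := by
  have a21 : a₂ * e₁ ≤ N := h₂ ▸ Nat.mul_le_mul_left a₂ h12
  have a31 : a₃ * e₁ ≤ N := h₃ ▸ Nat.mul_le_mul_left a₃ (h12.trans h23)
  have hs1 : (N + 2) * e₁ ≤ 3 * N := by rw [← hsum]; nlinarith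
  have e1 : e₁ = 2 := by
    by_contra h
    have := Nat.mul_le_mul_left (N + 2) (show 3 ≤ e₁ by omega)
    omega
  subst e1
  refine ⟨rfl, ?_⟩
  have hs2 : a₂ + a₃ = a₁ + 2 := by omega
  have a32 : a₃ * e₂ ≤ N := h₃ ▸ Nat.mul_le_mul_left a₃ h23
  have hs3 : (a₁ + 2) * e₂ ≤ 4 * a₁ := by rw [← hs2]; nlinarith
  have e2 : e₂ < 4 := by
    by_contra h
    have := Nat.mul_le_mul_left (a₁ + 2) (show 4 ≤ e₂ by omega)
    omega
  interval_cases e₂
  · exact Or.inl ⟨rfl, by omega⟩
  · refine Or.inr ⟨rfl, ?_⟩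
    have e3 : e₃ < 6 := by
      by_contra h
      have := Nat.mul_le_mul_left a₃ (show 6 ≤ e₃ by omega)
      omega
    interval_cases e₃ <;> omega

/-- A permutation of six points with order four moving four of them is odd. -/
theorem sign_of_four {α : Type*} [Fintype α] [DecidableEq α] (σ : Equiv.Perm α)
    (h4 : σ ^ 4 = 1) (h2 : σ ^ 2 ≠ 1) (hs : σ.support.card = 4) : Equiv.Perm.sign σ = -1 := by
  have ho : orderOf σ = 4 := orderOf_eq_prime_pow (p := 2) (n := 1) h2 h4
  have hc : σ.IsCycle := by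
    by_contra hc
    have hsum := σ.sum_cycleType
    rw [hs] at hsum
    have hl : ∀ k ∈ σ.cycleType, k = 2 := by
      intro k hk
      have h2k := Equiv.Perm.two_le_of_mem_cycleType hk
      have hk4 : k ∣ 4 := ho ▸ Equiv.Perm.dvd_of_mem_cycleType hk
      have hkle : k ≤ 4 := Nat.le_of_dvd (by norm_num) hk4
      have : k ≠ 4 := by
        rintro rfl
        obtain ⟨t, ht⟩ := Multiset.exists_cons_of_mem hk
        rw [ht, Multiset.sum_cons] at hsum
        rcases eq_or_ne t 0 with rfl | hne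
        · exact hc (Equiv.Perm.card_cycleType_eq_one.mp (by rw [ht]; rfl))
        · obtain ⟨j, hj⟩ := Multiset.exists_mem_of_ne_zero hne
          have := Equiv.Perm.two_le_of_mem_cycleType (ht ▸ Multiset.mem_cons_of_mem hj : j ∈ σ.cycleType)
          have := Multiset.le_sum_of_mem hj
          omega
      interval_cases k <;> omega
    have : orderOf σ ∣ 2 := σ.lcm_cycleType ▸ Multiset.lcm_dvd.mpr fun k hk => by rw [hl k hk]
    rw [ho] at this
    norm_num at this
  rw [hc.sign, hs]
  rfl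

variable [Finite Q] [Finite Ω]

theorem card_orbit_mul (p : Ω) :
    Nat.card (orbit Q p) * Nat.card (stabilizer Q p) = Nat.card Q := by
  rw [← Subgroup.index_mul_card (stabilizer Q p), index_stabilizer, Set.ncard_def, Nat.card,
    Set.encard, ENat.card]
  rfl

theorem odd_four_pole (hfix : ∀ g : Q, g ≠ 1 → Nat.card (fixedBy Ω g) = 2)
    (p : Ω) (hc : IsCyclic (stabilizer Q p)) (h4 : Nat.card (stabilizer Q p) = 4)
    (h6 : Nat.card (orbit Q p) = 6)
    (huniq : ∀ q : Ω, 4 ∣ Nat.card (stabilizer Q q) → q ∈ orbit Q p)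
    {a b : Q} (ha : orderOf a = 3) (hb : orderOf b = 3) (hgen : Subgroup.closure {a, b} = ⊤) :
    False := by
  classical
  have := Fintype.ofFinite Ω
  let s : Q →* ℤˣ := Equiv.Perm.sign.comp (toPermHom Q (orbit Q p))
  have hk : ∀ x : Q, orderOf x = 3 → x ∈ s.ker := by
    intro x hx
    rw [MonoidHom.mem_ker]
    have h3 : s x ^ 3 = 1 := by rw [← map_pow, ← hx, pow_orderOf_eq_one, map_one]
    rcases Int.units_eq_one_or (s x) with h | h
    · exact h
    · rw [h] at h3; exact absurd h3 (by decide)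
  have htop : s.ker = ⊤ := by
    rw [eq_top_iff, ← hgen, Subgroup.closure_le]
    rintro x (rfl | rfl)
    exacts [hk _ ha, hk _ hb]
  obtain ⟨⟨g, hg⟩, hgg⟩ := hc.exists_generator
  have ho : orderOf g = 4 := by
    rw [← Subgroup.orderOf_mk g hg, orderOf_eq_card_of_forall_mem_zpowers hgg, h4]
  have hg1 : g ≠ 1 := fun h => by simp [h] at ho
  have hg2 : g ^ 2 ≠ 1 := pow_ne_one_of_lt_orderOf two_ne_zero (by omega)
  have hmem : ∀ q ∈ fixedBy Ω g, q ∈ orbit Q p := by
    intro q hq
    refine huniq q ?_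
    rw [← ho, ← Nat.card_zpowers]
    exact Subgroup.card_dvd_of_le (Subgroup.zpowers_le.mpr hq)
  set σ := toPermHom Q (orbit Q p) g with hσ
  have hfixσ : ∀ (x : Q), (Finset.univ.filter fun q : orbit Q p => x • q = q).card ≤
      Nat.card (fixedBy Ω x) := by
    intro x
    rw [← Fintype.card_subtype, ← Nat.card_eq_fintype_card]
    exact Nat.card_le_card_of_injective
      (fun q => (⟨(q.1 : Ω), congrArg Subtype.val q.2⟩ : fixedBy Ω x))
      fun q r h => Subtype.ext (Subtype.ext (congrArg (fun z : fixedBy Ω x => (z : Ω)) h))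
  have hfix2 : (Finset.univ.filter fun q : orbit Q p => g • q = q).card = 2 := by
    rw [← hfix g hg1, ← Fintype.card_subtype, ← Nat.card_eq_fintype_card]
    exact Nat.card_congr
      { toFun := fun q => ⟨(q.1 : Ω), congrArg Subtype.val q.2⟩
        invFun := fun q => ⟨⟨q.1, hmem q.1 q.2⟩, Subtype.ext q.2⟩
        left_inv := fun q => rfl
        right_inv := fun q => rfl }
  have hcard : Fintype.card (orbit Q p) = 6 := by rw [← Nat.card_eq_fintype_card, h6]
  have hs : σ.support.card = 4 := by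
    have h := Finset.card_filter_add_card_filter_not
      (s := (Finset.univ : Finset (orbit Q p))) (fun q => g • q = q)
    rw [hfix2, Finset.card_univ, hcard] at h
    have : σ.support = Finset.univ.filter fun q : orbit Q p => ¬ g • q = q := by
      ext q; simp [hσ]
    rw [this]; omega
  have hσ2 : σ ^ 2 ≠ 1 := by
    intro h
    have h' : ∀ q : orbit Q p, g ^ 2 • q = q := fun q => by
      have := Equiv.Perm.congr_fun h q
      rwa [hσ, ← map_pow, toPermHom_apply, toPerm_apply] at this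
    have h2 := hfixσ (g ^ 2)
    rw [Finset.filter_true_of_mem fun q _ => h' q, Finset.card_univ, hcard, hfix _ hg2] at h2
    omega
  have hsgn : s g = -1 :=
    sign_of_four σ (by rw [hσ, ← map_pow, ← ho, pow_orderOf_eq_one, map_one]) hσ2 hs
  have : g ∈ s.ker := htop ▸ Subgroup.mem_top g
  rw [MonoidHom.mem_ker, hsgn] at this
  exact absurd this (by decide)

/-- **Orbit count.** Two non-commuting elements of order three generating such a group have a
product of order 2, 3 or 5, and the group has even order. -/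
theorem orderOf_mul_cases (hfix : ∀ g : Q, g ≠ 1 → Nat.card (fixedBy Ω g) = 2)
    (hstab : ∀ p : Ω, 2 ≤ Nat.card (stabilizer Q p) ∧ IsCyclic (stabilizer Q p))
    {a b : Q} (ha : orderOf a = 3) (hb : orderOf b = 3) (hab : ¬ Commute a b)
    (hgen : Subgroup.closure {a, b} = ⊤) :
    (orderOf (a * b) = 2 ∨ orderOf (a * b) = 3 ∨ orderOf (a * b) = 5) ∧ 2 ∣ Nat.card Q := by
  classical
  have := Fintype.ofFinite Ω
  have := Fintype.ofFinite Q
  set N := Nat.card Q with hN
  have hN2 : 2 ≤ N := by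
    have := orderOf_dvd_natCard a
    rw [ha] at this
    have := Nat.le_of_dvd Nat.card_pos this
    omega
  let R := orbitRel.Quotient Q Ω
  let q : Ω → R := Quotient.mk''
  have hq : ∀ r : R, q r.out = r := fun r => Quotient.out_eq' r
  have hpart : Nat.card Ω = ∑ r : R, Nat.card (orbit Q r.out) := by
    rw [Nat.card_congr (selfEquivSigmaOrbits Q Ω), Nat.card_sigma]
  have hburn : Nat.card Ω + 2 * (N - 1) = Fintype.card R * N := by
    have h := sum_card_fixedBy_eq_card_orbits_mul_card_group Q Ω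
    rw [← Finset.add_sum_erase _ _ (Finset.mem_univ (1 : Q))] at h
    rw [Finset.sum_congr rfl (fun g hg => by
      rw [← Nat.card_eq_fintype_card, hfix g (Finset.ne_of_mem_erase hg)]), Finset.sum_const,
      Finset.card_erase_of_mem (Finset.mem_univ _), Finset.card_univ, smul_eq_mul] at h
    rw [hN, Nat.card_eq_fintype_card (α := Q)]
    refine Eq.trans ?_ h
    rw [Nat.mul_comm (_ - 1) 2]
    congr 1
    rw [← Nat.card_eq_fintype_card]
    exact Nat.card_congr ((Equiv.subtypeUnivEquiv (fun x => one_smul Q x)).symm)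
  have hsize : ∀ r : R, 2 * Nat.card (orbit Q r.out) ≤ N ∧ 1 ≤ Nat.card (orbit Q r.out) := by
    intro r
    refine ⟨?_, have : Nonempty (orbit Q r.out) := (nonempty_orbit _).to_subtype; Nat.card_pos⟩
    have h1 := card_orbit_mul (Q := Q) r.out
    have h2 := Nat.mul_le_mul_left (Nat.card (orbit Q r.out)) (hstab r.out).1
    omega
  have hr : Fintype.card R = 2 ∨ Fintype.card R = 3 := by
    have h1 : 2 * Nat.card Ω ≤ Fintype.card R * N := by
      rw [hpart, Finset.mul_sum]
      refine (Finset.sum_le_card_nsmul _ _ N fun r _ => (hsize r).1).trans_eq ?_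
      rw [Finset.card_univ, smul_eq_mul]
    have h2 : Fintype.card R ≤ Nat.card Ω := by
      rw [hpart]
      refine le_of_eq_of_le ?_ (Finset.card_nsmul_le_sum _ _ 1 fun r _ => (hsize r).2)
      rw [Finset.card_univ, smul_eq_mul, mul_one]
    have h4 : Fintype.card R < 4 := by
      by_contra h
      have := Nat.mul_le_mul_right N (show 4 ≤ Fintype.card R by omega)
      omega
    interval_cases h : Fintype.card R <;> omega
  have hself : ∀ (x : Q), x ≠ 1 → ∃ p : Ω, x • p = p := by
    intro x hx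
    have h := hfix x hx
    obtain ⟨⟨p, hp⟩⟩ : Nonempty (fixedBy Ω x) := (Nat.card_pos_iff.mp (by omega)).1
    exact ⟨p, hp⟩
  rcases hr with hr | hr
  · exfalso
    obtain ⟨r₁, r₂, hne, huniv⟩ :=
      Finset.card_eq_two.mp (Finset.card_univ.trans hr : (Finset.univ : Finset R).card = 2)
    rw [huniv, Finset.sum_pair hne] at hpart
    rw [hr] at hburn
    have h1 := hsize r₁
    have h2 := hsize r₂
    have hone : Nat.card (orbit Q r₁.out) = 1 := by omega
    have hst : Nat.card (stabilizer Q r₁.out) = N := by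
      have := card_orbit_mul (Q := Q) r₁.out
      rwa [hone, one_mul] at this
    have htop := Subgroup.eq_top_of_card_eq _ hst
    obtain ⟨⟨g, _⟩, hgen'⟩ := (hstab r₁.out).2.exists_generator
    obtain ⟨i, hi⟩ := hgen' ⟨a, htop ▸ Subgroup.mem_top a⟩
    obtain ⟨j, hj⟩ := hgen' ⟨b, htop ▸ Subgroup.mem_top b⟩
    have hi' : g ^ i = a := congrArg Subtype.val hi
    have hj' : g ^ j = b := congrArg Subtype.val hj
    exact hab (hi' ▸ hj' ▸ Commute.zpow_zpow (Commute.refl g) i j)
  obtain ⟨r₁, r₂, r₃, h12, h13, h23, huniv⟩ :=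
    Finset.card_eq_three.mp (Finset.card_univ.trans hr : (Finset.univ : Finset R).card = 3)
  have hlist : ∃ s₁ s₂ s₃ : R, (∀ r : R, r = s₁ ∨ r = s₂ ∨ r = s₃) ∧
      Nat.card (orbit Q s₁.out) + Nat.card (orbit Q s₂.out) + Nat.card (orbit Q s₃.out) = N + 2 ∧
      Nat.card (stabilizer Q s₁.out) ≤ Nat.card (stabilizer Q s₂.out) ∧
      Nat.card (stabilizer Q s₂.out) ≤ Nat.card (stabilizer Q s₃.out) := by
    have hall : ∀ r : R, r = r₁ ∨ r = r₂ ∨ r = r₃ := fun r => by
      simpa [huniv] using Finset.mem_univ r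
    rw [huniv, Finset.sum_insert (by simp [h12, h13]), Finset.sum_pair h23] at hpart
    rw [hr] at hburn
    generalize ha1 : Nat.card (stabilizer Q r₁.out) = e₁
    generalize ha2 : Nat.card (stabilizer Q r₂.out) = e₂
    generalize ha3 : Nat.card (stabilizer Q r₃.out) = e₃
    rcases le_total e₁ e₂ with x | x <;> rcases le_total e₂ e₃ with y | y <;>
      rcases le_total e₁ e₃ with z | z
    all_goals first
      | exact ⟨r₁, r₂, r₃, hall, by omega, by omega, by omega⟩
      | exact ⟨r₁, r₃, r₂, fun r => (hall r).imp id Or.symm, by omega, by omega, by omega⟩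
      | exact ⟨r₂, r₁, r₃, fun r => by have := hall r; tauto, by omega, by omega, by omega⟩
      | exact ⟨r₂, r₃, r₁, fun r => by have := hall r; tauto, by omega, by omega, by omega⟩
      | exact ⟨r₃, r₁, r₂, fun r => by have := hall r; tauto, by omega, by omega, by omega⟩
      | exact ⟨r₃, r₂, r₁, fun r => by have := hall r; tauto, by omega, by omega, by omega⟩
  obtain ⟨s₁, s₂, s₃, hall, hsum, hle1, hle2⟩ := hlist
  obtain ⟨e1, htypes⟩ := three_orbit_types (card_orbit_mul s₁.out) (card_orbit_mul s₂.out)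
    (card_orbit_mul s₃.out) (hstab _).1 hle1 hle2 hN2 hsum
  have hst : ∀ p : Ω, ∃ s : R, (s = s₁ ∨ s = s₂ ∨ s = s₃) ∧ p ∈ orbit Q s.out ∧
      Nat.card (stabilizer Q p) = Nat.card (stabilizer Q s.out) := by
    intro p
    have hp : p ∈ orbit Q (q p).out := orbitRel_apply.mp (Quotient.exact' (hq (q p)).symm)
    obtain ⟨k, hk⟩ := hp
    refine ⟨q p, hall _, ⟨k, hk⟩, ?_⟩
    exact (Nat.card_congr (stabilizerEquivStabilizer hk.symm).toEquiv).symm
  have hfixord : ∀ x : Q, ∀ p : Ω, x • p = p → orderOf x ∣ Nat.card (stabilizer Q p) := by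
    intro x p hp
    rw [← Subgroup.orderOf_mk x (show x ∈ stabilizer Q p from hp)]
    exact orderOf_dvd_natCard _
  have h2N : 2 ∣ N := ⟨Nat.card (orbit Q s₁.out), by
    rw [mul_comm, hN, ← card_orbit_mul s₁.out, e1]⟩
  refine ⟨?_, h2N⟩
  have hab1 : a * b ≠ 1 := fun h => hab (by
    rw [eq_inv_of_mul_eq_one_right h]; exact (Commute.refl a).inv_right)
  obtain ⟨p, hp⟩ := hself _ hab1
  obtain ⟨s, hs, hsp, hsc⟩ := hst p
  have hdvd := hfixord _ p hp
  rw [hsc] at hdvd
  have hne1 : orderOf (a * b) ≠ 1 := fun h => hab1 (orderOf_eq_one_iff.mp h)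
  rcases htypes with ⟨e2, a3⟩ | ⟨e2, e3⟩
  · -- dihedral type: both generators fix the two poles of the big orbit
    exfalso
    have hin : ∀ x : Q, orderOf x = 3 → x ∈ stabilizer Q s₃.out := by
      intro x hx
      have h3 : (stabilizer Q s₃.out).index = 2 := by
        rw [index_stabilizer]
        exact (Nat.card_coe_set_eq _).symm.trans a3
      have := Subgroup.sq_mem_of_index_two h3 x
      have h' : x = (x ^ 2) ^ 2 := by
        rw [← pow_mul, ← pow_mod_orderOf x (2 * 2), hx, pow_one]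
      exact h' ▸ pow_mem this 2
    obtain ⟨⟨g, _⟩, hgen'⟩ := (hstab s₃.out).2.exists_generator
    obtain ⟨i, hi⟩ := hgen' ⟨a, hin a ha⟩
    obtain ⟨j, hj⟩ := hgen' ⟨b, hin b hb⟩
    have hi' : g ^ i = a := congrArg Subtype.val hi
    have hj' : g ^ j = b := congrArg Subtype.val hj
    exact hab (hi' ▸ hj' ▸ Commute.zpow_zpow (Commute.refl g) i j)
  · rcases e3 with e3 | ⟨e3, a3⟩ | e3
    · rcases hs with rfl | rfl | rfl
      · rw [e1] at hdvd; exact Or.inl ((Nat.dvd_prime Nat.prime_two).mp hdvd |>.resolve_left hne1)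
      · rw [e2] at hdvd
        exact Or.inr (Or.inl ((Nat.dvd_prime Nat.prime_three).mp hdvd |>.resolve_left hne1))
      · rw [e3] at hdvd
        exact Or.inr (Or.inl ((Nat.dvd_prime Nat.prime_three).mp hdvd |>.resolve_left hne1))
    · refine (odd_four_pole hfix s₃.out (hstab _).2 e3 a3 (fun q' hq' => ?_) ha hb hgen).elim
      obtain ⟨s', hs', hsq, hsc'⟩ := hst q'
      rw [hsc'] at hq'
      rcases hs' with rfl | rfl | rfl
      · rw [e1] at hq'; exact absurd hq' (by norm_num)
      · rw [e2] at hq'; exact absurd hq' (by norm_num)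
      · exact hsq
    · rcases hs with rfl | rfl | rfl
      · rw [e1] at hdvd; exact Or.inl ((Nat.dvd_prime Nat.prime_two).mp hdvd |>.resolve_left hne1)
      · rw [e2] at hdvd
        exact Or.inr (Or.inl ((Nat.dvd_prime Nat.prime_three).mp hdvd |>.resolve_left hne1))
      · rw [e3] at hdvd
        exact Or.inr (Or.inr ((Nat.dvd_prime Nat.prime_five).mp hdvd |>.resolve_left hne1))

end Cfsg.Agent.Lib.FpfLinear.Counting
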