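import Cfsg.Agent.Lib.FpfLinear.Pair

/-!
# The configuration of the subgroups of order three
-/

set_option linter.unusedSectionVars false

namespace Cfsg.Agent.Lib.FpfLinear.Geometry

open Cfsg.Agent.Lib.FpfLinear.Basic Cfsg.Agent.Lib.FpfLinear.Algebra Module

variable {F : Type*} [Field F] [IsAlgClosed F] {V : Type*} [AddCommGroup V] [Module F V]
  [FiniteDimensional F V] [Nontrivial V] {G : Type*} [Group G] [Finite G]
  {ρ : G →* Module.End F V}

/-- The invariant of two elements of order three. -/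
def S (ρ : G →* Module.End F V) (x y : G) : Module.End F V := ac (pr (ρ x)) (pr (ρ y))

/-- `u` is a conjugate of `y` by a power of `x`. -/
def Rot (x y u : G) : Prop := ∃ k ∈ Subgroup.zpowers x, u = k * y * k⁻¹

theorem Rot.refl (x y : G) : Rot x y y := ⟨1, one_mem _, by group⟩

theorem Rot.symm {x y u : G} (h : Rot x y u) : Rot x u y := by
  obtain ⟨k, hk, rfl⟩ := h
  exact ⟨k⁻¹, inv_mem hk, by group⟩

theorem Rot.trans {x y u w : G} (h : Rot x y u) (h' : Rot x u w) : Rot x y w := by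
  obtain ⟨k, hk, rfl⟩ := h
  obtain ⟨l, hl, rfl⟩ := h'
  exact ⟨l * k, mul_mem hl hk, by group⟩

theorem zpowers_three {x k : G} (hx : orderOf x = 3) (hk : k ∈ Subgroup.zpowers x) :
    k = 1 ∨ k = x ∨ k = x⁻¹ := by
  obtain ⟨i, rfl⟩ := (isOfFinOrder_of_finite x).mem_powers_iff_mem_zpowers.mpr hk
  show x ^ i = 1 ∨ x ^ i = x ∨ x ^ i = x⁻¹
  rw [← pow_mod_orderOf, hx]
  have hi := Nat.mod_lt i (show 3 > 0 by norm_num)
  interval_cases h : i % 3
  · exact Or.inl (pow_zero x)
  · exact Or.inr (Or.inl (pow_one x))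
  · exact Or.inr (Or.inr (eq_inv_of_mul_eq_one_left (by
      rw [← pow_succ, show 2 + 1 = orderOf x from hx.symm, pow_orderOf_eq_one])))

theorem Rot.cases {x y u : G} (hx : orderOf x = 3) (h : Rot x y u) :
    u = y ∨ u = x * y * x⁻¹ ∨ u = x⁻¹ * y * x := by
  obtain ⟨k, hk, rfl⟩ := h
  rcases zpowers_three hx hk with rfl | rfl | rfl
  · exact Or.inl (by group)
  · exact Or.inr (Or.inl rfl)
  · exact Or.inr (Or.inr (by group))

theorem Rot.orderOf_eq {x y u : G} (h : Rot x y u) (hy : orderOf y = 3) : orderOf u = 3 := by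
  obtain ⟨k, -, rfl⟩ := h
  rw [← MulAut.conj_apply, MulEquiv.orderOf_eq, hy]

theorem S_symm (x y : G) : S ρ x y = S ρ y x := ac_symm _ _

theorem pr_conj (g x : G) : pr (ρ (g * x * g⁻¹)) = ρ g * pr (ρ x) * ρ g⁻¹ := by
  have h : ρ g * ρ g⁻¹ = 1 := by rw [← map_mul, mul_inv_cancel, map_one]
  rw [map_mul, map_mul]
  unfold pr
  calc 2 * (ρ g * ρ x * ρ g⁻¹) + 1 = 2 * (ρ g * ρ x * ρ g⁻¹) + ρ g * ρ g⁻¹ := by rw [h]
    _ = _ := by noncomm_ring

theorem S_conj (g x y : G) : S ρ (g * x * g⁻¹) (g * y * g⁻¹) = ρ g * S ρ x y * ρ g⁻¹ := by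
  have h : ρ g⁻¹ * ρ g = 1 := by rw [← map_mul, inv_mul_cancel, map_one]
  simp only [S, ac, pr_conj]
  simp only [mul_add, add_mul, mul_assoc, ← mul_assoc (ρ g⁻¹) (ρ g), h, one_mul]

theorem S_conj_scalar (g x y : G) {t : F} (h : S ρ x y = t • 1) :
    S ρ (g * x * g⁻¹) (g * y * g⁻¹) = t • 1 := by
  rw [S_conj, h, mul_smul_comm, mul_one, smul_mul_assoc, ← map_mul, mul_inv_cancel, map_one]

theorem smul_one_inj {t s : F} (h : t • (1 : Module.End F V) = s • 1) : t = s :=
  smul_left_injective F (one_ne_zero (α := Module.End F V)) h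

/-- A rotation does not change the invariant with the centre of rotation. -/
theorem S_rot {x y u : G} {t : F} (h : Rot x y u) (hS : S ρ x y = t • 1) : S ρ x u = t • 1 := by
  obtain ⟨k, hk, rfl⟩ := h
  obtain ⟨i, rfl⟩ := hk
  have := S_conj_scalar (ρ := ρ) (x ^ i) x y hS
  rwa [show x ^ i * x * (x ^ i)⁻¹ = x by group] at this

variable (hρ : IsLinFPF ρ) (h2 : (2 : F) ≠ 0)
include hρ

omit h2 in
theorem pr_inv {x : G} (hx : orderOf x = 3) : pr (ρ x⁻¹) = -pr (ρ x) := by
  rw [inv_eq_of_order_three hρ hx, pr_neg]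

omit h2 in
theorem S_inv {x y : G} (hy : orderOf y = 3) : S ρ x y⁻¹ = -S ρ x y := by
  simp only [S, ac, pr_inv hρ hy, neg_mul, mul_neg, neg_add_rev, add_comm]

omit h2 in
theorem three_ne {x : G} (hx : orderOf x = 3) : (3 : F) ≠ 0 := by
  simpa using natCast_ne_zero hρ Nat.prime_three (hx ▸ orderOf_dvd_natCard x)

omit h2 in
theorem S_self {x : G} (hx : orderOf x = 3) : S ρ x x = (-6 : F) • 1 := by
  rw [S, ac, pr_sq (order_three hρ hx), neg_three F, ← add_smul]
  norm_num

include h2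

theorem four_ne : (4 : F) ≠ 0 := by
  rw [show (4 : F) = 2 * 2 by norm_num]; exact mul_ne_zero h2 h2

theorem sixteen_ne : (16 : F) ≠ 0 := by
  rw [show (16 : F) = 4 * 4 by norm_num]; exact mul_ne_zero (four_ne hρ h2) (four_ne hρ h2)

/-- The possible invariants. -/
theorem five {x y : G} (hx : orderOf x = 3) (hy : orderOf y = 3) :
    (y = x ∧ S ρ x y = (-6 : F) • 1) ∨ (y = x⁻¹ ∧ S ρ x y = (6 : F) • 1) ∨
      S ρ x y = (-2 : F) • 1 ∨ S ρ x y = (2 : F) • 1 ∨ S ρ x y * S ρ x y = (20 : F) • 1 := by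
  by_cases hc : Commute x y
  · rcases zpowers_three hx (mem_zpowers_of_commute hρ hc (by rw [hx, hy])) with rfl | rfl | rfl
    · simp at hy
    · exact Or.inl ⟨rfl, S_self hρ hx⟩
    · refine Or.inr (Or.inl ⟨rfl, ?_⟩)
      rw [S_inv hρ hx, S_self hρ hx, ← neg_smul, neg_neg]
  · have hS : S ρ x y = (4 : F) • Pair.cc ρ x y - (2 : F) • 1 := by
      rw [← num_smul F 2, S, ac_pr, num_smul F 4, smul_mul_assoc, one_mul]
      rfl
    obtain ⟨-, h | h | h⟩ := Pair.cases hρ hx hy hc
    · refine Or.inr (Or.inr (Or.inl ?_))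
      rw [hS, h, smul_zero, zero_sub, neg_smul]
    · refine Or.inr (Or.inr (Or.inr (Or.inl ?_)))
      rw [hS, h, ← sub_smul]
      norm_num
    · refine Or.inr (Or.inr (Or.inr (Or.inr ?_)))
      rw [hS]
      simp only [mul_sub, sub_mul, smul_mul_assoc, mul_smul_comm, smul_smul, h, mul_one, one_mul,
        smul_add]
      module

theorem eq_of_six {x y : G} (hx : orderOf x = 3) (hy : orderOf y = 3)
    (h : S ρ x y * S ρ x y = (36 : F) • 1) :
    (y = x ∧ S ρ x y = (-6 : F) • 1) ∨ (y = x⁻¹ ∧ S ρ x y = (6 : F) • 1) := by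
  have hk : ∀ t : F, S ρ x y * S ρ x y = t • 1 → t = 36 := fun t ht =>
    smul_one_inj (ht.symm.trans h)
  rcases five hρ h2 hx hy with e | e | e | e | e
  · exact Or.inl e
  · exact Or.inr e
  · have h' := hk 4 (by rw [e, smul_mul_smul_comm, one_mul]; norm_num)
    exact absurd (mul_ne_zero (mul_ne_zero h2 h2) (mul_ne_zero h2 (mul_ne_zero h2 h2)))
      (not_not.mpr (by linear_combination -h' : (2 : F) * 2 * (2 * (2 * 2)) = 0))
  · have h' := hk 4 (by rw [e, smul_mul_smul_comm, one_mul]; norm_num)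
    exact absurd (mul_ne_zero (mul_ne_zero h2 h2) (mul_ne_zero h2 (mul_ne_zero h2 h2)))
      (not_not.mpr (by linear_combination -h' : (2 : F) * 2 * (2 * (2 * 2)) = 0))
  · exact absurd (sixteen_ne hρ h2) (not_not.mpr (by linear_combination -(hk 20 e)))

/-- If the invariant is `2`, the elements do not generate a cyclic group. -/
theorem ne_of_two {x y : G} (hx : orderOf x = 3) (h : S ρ x y = (2 : F) • 1) :
    y ≠ x ∧ y ≠ x⁻¹ := by
  constructor <;> rintro rfl
  · have := smul_one_inj ((S_self hρ hx).symm.trans h)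
    exact mul_ne_zero h2 (four_ne hρ h2) (by linear_combination -this)
  · rw [S_inv hρ hx, S_self hρ hx, ← neg_smul] at h
    exact four_ne hρ h2 (by linear_combination smul_one_inj h)

/-- **Triangles**: three pairwise invariants equal to `2` give one line. -/
theorem tri {x y u : G} (hx : orderOf x = 3) (hy : orderOf y = 3) (hu : orderOf u = 3)
    (hxy : S ρ x y = (2 : F) • 1) (hxu : S ρ x u = (2 : F) • 1) (hyu : S ρ y u = (2 : F) • 1) :
    u = x * y * x⁻¹ ∨ u = x⁻¹ * y * x := by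
  have ha := pr_sq (order_three hρ hx)
  have hb := pr_sq (order_three hρ hy)
  have hd := pr_sq (order_three hρ hu)
  obtain ⟨hT, hk⟩ := tri_sq (F := F) ha hb hd (hxy.trans (num_smul F 2).symm)
    (hxu.trans (num_smul F 2).symm) (hyu.trans (num_smul F 2).symm)
  obtain ⟨hc, hc'⟩ := tri_conj (F := F) ha hb hd (hxy.trans (num_smul F 2).symm)
  set a := pr (ρ x)
  set b := pr (ρ y)
  set d := pr (ρ u) with hd'
  set k := (2 : F) • (a * b) - (2 : F) • (1 : Module.End F V)
  set T := k * ((2 : F) • d + a + b) with hTdef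
  obtain ⟨p1, p2⟩ := pr_cj (y := ρ y) (order_three hρ hx)
  rw [← inv_eq_of_order_three hρ hx, ← map_mul, ← map_mul] at p1 p2
  obtain ⟨v0, hv0⟩ := exists_ne (0 : V)
  obtain ⟨v, ε, hv, hTv, hε⟩ : ∃ (v : V) (ε : F), v ≠ 0 ∧ T v = ε • v ∧ (ε = 16 ∨ ε = -16) := by
    by_cases h : T v0 = (16 : F) • v0
    · exact ⟨v0, 16, hv0, h, Or.inl rfl⟩
    · refine ⟨T v0 - (16 : F) • v0, -16, sub_ne_zero.mpr h, ?_, Or.inr rfl⟩
      rw [map_sub, map_smul, ← Module.End.mul_apply, hT, LinearMap.smul_apply, Module.End.one_apply]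
      module
  have hR : (-32 : F) • ((2 : F) • d v + a v + b v) = ε • k v := by
    have := congrArg k hTv
    rw [map_smul, hTdef, ← Module.End.mul_apply, ← mul_assoc, hk] at this
    rw [← this]
    simp only [LinearMap.smul_apply, LinearMap.add_apply, Module.End.mul_apply, Module.End.one_apply, smul_add, map_add, map_smul]
    module
  have main : ∀ g : G, (4 : F) • pr (ρ g) v = (4 : F) • d v → u = g := by
    intro g hg
    refine eq_of_agree hρ hv ?_
    have h := (smul_right_injective V (four_ne hρ h2)) hg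
    rw [hd', pr, pr, num_smul F 2, smul_mul_assoc, one_mul, smul_mul_assoc, one_mul] at h
    simp only [LinearMap.add_apply, LinearMap.smul_apply, Module.End.one_apply] at h
    exact (smul_right_injective V h2 (add_right_cancel h)).symm
  have hval : ∀ (g : G) (σ : F), (4 : Module.End F V) * pr (ρ g) =
      -(2 : F) • a - (2 : F) • b + σ • k → (-32 : F) * σ = 2 * ε → u = g := by
    intro g σ hg hσ
    refine main g ?_
    have := LinearMap.congr_fun hg v
    rw [num_smul F 4, smul_mul_assoc, one_mul, LinearMap.smul_apply] at this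
    rw [this]
    refine smul_right_injective V (show (-32 : F) ≠ 0 from neg_ne_zero.mpr ?_) ?_
    · rw [show (32 : F) = 2 * 16 by norm_num]; exact mul_ne_zero h2 (sixteen_ne hρ h2)
    · show (-32 : F) • _ = (-32 : F) • _
      have e : (-32 : F) • (4 : F) • d v = (2 : F) • (ε • k v) +
          ((-32 : F) • (-(2 : F) • a v) + (-32 : F) • (-(2 : F) • b v)) := by
        rw [← hR]; module
      rw [e, smul_smul, ← hσ]
      simp only [LinearMap.add_apply, LinearMap.sub_apply, LinearMap.smul_apply]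
      module
  rcases hε with rfl | rfl
  · exact Or.inl (hval _ (-1) (by rw [p1, hc]; module) (by norm_num))
  · exact Or.inr (hval _ 1 (by rw [p2, hc']; module) (by norm_num))

theorem quarter {P Q : Module.End F V} (h : (4 : F) • P = (4 : F) • Q) : P = Q :=
  smul_right_injective _ (four_ne hρ h2) h

theorem pr4 {x y : G} (hx : orderOf x = 3) :
    cj (pr (ρ x)) (pr (ρ y)) = (4 : F) • pr (ρ (x * y * x⁻¹)) ∧
      cj' (pr (ρ x)) (pr (ρ y)) = (4 : F) • pr (ρ (x⁻¹ * y * x)) := by
  obtain ⟨p1, p2⟩ := pr_cj (y := ρ y) (order_three hρ hx)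
  rw [← inv_eq_of_order_three hρ hx, ← map_mul, ← map_mul, num_smul F 4, smul_mul_assoc,
    one_mul] at p1 p2
  exact ⟨p1.symm, p2.symm⟩

omit h2 in
theorem ac_smul_right (t : F) (a b : Module.End F V) : ac a (t • b) = t • ac a b := by
  simp only [ac, mul_smul_comm, smul_mul_assoc, smul_add]

/-- A far pair gives an edge. -/
theorem far {x y : G} (hx : orderOf x = 3) (hy : orderOf y = 3)
    (h : S ρ x y * S ρ x y = (20 : F) • 1) : S ρ x (y * x * y⁻¹) = (-2 : F) • 1 := by
  refine quarter hρ h2 ?_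
  have e := far_edge (F := F) (pr_sq (order_three hρ hx)) (pr_sq (order_three hρ hy))
    (rfl : ac (pr (ρ x)) (pr (ρ y)) = S ρ x y)
  rw [S] at h
  rw [(pr4 hρ h2 hy).1, ac_smul_right hρ, h] at e
  rw [S, e]
  module

/-- An opposite triangle gives a far pair. -/
theorem opposite {x y u : G} (hx : orderOf x = 3) (hy : orderOf y = 3) (hu : orderOf u = 3)
    (hxy : S ρ x y = (2 : F) • 1) (hxu : S ρ x u = (2 : F) • 1) (hyu : S ρ y u = (-2 : F) • 1) :
    S ρ u (x⁻¹ * y * x) * S ρ u (x⁻¹ * y * x) = (20 : F) • 1 := by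
  have e := opposite_sq (F := F) (pr_sq (order_three hρ hx)) (pr_sq (order_three hρ hy))
    (pr_sq (order_three hρ hu)) (hxy.trans (num_smul F 2).symm) (hxu.trans (num_smul F 2).symm)
    (hyu.trans (neg_num_smul F 2).symm)
  rw [(pr4 hρ h2 hx).2, ac_smul_right hρ, smul_mul_smul_comm] at e
  refine smul_right_injective _ (show (4 : F) * 4 ≠ 0 from
    mul_ne_zero (four_ne hρ h2) (four_ne hρ h2)) ?_
  show ((4 : F) * 4) • _ = ((4 : F) * 4) • _
  rw [S, e]
  module

/-- Away from a given line there is a rotation with opposite invariant. -/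
theorem star {x y u : G} (hx : orderOf x = 3) (hy : orderOf y = 3) (hu : orderOf u = 3)
    (hxy : S ρ x y = (2 : F) • 1) (hxu : S ρ x u = (2 : F) • 1) (hline : ¬ Rot x y u) :
    ∃ u', Rot x u u' ∧ S ρ y u' = (-2 : F) • 1 := by
  by_contra hno
  push Not at hno
  have hall : ∀ u', Rot x u u' → S ρ y u' * S ρ y u' = (20 : F) • 1 := by
    intro u' hr
    have hu' := hr.orderOf_eq hu
    have hxu' := S_rot hr hxu
    rcases five hρ h2 hy hu' with ⟨rfl, -⟩ | ⟨rfl, -⟩ | e | e | e
    · exact absurd hr.symm hline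
    · rw [S_inv hρ hy, hxy, ← neg_smul] at hxu'
      exact absurd (four_ne hρ h2) (not_not.mpr (by linear_combination -(smul_one_inj hxu')))
    · exact absurd e (hno u' hr)
    · exfalso
      apply hline
      rcases tri hρ h2 hx hy hu' hxy hxu' e with rfl | rfl
      · exact Rot.trans ⟨x, Subgroup.mem_zpowers x, rfl⟩ hr.symm
      · exact Rot.trans ⟨x⁻¹, inv_mem (Subgroup.mem_zpowers x), by group⟩ hr.symm
    · exact e
  obtain ⟨e1, e2⟩ := star_sums (F := F) (pr_sq (order_three hρ hx)) (pr_sq (order_three hρ hy))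
    (pr_sq (order_three hρ hu)) (hxy.trans (num_smul F 2).symm) (hxu.trans (num_smul F 2).symm)
  rw [(pr4 hρ h2 hx).1, (pr4 hρ h2 hx).2, ac_smul_right hρ, ac_smul_right hρ,
    smul_mul_smul_comm, smul_mul_smul_comm] at e2
  have h0 := hall u (Rot.refl x u)
  have h1 := hall _ (⟨x, Subgroup.mem_zpowers x, rfl⟩ : Rot x u (x * u * x⁻¹))
  have h1' := hall _ (⟨x⁻¹, inv_mem (Subgroup.mem_zpowers x), by group⟩ : Rot x u (x⁻¹ * u * x))
  simp only [S] at h0 h1 h1'
  rw [h0, h1, h1', smul_smul, smul_smul, ← add_smul, ← add_smul] at e2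
  exact mul_ne_zero (sixteen_ne hρ h2) (sixteen_ne hρ h2) (by linear_combination smul_one_inj e2)

/-- An element has at most two lines. -/
theorem two_lines {x y u w : G} (hx : orderOf x = 3) (hy : orderOf y = 3) (hu : orderOf u = 3)
    (hw : orderOf w = 3) (hxy : S ρ x y = (2 : F) • 1) (hxu : S ρ x u = (2 : F) • 1)
    (hxw : S ρ x w = (2 : F) • 1) (hyu : ¬ Rot x y u) (hyw : ¬ Rot x y w) : Rot x u w := by
  obtain ⟨u', ru, hyu'⟩ := star hρ h2 hx hy hu hxy hxu hyu
  obtain ⟨w', rw', hyw'⟩ := star hρ h2 hx hy hw hxy hxw hyw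
  refine Rot.trans ru (Rot.trans ?_ rw'.symm)
  have hu' := ru.orderOf_eq hu
  have hw' := rw'.orderOf_eq hw
  have hxu' := S_rot ru hxu
  have hxw' := S_rot rw' hxw
  set g := x * y⁻¹ * u' * (x * y⁻¹)⁻¹ with hg
  have hg3 : orderOf g = 3 := by
    rw [hg, ← MulAut.conj_apply, MulEquiv.orderOf_eq, hu']
  obtain ⟨t1, t2⟩ := star_twist (F := F) (pr_sq (order_three hρ hx)) (pr_sq (order_three hρ hy))
    (pr_sq (order_three hρ hu')) (pr_sq (order_three hρ hw')) (hxy.trans (num_smul F 2).symm)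
    (hxu'.trans (num_smul F 2).symm) (hxw'.trans (num_smul F 2).symm)
    (hyu'.trans (neg_num_smul F 2).symm) (hyw'.trans (neg_num_smul F 2).symm)
  have htw : tw (pr (ρ x)) (pr (ρ y)) (pr (ρ u')) = (16 : F) • pr (ρ g) := by
    rw [← pr_tw (order_three hρ hx) (order_three hρ hy), num_smul F 16, smul_mul_assoc, one_mul,
      hg, mul_inv_rev, inv_inv, map_mul, map_mul, map_mul, map_mul,
      inv_eq_of_order_three hρ hx, inv_eq_of_order_three hρ hy]
  rw [htw, ac_smul_right hρ, smul_mul_smul_comm] at t1 t2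
  have h256 : (16 : F) * 16 ≠ 0 := mul_ne_zero (sixteen_ne hρ h2) (sixteen_ne hρ h2)
  have q1 : S ρ x g * S ρ x g = (20 : F) • 1 := by
    refine smul_right_injective _ h256 ?_
    show ((16 : F) * 16) • _ = ((16 : F) * 16) • _
    rw [S, t1]; module
  have q2 : S ρ w' g * S ρ w' g =
      (32 : F) • 1 - (4 : F) • S ρ u' w' - S ρ u' w' * S ρ u' w' := by
    refine smul_right_injective _ h256 ?_
    show ((16 : F) * 16) • _ = ((16 : F) * 16) • _
    simp only [S] at *
    rw [t2]; module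
  have hnot : ∀ t : F, S ρ w' g = t • 1 → t * t = 36 → False := by
    intro t ht ht2
    rcases eq_of_six hρ h2 hw' hg3 (by rw [ht, smul_mul_smul_comm, mul_one, ht2]) with
      ⟨e, -⟩ | ⟨e, -⟩
    · rw [e, hxw', smul_mul_smul_comm, mul_one] at q1
      exact sixteen_ne hρ h2 (by linear_combination -(smul_one_inj q1))
    · rw [e, S_inv hρ hw', hxw', ← neg_smul, smul_mul_smul_comm, mul_one] at q1
      exact sixteen_ne hρ h2 (by linear_combination -(smul_one_inj q1))
  rcases five hρ h2 hu' hw' with ⟨rfl, -⟩ | ⟨rfl, -⟩ | e | e | e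
  · exact Rot.refl _ _
  · rw [S_inv hρ hu', hxu', ← neg_smul] at hxw'
    exact absurd (four_ne hρ h2) (not_not.mpr (by linear_combination -(smul_one_inj hxw')))
  · -- invariant `-2`: the twisted element would be `w'` or its inverse
    exfalso
    have h36 : S ρ w' g * S ρ w' g = (36 : F) • 1 := by
      rw [q2, e, smul_mul_smul_comm, mul_one]; module
    rcases eq_of_six hρ h2 hw' hg3 h36 with ⟨-, f⟩ | ⟨-, f⟩
    · exact hnot _ f (by norm_num)
    · exact hnot _ f (by norm_num)
  · rcases tri hρ h2 hx hu' hw' hxu' hxw' e with h | h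
    · exact ⟨x, Subgroup.mem_zpowers x, h⟩
    · exact ⟨x⁻¹, inv_mem (Subgroup.mem_zpowers x), by rw [h]; group⟩
  · exfalso
    rw [e] at q2
    have hs : (4 : F) • S ρ u' w' = (12 : F) • 1 - S ρ w' g * S ρ w' g := by rw [q2]; module
    have key : ∀ t : F, S ρ w' g * S ρ w' g = t • 1 → (12 - t) * (12 - t) = 16 * 20 := by
      intro t ht
      rw [ht, ← sub_smul] at hs
      have := congrArg (fun P => P * P) hs
      simp only [smul_mul_smul_comm, mul_one, e, smul_smul] at this
      linear_combination -(smul_one_inj this)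
    rcases five hρ h2 hw' hg3 with ⟨-, f⟩ | ⟨-, f⟩ | f | f | f
    · exact hnot _ f (by norm_num)
    · exact hnot _ f (by norm_num)
    · exact mul_ne_zero (sixteen_ne hρ h2) (sixteen_ne hρ h2)
        (by linear_combination -(key 4 (by rw [f, smul_mul_smul_comm, mul_one]; norm_num)))
    · exact mul_ne_zero (sixteen_ne hρ h2) (sixteen_ne hρ h2)
        (by linear_combination -(key 4 (by rw [f, smul_mul_smul_comm, mul_one]; norm_num)))
    · exact mul_ne_zero (sixteen_ne hρ h2) (sixteen_ne hρ h2) (by linear_combination -(key 20 f))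

end Cfsg.Agent.Lib.FpfLinear.Geometry
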