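import Mathlib.Data.ZMod.Basic
import Mathlib.LinearAlgebra.Matrix.SpecialLinearGroup
import Mathlib.Tactic.IntervalCases
import Mathlib.Algebra.Algebra.Basic
import Mathlib.Tactic.NoncommRing
import Mathlib.Tactic.Module

/-!
# A table for `SL(2, 5)` generated by two elements of order three
-/

namespace Cfsg.Agent.Lib.FpfLinear.Model

/-- A matrix as a quadruple. -/
abbrev Quad := ZMod 5 × ZMod 5 × ZMod 5 × ZMod 5

/-- The product of matrices. -/
def qm (p q : Quad) : Quad :=
  (p.1 * q.1 + p.2.1 * q.2.2.1, p.1 * q.2.1 + p.2.1 * q.2.2.2,
    p.2.2.1 * q.1 + p.2.2.2 * q.2.2.1, p.2.2.1 * q.2.1 + p.2.2.2 * q.2.2.2)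

/-- The determinant. -/
def qdet (p : Quad) : ZMod 5 := p.1 * p.2.2.2 - p.2.1 * p.2.2.1

/-- The identity matrix. -/
def qI : Quad := (1, 0, 0, 1)

/-- Minus the identity. -/
def qN : Quad := (4, 0, 0, 4)

/-- The generators. -/
def gen : Bool → Quad
  | false => (0, 4, 1, 4)
  | true => (0, 1, 4, 4)

/-- Squares, inverses of elements of order three. -/
def sq2 (p : Quad) : Quad := qm p p

/-- The fifth power. -/
def p5 (p : Quad) : Quad := qm (qm (sq2 p) (sq2 p)) p

/-- The matrix of a word. -/
def qword : List Bool → Quad
  | [] => qI
  | s :: w => qm (gen s) (qword w)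

/-- A number `p + q φ`, with `φ ^ 2 = φ + 1`. -/
abbrev Num := ℤ × ℤ

/-- Multiplication by `φ`. -/
def mulC (u : Num) : Num := (u.2, u.1 + u.2)

/-- Coefficients with respect to `1, X, Y, XY`. -/
abbrev Vec := Num × Num × Num × Num

/-- Left multiplication by a generator. -/
def step : Bool → Vec → Vec
  | false, (a, b, c, d) => (-b, a - b, -d, c - d)
  | true, (a, b, c, d) => (mulC b - b - c + d, -b + d, a - b - c + mulC d, -b)

/-- The normal form of a word. -/
def nf : List Bool → Vec
  | [] => ((1, 0), (0, 0), (0, 0), (0, 0))
  | s :: w => step s (nf w)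

/-- Words in the generators, one for each element. -/
def words : List (List Bool) := [
  [true, false, false, true, false, false, true],
  [true, false, true, false, false, true, false, true],
  [true, true, false, true, true, false, true, false],
  [false, true, true, false],
  [true],
  [false, true, false, false, true, true, false, true],
  [false, false, true, false, true, true],
  [true, true, false, false, true, true, false, false],
  [false, true, false, true, false, false],
  [false, false, true, true, false, false, true, false],
  [true, false, true, true, false, false, true, false],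
  [true, true, false, true, false, false],
  [false, false, true, true, false, false, true, true],
  [false, false, true, false, true, false],
  [false, true, false, false, true, true, false, false],
  [false, true, true, false, true, true, false],
  [false, true, false, true, true, false, true, false],
  [true, false, true, false, false, true, false, false],
  [true, false, false, true],
  [false],
  [],
  [true, false, false, true, false, false],
  [true, false, true, false, false, true, false],
  [false, true, false, true, true, false, true],
  [false, true, true, false, true, true],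
  [true, true, false, true, true, false],
  [false, true],
  [true, false, false, true, true],
  [true, true, false, false, true, false, false],
  [false, true, false, false, true, false, true, false, false],
  [true, false, true, true, false, true, false],
  [false, false, true, true, false],
  [false, true, true, false, false, true],
  [true, false, true],
  [false, false, true, false, false, true, true],
  [false, true, false, false, true, false, true],
  [true, true, false, true, true, false, false],
  [false, true, false],
  [true, false, false, true, true, false],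
  [true, true, false, false, true],
  [false, false, true, false, false, true],
  [true, false, true, false, false, true, false, true, false],
  [false, false, true, true, false, true, true],
  [false, true, true, false, false],
  [true, false],
  [false, false, true, true, false, false, true, true, false, false],
  [true, true, false, true, false],
  [true, false, true, true, false, false, true],
  [false, true, false, false, true, true, false],
  [false, false, true, false, true],
  [true, false, true, false, false],
  [false, false, true, true],
  [true, true, false, true, false, false, true, false],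
  [true, false, false, true, false, true, true],
  [true, false, true, true, false, true],
  [false, true, true, false, false, true, false],
  [true, false, true, true, false, true, false, false],
  [true, false, true, false],
  [false, false, true, true, false, false],
  [true, true, false, true, false, false, true],
  [true, false, false, true, true, false, true],
  [false, false, true, false, true, true, false],
  [true, true, false, false, true, true],
  [false, true, false, true],
  [false, true, false, false, true, false, true, true],
  [false, true, false, true, true],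
  [false, true, false, false, true, false],
  [false, true, true, false, true, false, false],
  [false, false, true, false, true, true, false, true],
  [true, true, false, false],
  [false, true, false, true, false],
  [true, true, false, false, true, true, false],
  [false, false, true, false, true, true, false, false],
  [true, false, false, true, true, false, true, false],
  [false, false, true, true, false, false, true],
  [true, false, false, true, true, false, false],
  [false, true, false, false, true, false, true, false],
  [false, true, false, false],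
  [true, true, false, false, true, false],
  [true, true, false, true, true],
  [false, true, false, true, true, false, false, true],
  [true, true, false, true],
  [false, false, true, true, false, false, true, true, false],
  [false, false, true, false, true, false, false],
  [false, true, false, false, true, true],
  [false, false, true, true, false, true, false, false],
  [true, false, true, true, false, false],
  [true, false, false, true, false, true, false],
  [false, true, true, false, false, true, true, false, false],
  [false, false, true, false],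
  [false, true, true, false, false, true, true],
  [false, false, true, false, false],
  [false, false, true, true, false, true],
  [true, false, true, true],
  [true, false, false, true, false, true, false, false],
  [true, false, true, false, false, true, false, true, false, false],
  [false, false, true, false, false, true, false],
  [true, false, false],
  [false, true, true],
  [true, true, false, true, true, false, true],
  [true, false, true, true, false, true, true],
  [false, true, false, true, true, false, true, false, false],
  [true, false, true, false, false, true],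
  [true, false, false, true, false],
  [false, false],
  [true, true, false],
  [false, true, true, false, true, false],
  [false, true, false, true, true, false, false],
  [true, false, false, true, true, false, false, true],
  [false, true, false, false, true],
  [false, false, true],
  [true, false, true, true, false],
  [false, true, true, false, false, true, true, false],
  [false, false, true, true, false, true, false],
  [true, false, false, true, false, true],
  [false, true, false, false, true, false, false],
  [true, true],
  [false, true, true, false, true],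
  [false, true, false, true, true, false],
  [false, false, true, false, true, true, false, true, false]]

/-- The position of the word of a matrix. -/
def position : List Nat := [
  0, 0, 0, 0, 0, 0, 0, 0, 0, 0, 0, 0, 0, 0, 0, 0, 0, 0, 0, 0, 0, 0, 0, 0, 0,
  0, 0, 0, 0, 0, 0, 0, 0, 0, 0, 0, 0, 0, 0, 0, 0, 0, 0, 0, 0, 0, 1, 2, 3, 4,
  0, 0, 0, 0, 0, 0, 0, 0, 0, 0, 5, 6, 7, 8, 9, 0, 0, 0, 0, 0, 0, 0, 0, 0, 0,
  0, 0, 0, 0, 0, 0, 0, 0, 0, 0, 0, 0, 0, 0, 0, 10, 11, 12, 13, 14, 0, 0, 0, 0, 0,
  0, 0, 0, 0, 0, 15, 16, 17, 18, 19, 0, 0, 0, 0, 0, 0, 0, 0, 0, 0, 0, 0, 0, 0, 0,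
  0, 20, 0, 0, 0, 0, 21, 0, 0, 0, 0, 22, 0, 0, 0, 0, 23, 0, 0, 0, 0, 24, 0, 0, 0,
  0, 25, 0, 0, 0, 0, 0, 26, 0, 0, 0, 0, 0, 27, 0, 0, 0, 0, 0, 28, 29, 0, 0, 0, 0,
  0, 30, 0, 0, 0, 0, 0, 0, 31, 0, 32, 0, 0, 0, 0, 0, 0, 33, 0, 0, 0, 0, 0, 0, 34,
  0, 35, 0, 0, 0, 0, 0, 0, 0, 36, 0, 0, 37, 0, 0, 38, 0, 0, 0, 0, 0, 0, 0, 39, 0,
  0, 40, 0, 0, 0, 41, 0, 0, 0, 0, 0, 0, 0, 0, 42, 0, 0, 0, 43, 0, 0, 0, 44, 0, 0,
  0, 0, 0, 45, 0, 0, 0, 0, 46, 0, 0, 0, 0, 47, 0, 0, 0, 0, 48, 0, 0, 0, 0, 49, 0,
  0, 0, 0, 50, 0, 0, 51, 0, 0, 0, 0, 0, 0, 0, 52, 0, 0, 53, 0, 0, 54, 0, 0, 0, 0,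
  0, 0, 0, 55, 0, 0, 0, 0, 0, 56, 57, 0, 0, 0, 0, 0, 58, 0, 0, 0, 0, 0, 59, 0, 0,
  0, 0, 0, 60, 0, 0, 0, 61, 0, 0, 0, 62, 0, 0, 0, 63, 0, 0, 0, 0, 0, 0, 0, 0, 64,
  0, 0, 0, 65, 0, 66, 0, 0, 0, 0, 0, 0, 67, 0, 0, 0, 0, 0, 0, 68, 0, 69, 0, 0, 0,
  0, 0, 70, 0, 0, 0, 0, 71, 0, 0, 0, 0, 72, 0, 0, 0, 0, 73, 0, 0, 0, 0, 74, 0, 0,
  0, 0, 75, 0, 0, 0, 0, 0, 0, 76, 0, 77, 0, 0, 0, 0, 0, 0, 78, 0, 79, 0, 0, 0, 0,
  0, 0, 80, 0, 0, 0, 81, 0, 0, 0, 82, 0, 0, 0, 0, 0, 0, 0, 0, 83, 0, 0, 0, 84, 0,
  0, 0, 85, 0, 0, 0, 0, 0, 86, 0, 0, 0, 0, 0, 87, 88, 0, 0, 0, 0, 0, 89, 0, 0, 0,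
  0, 0, 90, 0, 0, 91, 0, 0, 0, 0, 0, 0, 0, 92, 0, 0, 93, 0, 0, 0, 0, 0, 0, 0, 94,
  0, 0, 0, 0, 95, 0, 0, 0, 0, 96, 0, 0, 0, 0, 97, 0, 0, 0, 0, 98, 0, 0, 0, 0, 99,
  0, 0, 0, 0, 100, 0, 0, 0, 101, 0, 0, 0, 102, 0, 0, 0, 103, 0, 0, 0, 104, 0, 0, 0, 0,
  0, 0, 0, 0, 105, 0, 0, 106, 0, 0, 107, 0, 0, 0, 0, 0, 0, 0, 108, 0, 0, 109, 0, 0, 0,
  0, 0, 0, 0, 110, 0, 111, 0, 0, 0, 0, 0, 0, 112, 0, 113, 0, 0, 0, 0, 0, 0, 114, 0, 0,
  0, 0, 0, 0, 115, 116, 0, 0, 0, 0, 0, 117, 0, 0, 0, 0, 0, 118, 0, 0, 0, 0, 0, 119, 0]

/-- The word of a matrix. -/
def wordOf (p : Quad) : List Bool :=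
  words.getD (position.getD (p.1.val * 125 + p.2.1.val * 25 + p.2.2.1.val * 5 + p.2.2.2.val) 0) []

theorem qword_wordOf : ∀ a b c d : ZMod 5, qdet (a, b, c, d) = 1 →
    qword (wordOf (a, b, c, d)) = (a, b, c, d) := by decide +kernel

theorem nf_step : ∀ a b c d : ZMod 5, qdet (a, b, c, d) = 1 → ∀ s : Bool,
    nf (s :: wordOf (a, b, c, d)) = nf (wordOf (qm (gen s) (a, b, c, d))) := by decide +kernel

theorem wordOf_basic : wordOf qI = [] ∧ wordOf (gen false) = [false] ∧ wordOf (gen true) = [true] ∧
    p5 (qm (gen false) (gen true)) = qN := by decide +kernel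

theorem escape : ∀ a b c d : ZMod 5, qdet (a, b, c, d) = 1 → (a, b, c, d) ≠ qI → (a, b, c, d) ≠ qN →
    ∃ w ∈ words, qm (sq2 (qword w)) (qword w) = qI ∧
      sq2 (qm (a, b, c, d) (qword w)) = qN := by decide +kernel

theorem conj_three : ∀ a b c d : ZMod 5, qdet (a, b, c, d) = 1 →
    qm (sq2 (a, b, c, d)) (a, b, c, d) = qI → (a, b, c, d) ≠ qI →
    ∃ w ∈ words, qm (qword w) (gen false) = qm (a, b, c, d) (qword w) := by decide +kernel

/-- A second representative of the partners of the first generator. -/
def gen2 : Quad := (1, 2, 1, 3)

set_option synthInstance.maxSize 2048 in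
theorem far_partners : ∀ a b c d : ZMod 5, qdet (a, b, c, d) = 1 →
    qm (sq2 (a, b, c, d)) (a, b, c, d) = qI → (a, b, c, d) ≠ qI →
    p5 (qm (gen false) (a, b, c, d)) = qN → qm (gen false) (a, b, c, d) ≠ qN →
    (a, b, c, d) ∈ [gen true, qm (qm (gen false) (gen true)) (sq2 (gen false)),
      qm (qm (sq2 (gen false)) (gen true)) (gen false), gen2,
      qm (qm (gen false) gen2) (sq2 (gen false)), qm (qm (sq2 (gen false)) gen2) (gen false)] := by decide +kernel

/-- The two lines through the first generator. -/
theorem lines :
    let x := gen false; let x' := sq2 x; let y := gen true; let y' := sq2 y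
    let q1 := qm (qm y x') y'; let q2 := qm (qm y' x') y
    q2 ≠ q1 ∧ q2 ≠ qm (qm x q1) x' ∧ q2 ≠ qm (qm x' q1) x := by decide +kernel

/-- The second generator is a word in three conjugates of the first. -/
theorem gen_true_word :
    let x := gen false; let x' := sq2 x; let y := gen true; let y' := sq2 y
    let b := qm (qm y x) y'; let c := qm (qm y' x) y
    gen true = qm (qm (qm (qm (qm (qm x x) c) x) b) x) x := by decide +kernel

end Cfsg.Agent.Lib.FpfLinear.Model
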