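import Cfsg.Agent.Lib.FpfLinear.Geometry
import Cfsg.Agent.Lib.FpfLinear.Model

/-!
# A far pair generates `SL(2, 5)`
-/

set_option linter.unusedSectionVars false

namespace Cfsg.Agent.Lib.FpfLinear.Hom

open Cfsg.Agent.Lib.FpfLinear.Basic Cfsg.Agent.Lib.FpfLinear.Model Module

/-- `SL(2, 5)`. -/
abbrev SL := Matrix.SpecialLinearGroup (Fin 2) (ZMod 5)

/-- The entries. -/
def quad (g : SL) : Quad := (g.1 0 0, g.1 0 1, g.1 1 0, g.1 1 1)

theorem quad_det (g : SL) : qdet (quad g) = 1 := by
  have h := g.2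
  rwa [Matrix.det_fin_two] at h

theorem quad_mul (g h : SL) : quad (g * h) = qm (quad g) (quad h) := by
  simp [quad, qm, Matrix.mul_apply, Fin.sum_univ_two]

theorem quad_one : quad 1 = qI := by simp [quad, qI]

theorem quad_injective : Function.Injective quad := by
  intro g h e
  simp only [quad, Prod.mk.injEq] at e
  obtain ⟨e1, e2, e3, e4⟩ := e
  apply Subtype.ext
  ext i j
  fin_cases i <;> fin_cases j <;> assumption

theorem qdet_qm (p q : Quad) : qdet (qm p q) = qdet p * qdet q := by
  simp only [qdet, qm]; ring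

/-- A quadruple of determinant one as an element of `SL(2, 5)`. -/
def ofQuad (p : Quad) (h : qdet p = 1) : SL :=
  ⟨!![p.1, p.2.1; p.2.2.1, p.2.2.2], by rw [Matrix.det_fin_two]; exact h⟩

theorem quad_ofQuad (p : Quad) (h : qdet p = 1) : quad (ofQuad p h) = p := by
  simp [quad, ofQuad]

/-- The generators. -/
def sX : SL := ofQuad (gen false) (by decide)

/-- The second generator. -/
def sY : SL := ofQuad (gen true) (by decide)

/-- Minus one. -/
def sN : SL := ofQuad qN (by decide)

variable {G : Type*} [Group G]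

/-- The value of a word. -/
def wordG (x y : G) : List Bool → G
  | [] => 1
  | s :: w => (if s then y else x) * wordG x y w

theorem wordG_mem (x y : G) : ∀ w, wordG x y w ∈ Subgroup.closure {x, y}
  | [] => one_mem _
  | true :: w => mul_mem (Subgroup.subset_closure (Set.mem_insert_of_mem _ rfl)) (wordG_mem x y w)
  | false :: w => mul_mem (Subgroup.subset_closure (Set.mem_insert _ _)) (wordG_mem x y w)

variable {F : Type*} [Field F] [IsAlgClosed F] {V : Type*} [AddCommGroup V] [Module F V]
  [FiniteDimensional F V] [Nontrivial V] [Finite G] {ρ : G →* Module.End F V}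
  (hρ : IsLinFPF ρ)

/-- The value of a coefficient. -/
def num (C : Module.End F V) (u : Num) : Module.End F V := u.1 • 1 + u.2 • C

/-- The value of a coefficient vector. -/
def eval (C X Y : Module.End F V) (v : Vec) : Module.End F V :=
  num C v.1 + num C v.2.1 * X + num C v.2.2.1 * Y + num C v.2.2.2 * (X * Y)

include hρ

theorem eval_nf {x y : G} (hx : orderOf x = 3) (hy : orderOf y = 3)
    (hC : Pair.cc ρ x y * Pair.cc ρ x y = Pair.cc ρ x y + 1) (w : List Bool) :
    ρ (wordG x y w) = eval (Pair.cc ρ x y) (ρ x) (ρ y) (nf w) := by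
  have hCX := Pair.cc_comm_left hρ (y := y) hx
  have hCY : Pair.cc ρ x y * ρ y = ρ y * Pair.cc ρ x y := by
    rw [Pair.cc_symm hρ]; exact Pair.cc_comm_left hρ hy
  have hx2 := order_three hρ hx
  have hy2 := order_three hρ hy
  have hCdef : Pair.cc ρ x y = ρ x * ρ y + ρ y * ρ x + ρ x + ρ y + 1 := rfl
  generalize Pair.cc ρ x y = C at hC hCX hCY hCdef ⊢
  have hX1 : ρ x * ρ x = -ρ x - 1 := by
    rw [← sub_eq_zero, ← hx2]; abel
  have hY1 : ρ y * ρ y = -ρ y - 1 := by
    rw [← sub_eq_zero, ← hy2]; abel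
  have hYX : ρ y * ρ x = C - ρ x * ρ y - ρ x - ρ y - 1 := by rw [hCdef]; abel
  have hXXY : ρ x * (ρ x * ρ y) = -(ρ x * ρ y) - ρ y := by
    rw [← mul_assoc, hX1, sub_mul, neg_mul, one_mul]
  have hYXY : ρ y * (ρ x * ρ y) = C * ρ y + ρ x + 1 := by
    rw [← mul_assoc, hYX]
    simp only [sub_mul, one_mul, mul_assoc, hY1, mul_sub, mul_neg, mul_one]
    abel
  have cX : ∀ r, ρ x * (C * r) = C * (ρ x * r) := fun r => by rw [← mul_assoc, ← hCX, mul_assoc]
  have cY : ∀ r, ρ y * (C * r) = C * (ρ y * r) := fun r => by rw [← mul_assoc, ← hCY, mul_assoc]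
  have cC : ∀ r, C * (C * r) = C * r + r := fun r => by rw [← mul_assoc, hC, add_mul, one_mul]
  induction w with
  | nil => simp [wordG, nf, eval, num]
  | cons s w ih =>
    rw [wordG, map_mul, ih, nf]
    rcases nf w with ⟨⟨a, a'⟩, ⟨b, b'⟩, ⟨c, c'⟩, ⟨d, d'⟩⟩
    cases s <;>
    · simp only [eval, num, step, mulC, Bool.false_eq_true, if_false, if_true, Prod.mk_add_mk,
        Prod.mk_sub_mk, Prod.neg_mk, mul_add, add_mul, mul_smul_comm, smul_mul_assoc, mul_one,
        one_mul, ← hCX, ← hCY, cX, cY, hX1, hY1, hYX, hXXY, hYXY, mul_sub, mul_neg, cC, hC,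
        smul_add, smul_sub, smul_neg]
      module

/-- **The embedding.** -/
theorem exists_hom {x y : G} (hx : orderOf x = 3) (hy : orderOf y = 3) (hxy : ¬ Commute x y)
    (hC : Pair.cc ρ x y * Pair.cc ρ x y = Pair.cc ρ x y + 1) :
    ∃ f : SL →* G, Function.Injective f ∧ f sX = x ∧ f sY = y ∧
      ∀ g, f g ∈ Subgroup.closure {x, y} := by
  have hstep : ∀ (p : Quad) (s : Bool), qdet p = 1 →
      wordG x y (wordOf (qm (gen s) p)) = wordG x y (s :: wordOf p) := by
    rintro ⟨a, b, c, d⟩ s hp
    exact injective hρ (by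
      rw [eval_nf hρ hx hy hC, eval_nf hρ hx hy hC, nf_step a b c d hp s])
  have hword : ∀ (w : List Bool) (p : Quad), qdet p = 1 →
      qdet (qm (qword w) p) = 1 ∧
      wordG x y (wordOf (qm (qword w) p)) = wordG x y w * wordG x y (wordOf p) := by
    intro w
    induction w with
    | nil =>
      rintro ⟨a, b, c, d⟩ hp
      have e : qm (qword []) (a, b, c, d) = (a, b, c, d) := by simp [qword, qm, qI]
      rw [e, wordG, one_mul]
      exact ⟨hp, rfl⟩
    | cons s w ih =>
      intro p hp
      obtain ⟨h1, h2⟩ := ih p hp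
      have e : qm (qword (s :: w)) p = qm (gen s) (qm (qword w) p) := by
        simp only [qword, qm, Prod.mk.injEq]
        refine ⟨?_, ?_, ?_, ?_⟩ <;> ring
      rw [e, qdet_qm, h1, hstep _ s h1, wordG, h2, wordG, mul_assoc]
      exact ⟨by cases s <;> decide, rfl⟩
  let f : SL →* G :=
  { toFun := fun g => wordG x y (wordOf (quad g))
    map_one' := by rw [quad_one, wordOf_basic.1]; rfl
    map_mul' := fun g h => by
      have hg : qword (wordOf (quad g)) = quad g :=
        qword_wordOf _ _ _ _ (quad_det g)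
      have := (hword (wordOf (quad g)) (quad h) (quad_det h)).2
      rwa [hg, ← quad_mul] at this }
  have hfX : f sX = x := by
    show wordG x y (wordOf (quad sX)) = x
    rw [sX, quad_ofQuad, wordOf_basic.2.1]
    simp [wordG]
  have hfY : f sY = y := by
    show wordG x y (wordOf (quad sY)) = y
    rw [sY, quad_ofQuad, wordOf_basic.2.2.1]
    simp [wordG]
  have hN5 : sN = (sX * sY) ^ 5 := by
    apply quad_injective
    rw [show (sX * sY) ^ 5 = (sX * sY) * (sX * sY) * ((sX * sY) * (sX * sY)) * (sX * sY) by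
        rw [pow_succ, pow_succ, pow_succ, pow_succ, pow_one]; group, quad_mul, quad_mul, quad_mul,
      quad_mul, sX, sY, quad_ofQuad, quad_ofQuad, sN, quad_ofQuad, ← wordOf_basic.2.2.2]
    rfl
  have hz : f sN ≠ 1 := by
    rw [hN5, map_pow, map_mul, hfX, hfY]
    intro h
    obtain ⟨h2, -⟩ := Pair.cases hρ hx hy hxy
    have hm1 : x * y ≠ 1 := fun e => hxy (by
      rw [eq_inv_of_mul_eq_one_right e]; exact (Commute.refl x).inv_right)
    have hs := geom_sum_eq_zero hρ hm1 h
    simp only [Finset.sum_range_succ, Finset.sum_range_zero, pow_zero, pow_one, zero_add] at hs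
    set M := ρ (x * y) with hM
    set N := ρ (x * y)⁻¹ with hN
    have hNM : N * M = 1 := by rw [← map_mul, inv_mul_cancel, map_one]
    have hMN : M * N = 1 := by rw [← map_mul, mul_inv_cancel, map_one]
    have hNM' : ∀ P : Module.End F V, N * (M * P) = P := fun P => by
      rw [← mul_assoc, hNM, one_mul]
    have h5 : Pair.cc ρ x y * Pair.cc ρ x y + Pair.cc ρ x y - 1 = 0 := by
      rw [Pair.cc_eq hρ hx hy]
      calc (M + N) * (M + N) + (M + N) - 1
          = N * N + N + 1 + M + M * M + (M * N - 1) + (N * M - 1) := by noncomm_ring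
        _ = N * (N * (1 + M + M ^ 2 + M ^ 3 + M ^ 4)) := by
          rw [hMN, hNM, sub_self, add_zero, add_zero]
          simp only [mul_add, pow_succ', pow_zero, mul_one, hNM, hNM']
        _ = 0 := by rw [hs, mul_zero, mul_zero]
    rw [hC] at h5
    have := (smul_eq_zero.mp (by rw [← h5]; module : (2 : F) • Pair.cc ρ x y = 0)).resolve_left h2
    rw [this, mul_zero, zero_add] at hC
    exact zero_ne_one hC
  refine ⟨f, ?_, hfX, hfY, fun g => wordG_mem x y _⟩
  rw [injective_iff_map_eq_one]
  intro g hg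
  by_contra hg1
  have hgN : g ≠ sN := fun h => hz (h ▸ hg)
  obtain ⟨w, -, hw3, hw2⟩ := escape _ _ _ _ (quad_det g)
    (fun h => hg1 (quad_injective (h.trans quad_one.symm)))
    (fun h => hgN (quad_injective (h.trans (quad_ofQuad qN (by decide)).symm)))
  have hwd : qdet (qword w) = 1 := by
    have := (hword w qI (by decide)).1
    rwa [qdet_qm, show qdet qI = 1 by decide, mul_one] at this
  set h := ofQuad (qword w) hwd
  have e3 : h ^ 3 = 1 := by
    apply quad_injective
    rw [pow_three', quad_mul, quad_mul, quad_one, quad_ofQuad]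
    exact hw3
  have e2 : (g * h) ^ 2 = sN := by
    apply quad_injective
    rw [sq, quad_mul, quad_mul, sN, quad_ofQuad, quad_ofQuad]
    exact hw2
  have f2 : f sN = f h ^ 2 := by rw [← e2, map_pow, map_mul, hg, one_mul]
  have f3 : f h ^ 3 = 1 := by rw [← map_pow, e3, map_one]
  have hN2 : f sN ^ 2 = 1 := by
    have e : sN ^ 2 = 1 := by
      apply quad_injective
      rw [sq, quad_mul, quad_one, sN, quad_ofQuad]
      decide
    rw [← map_pow, e, map_one]
  refine hz ?_
  calc f sN = f sN ^ 3 := by rw [pow_succ, hN2, one_mul]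
    _ = (f h ^ 3) ^ 2 := by rw [f2, ← pow_mul, ← pow_mul]
    _ = 1 := by rw [f3, one_pow]

end Cfsg.Agent.Lib.FpfLinear.Hom
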