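import Cfsg.Agent.Lib.FpfLinear.Plane
import Cfsg.Agent.Lib.FpfLinear.Algebra

/-!
# A pair of elements of order three in a fixed-point-free linear group
-/

set_option linter.unusedSectionVars false

namespace Cfsg.Agent.Lib.FpfLinear.Pair

open Cfsg.Agent.Lib.FpfLinear.Basic Cfsg.Agent.Lib.FpfLinear.Algebra Module

variable {F : Type*} [Field F] [IsAlgClosed F] {V : Type*} [AddCommGroup V] [Module F V]
  [FiniteDimensional F V] [Nontrivial V] {G : Type*} [Group G] [Finite G]
  {ρ : G →* Module.End F V}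

/-- The invariant of a pair. -/
def cc (ρ : G →* Module.End F V) (x y : G) : Module.End F V :=
  ρ x * ρ y + ρ y * ρ x + ρ x + ρ y + 1

variable (hρ : IsLinFPF ρ)
include hρ

theorem cc_eq {x y : G} (hx : orderOf x = 3) (hy : orderOf y = 3) :
    cc ρ x y = ρ (x * y) + ρ (x * y)⁻¹ := by
  rw [mul_inv_rev, map_mul, map_mul, inv_eq_of_order_three hρ hx, inv_eq_of_order_three hρ hy, cc]
  noncomm_ring

theorem cc_comm_left {x y : G} (hx : orderOf x = 3) : cc ρ x y * ρ x = ρ x * cc ρ x y := by
  have h := order_three hρ hx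
  rw [← sub_eq_zero]
  calc cc ρ x y * ρ x - ρ x * cc ρ x y
      = ρ y * (ρ x * ρ x + ρ x + 1) - (ρ x * ρ x + ρ x + 1) * ρ y := by unfold cc; noncomm_ring
    _ = 0 := by rw [h, mul_zero, zero_mul, sub_zero]

theorem cc_symm (x y : G) : cc ρ x y = cc ρ y x := by unfold cc; abel

theorem cc_inv {x y : G} (hy : orderOf y = 3) (hx : orderOf x = 3) :
    cc ρ x y⁻¹ = 1 - cc ρ x y := by
  rw [cc, cc, inv_eq_of_order_three hρ hy]
  have h := order_three hρ hx
  noncomm_ring

theorem exists_pow {x y : G} (hx : orderOf x = 3) (hy : orderOf y = 3) (hxy : ¬ Commute x y) :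
    ∃ n, (n = 2 ∨ n = 3 ∨ n = 5) ∧ (x * y) ^ (2 * n) = 1 ∧ 2 ∣ Nat.card G := by
  set C := cc ρ x y with hC
  have hCX : C * ρ x = ρ x * C := cc_comm_left hρ hx
  have hCY : C * ρ y = ρ y * C := by rw [hC, cc_symm hρ]; exact cc_comm_left hρ hy
  obtain ⟨τ, hτ⟩ := Module.End.exists_eigenvalue C
  set E := Module.End.eigenspace C τ with hE
  have hinv : ∀ v ∈ E, ρ x v ∈ E := by
    intro v hv
    rw [hE, Module.End.mem_eigenspace_iff] at hv ⊢
    rw [← Module.End.mul_apply, hCX, Module.End.mul_apply, hv, map_smul]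
  have : Nontrivial E := Submodule.nontrivial_iff_ne_bot.mpr hτ
  obtain ⟨ω, hω⟩ := Module.End.exists_eigenvalue ((ρ x).restrict hinv)
  obtain ⟨⟨v, hvE⟩, hv⟩ := hω.exists_hasEigenvector
  have hv0 : v ≠ 0 := fun h => hv.2 (Subtype.ext h)
  have hxv : ρ x v = ω • v := congrArg Subtype.val (Module.End.mem_eigenspace_iff.mp hv.1)
  have hCv : C v = τ • v := Module.End.mem_eigenspace_iff.mp hvE
  have hind : LinearIndependent F ![v, ρ y v] := by
    rw [LinearIndependent.pair_iff' hv0]
    intro t ht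
    refine hxy (eq_of_agree hρ hv0 ?_)
    rw [map_mul, map_mul, Module.End.mul_apply, Module.End.mul_apply, hxv, ← ht, map_smul, map_smul,
      hxv, ← ht, smul_comm]
  set U : Submodule F V := Submodule.span F {v, ρ y v} with hU
  have hvU : v ∈ U := Submodule.subset_span (Set.mem_insert _ _)
  have hyU : ρ y v ∈ U := Submodule.subset_span (Set.mem_insert_of_mem _ rfl)
  have hdim : finrank F U = 2 := by
    have h := finrank_span_eq_card hind
    rw [Matrix.range_cons_cons_empty] at h
    simpa using h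
  let S : Subgroup G :=
  { carrier := {g | ∀ u ∈ U, ρ g u ∈ U}
    one_mem' := fun u hu => by rw [map_one]; exact hu
    mul_mem' := fun {g k} hg hk u hu => by
      rw [map_mul, Module.End.mul_apply]; exact hg _ (hk u hu)
    inv_mem' := fun {g} hg => by
      have hpow : ∀ n : ℕ, ∀ u ∈ U, ρ (g ^ n) u ∈ U := by
        intro n
        induction n with
        | zero => intro u hu; rw [pow_zero, map_one]; exact hu
        | succ n ih =>
          intro u hu
          rw [pow_succ, map_mul, Module.End.mul_apply]; exact ih _ (hg u hu)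
      have : g⁻¹ = g ^ (orderOf g - 1) := by
        refine inv_eq_of_mul_eq_one_right ?_
        rw [← pow_succ', Nat.sub_add_cancel (orderOf_pos g), pow_orderOf_eq_one]
      intro u hu
      rw [this]; exact hpow _ u hu }
  have hspan : ∀ g : G, ρ g v ∈ U → ρ g (ρ y v) ∈ U → g ∈ S := by
    intro g h1 h2 u hu
    obtain ⟨a, b, rfl⟩ := Submodule.mem_span_pair.mp (hU ▸ hu)
    rw [map_add, map_smul, map_smul]
    exact add_mem (U.smul_mem _ h1) (U.smul_mem _ h2)
  have hy3 := LinearMap.congr_fun (order_three hρ hy) v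
  simp only [LinearMap.add_apply, Module.End.mul_apply, Module.End.one_apply,
    LinearMap.zero_apply] at hy3
  have hyS : y ∈ S := hspan y hyU (by
    rw [show ρ y (ρ y v) = -ρ y v - v by
      rw [eq_sub_iff_add_eq, eq_neg_iff_add_eq_zero, ← hy3]; abel]
    exact sub_mem (neg_mem hyU) hvU)
  have hxS : x ∈ S := hspan x (hxv ▸ U.smul_mem _ hvU) (by
    have h := hCv
    simp only [hC, cc, LinearMap.add_apply, Module.End.mul_apply, Module.End.one_apply, hxv,
      map_smul] at h
    rw [show ρ x (ρ y v) = τ • v - ω • ρ y v - ω • v - ρ y v - v by rw [← h]; abel]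
    exact sub_mem (sub_mem (sub_mem (sub_mem (U.smul_mem _ hvU) (U.smul_mem _ hyU))
      (U.smul_mem _ hvU)) hyU) hvU)
  let K : Subgroup G := Subgroup.closure {x, y}
  have hKS : K ≤ S := by
    rw [Subgroup.closure_le]
    rintro g (rfl | rfl)
    exacts [hxS, hyS]
  let R : K →* Module.End F U :=
  { toFun := fun g => (ρ g).restrict (hKS g.2)
    map_one' := by
      refine LinearMap.ext fun u => Subtype.ext ?_
      show ρ ((1 : K) : G) u = u
      rw [OneMemClass.coe_one, map_one]; rfl
    map_mul' := fun g k => by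
      refine LinearMap.ext fun u => Subtype.ext ?_
      show ρ ((g * k : K) : G) u = ρ g (ρ k u)
      rw [Subgroup.coe_mul, map_mul]; rfl }
  have hR : IsLinFPF R := fun g hg u hu =>
    Subtype.ext (hρ g (fun h => hg (Subtype.ext h)) u (congrArg Subtype.val hu))
  have : Nontrivial U := ⟨⟨⟨v, hvU⟩, 0, fun h => hv0 (congrArg Subtype.val h)⟩⟩
  let a : K := ⟨x, Subgroup.subset_closure (Set.mem_insert _ _)⟩
  let b : K := ⟨y, Subgroup.subset_closure (Set.mem_insert_of_mem _ rfl)⟩
  have hgen : Subgroup.closure {a, b} = ⊤ := by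
    rw [eq_top_iff, ← Subgroup.closure_closure_coe_preimage, Subgroup.closure_le]
    rintro ⟨g, hg⟩ (h : g = x ∨ g = y)
    refine Subgroup.subset_closure ?_
    rcases h with rfl | rfl
    exacts [Or.inl rfl, Or.inr rfl]
  have hCU : ∀ u ∈ U, C u = τ • u := by
    intro u hu
    obtain ⟨s, t, rfl⟩ := Submodule.mem_span_pair.mp (hU ▸ hu)
    rw [map_add, map_smul, map_smul, ← Module.End.mul_apply, hCY, Module.End.mul_apply, hCv,
      map_smul, smul_add, smul_comm s τ, smul_comm t τ]
  obtain ⟨n, hn, hpow, h2⟩ := Plane.plane hR hdim (a := a) (b := b)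
    (by rw [← hx]; exact (Subgroup.orderOf_coe a).symm)
    (by rw [← hy]; exact (Subgroup.orderOf_coe b).symm)
    (fun h => hxy (congrArg Subtype.val h)) hgen (τ := τ) (LinearMap.ext fun u => Subtype.ext (by
      show ρ (x * y) u + ρ (x * y)⁻¹ u = τ • (u : V)
      rw [← LinearMap.add_apply, ← cc_eq hρ hx hy, ← hC, hCU u u.2]))
  exact ⟨n, hn, congrArg Subtype.val hpow, h2.trans (Subgroup.card_subgroup_dvd_card K)⟩

theorem five_cases {x y : G} (hx : orderOf x = 3) (hy : orderOf y = 3) (hxy : ¬ Commute x y) :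
    (2 : F) ≠ 0 ∧ (cc ρ x y = 0 ∨ cc ρ x y = 1 ∨ cc ρ x y = -1 ∨
      cc ρ x y * cc ρ x y = cc ρ x y + 1 ∨
      (cc ρ x y * cc ρ x y = 1 - cc ρ x y ∧ (5 : F) ≠ 0)) := by
  obtain ⟨n, hn, hpow, h2⟩ := exists_pow hρ hx hy hxy
  refine ⟨by simpa using natCast_ne_zero hρ Nat.prime_two h2, ?_⟩
  set m := x * y with hm
  have hnc : ¬ Commute x m := by
    intro h
    apply hxy
    have h' := h.eq
    rw [hm, mul_assoc] at h'
    exact mul_left_cancel h'
  have hker : ∀ u : V, ρ m u = -u → ρ (m ^ n) = -1 → u = 0 := by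
    intro u hu hz
    by_contra hu0
    refine hnc ?_
    have h1 : m * m ^ n = 1 := eq_one_of_fixed hρ hu0 (by
      rw [map_mul, hz, mul_neg_one, LinearMap.neg_apply, hu, neg_neg])
    have hc : ρ m = -1 := by
      have h3 : ρ m * ρ (m ^ n) = 1 := by rw [← map_mul, h1, map_one]
      rw [hz, mul_neg_one] at h3
      exact neg_eq_iff_eq_neg.mp h3
    refine injective hρ ?_
    show ρ (x * m) = ρ (m * x)
    rw [map_mul ρ x m, map_mul ρ m x, hc, mul_neg_one, neg_one_mul]
  set M := ρ m
  set N := ρ m⁻¹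
  have hMN : M * N = 1 := by rw [← map_mul, mul_inv_cancel, map_one]
  have hNM : N * M = 1 := by rw [← map_mul, inv_mul_cancel, map_one]
  have hcc : cc ρ x y = M + N := cc_eq hρ hx hy
  rw [hcc]
  have hNM' : ∀ P : Module.End F V, N * (M * P) = P := fun P => by
    rw [← mul_assoc, hNM, one_mul]
  have hm1 : m ≠ 1 := fun h => hnc (h ▸ Commute.one_right x)
  rcases eq_or_ne (m ^ n) 1 with h1 | h1
  · have hs := geom_sum_eq_zero hρ hm1 h1
    rcases hn with rfl | rfl | rfl
    · refine absurd (injective hρ ?_ : x * m = m * x) hnc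
      rw [map_mul ρ x m, map_mul ρ m x, eq_neg_one hρ hm1 h1, mul_neg_one, neg_one_mul]
    · simp only [Finset.sum_range_succ, Finset.sum_range_zero, pow_zero, pow_one, zero_add] at hs
      refine Or.inr (Or.inr (Or.inl ?_))
      have hN : N = M * M := by
        show ρ m⁻¹ = ρ m * ρ m
        rw [← map_mul, ← eq_inv_of_mul_eq_one_left (by rw [← pow_three']; exact h1)]
      rw [eq_neg_iff_add_eq_zero, ← hs, hN, sq]
      abel
    · simp only [Finset.sum_range_succ, Finset.sum_range_zero, pow_zero, pow_one, zero_add] at hs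
      refine Or.inr (Or.inr (Or.inr (Or.inr ⟨?_, ?_⟩)))
      · rw [eq_sub_iff_add_eq, ← sub_eq_zero]
        calc (M + N) * (M + N) + (M + N) - 1
            = N * N + N + 1 + M + M * M + (M * N - 1) + (N * M - 1) := by noncomm_ring
          _ = N * (N * (1 + M + M ^ 2 + M ^ 3 + M ^ 4)) := by
            rw [hMN, hNM, sub_self, add_zero, add_zero]
            simp only [mul_add, pow_succ', pow_zero, mul_one, hNM, hNM']
          _ = 0 := by rw [show (1 : Module.End F V) + M + M ^ 2 + M ^ 3 + M ^ 4 = 0 from hs,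
                mul_zero, mul_zero]
      · have : Fact (Nat.Prime 5) := ⟨Nat.prime_five⟩
        have h5 := orderOf_eq_prime h1 hm1
        simpa using natCast_ne_zero hρ Nat.prime_five (h5 ▸ orderOf_dvd_natCard m)
  · have hz : ρ (m ^ n) = -1 := eq_neg_one hρ h1 (by rw [← pow_mul, mul_comm]; exact hpow)
    have hcancel : ∀ P : Module.End F V, (M + 1) * P = 0 → P = 0 := by
      intro P hP
      refine LinearMap.ext fun v => hker _ ?_ hz
      have := LinearMap.congr_fun hP v
      rw [Module.End.mul_apply, LinearMap.add_apply, Module.End.one_apply,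
        LinearMap.zero_apply] at this
      exact eq_neg_of_add_eq_zero_left this
    rw [map_pow] at hz
    rcases hn with rfl | rfl | rfl
    · refine Or.inl ?_
      have hN : N = -M := left_inv_eq_right_inv hNM (by rw [mul_neg, ← sq, hz, neg_neg])
      rw [hN, add_neg_cancel]
    · refine Or.inr (Or.inl ?_)
      have hp := hcancel (M * M - M + 1) (by
        calc (M + 1) * (M * M - M + 1) = M ^ 3 + 1 := by noncomm_ring
          _ = 0 := by rw [hz, neg_add_cancel])
      have hN : N = 1 - M := left_inv_eq_right_inv hNM (by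
        calc M * (1 - M) = 1 - (M * M - M + 1) := by noncomm_ring
          _ = 1 := by rw [hp, sub_zero])
      rw [hN, add_sub_cancel]
    · refine Or.inr (Or.inr (Or.inr (Or.inl ?_)))
      have hp := hcancel (M ^ 4 - M ^ 3 + M ^ 2 - M + 1) (by
        calc (M + 1) * (M ^ 4 - M ^ 3 + M ^ 2 - M + 1) = M ^ 5 + 1 := by noncomm_ring
          _ = 0 := by rw [hz, neg_add_cancel])
      rw [← sub_eq_zero]
      calc (M + N) * (M + N) - (M + N + 1)
          = N * N - N + 1 - M + M * M + (M * N - 1) + (N * M - 1) := by noncomm_ring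
        _ = N * (N * (M ^ 4 - M ^ 3 + M ^ 2 - M + 1)) := by
          rw [hMN, hNM, sub_self, add_zero, add_zero]
          simp only [mul_add, mul_sub, pow_succ', pow_zero, mul_one, hNM, hNM']
          abel
        _ = 0 := by rw [hp, mul_zero, mul_zero]

/-- **The pair lemma.** -/
theorem cases {x y : G} (hx : orderOf x = 3) (hy : orderOf y = 3) (hxy : ¬ Commute x y) :
    (2 : F) ≠ 0 ∧ (cc ρ x y = 0 ∨ cc ρ x y = 1 ∨ cc ρ x y * cc ρ x y = cc ρ x y + 1) := by
  have hy' : orderOf y⁻¹ = 3 := by rw [orderOf_inv, hy]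
  have hxy' : ¬ Commute x y⁻¹ := fun h => hxy (by simpa using h.inv_right)
  obtain ⟨h2, hA⟩ := five_cases hρ hx hy hxy
  obtain ⟨-, hB⟩ := five_cases hρ hx hy' hxy'
  rw [cc_inv hρ hy hx] at hB
  refine ⟨h2, ?_⟩
  set C := cc ρ x y
  have hsc : ∀ t : F, t ≠ 0 → t • (1 : Module.End F V) ≠ 0 := fun t ht h =>
    (smul_eq_zero.mp h).elim ht one_ne_zero
  rcases hA with h | h | h | h | ⟨h, h5⟩
  · exact Or.inl h
  · exact Or.inr (Or.inl h)
  · exfalso
    have hm' : ρ (x * y⁻¹) + ρ (x * y⁻¹)⁻¹ = 2 := by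
      rw [← cc_eq hρ hx hy', cc_inv hρ hy hx, ← one_add_one_eq_two]
      show (1 : Module.End F V) - C = 1 + 1
      rw [h, sub_neg_eq_add]
    set M := ρ (x * y⁻¹) with hM
    set N := ρ (x * y⁻¹)⁻¹ with hN
    have hMN : M * N = 1 := by rw [← map_mul, mul_inv_cancel, map_one]
    have hsq : (M - 1) * (M - 1) = 0 := by
      calc (M - 1) * (M - 1) = M * (M + N - 2) - (M * N - 1) := by
            rw [← one_add_one_eq_two]; noncomm_ring
        _ = 0 := by rw [hm', sub_self, mul_zero, hMN, sub_self, sub_zero]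
    by_cases h1 : x * y⁻¹ = 1
    · exact hxy (by rw [mul_inv_eq_one.mp h1])
    obtain ⟨v, hv⟩ := exists_ne (0 : V)
    have hfix : ∀ w : V, (M - 1) w = 0 → w = 0 := fun w hw =>
      hρ _ h1 w (sub_eq_zero.mp hw)
    exact hv (hfix _ (hfix _ (LinearMap.congr_fun hsq v)))
  · exact Or.inr (Or.inr h)
  · exfalso
    have hne : ∀ t : F, t ≠ 0 → ∀ P : Module.End F V, P = t • 1 → P ≠ 0 := fun t ht P e =>
      e ▸ hsc t ht
    rcases hB with g | g | g | g | ⟨g, -⟩
    · refine hsc 1 one_ne_zero ?_
      rw [sub_eq_zero] at g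
      rw [← g] at h
      simpa using h
    · refine hsc 1 one_ne_zero ?_
      rw [sub_eq_self] at g
      rw [g] at h
      simpa using h.symm
    · refine hsc 5 h5 ?_
      have hC : C = 2 := by
        rw [sub_eq_iff_eq_add, eq_neg_add_iff_add_eq] at g
        rw [← g, one_add_one_eq_two]
      rw [hC] at h
      rw [← num_smul]
      calc (5 : Module.End F V) = 2 * 2 - (1 - 2) := by norm_num
        _ = 0 := by rw [h, sub_self]
    · have h2C : (2 : F) • C = 0 := by
        rw [ofNat_smul_eq_nsmul, two_nsmul]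
        calc C + C = (C * C - (1 - C)) - ((1 - C) * (1 - C) - ((1 - C) + 1)) := by noncomm_ring
          _ = 0 := by rw [g, h, sub_self, sub_self, sub_self]
      refine hsc 1 one_ne_zero ?_
      rw [(smul_eq_zero.mp h2C).resolve_left h2] at h
      simpa using h.symm
    · have h2C : (2 : F) • ((2 : F) • C - 1) = 0 := by
        have e : (4 : F) • C - (2 : F) • (1 : Module.End F V) = 0 := by
          rw [ofNat_smul_eq_nsmul F 4, ofNat_smul_eq_nsmul F 2]
          calc (4 : ℕ) • C - (2 : ℕ) • (1 : Module.End F V)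
              = (C * C - (1 - C)) - ((1 - C) * (1 - C) - (1 - (1 - C))) := by noncomm_ring
            _ = 0 := by rw [g, h, sub_self, sub_self, sub_self]
        rw [smul_sub, smul_smul, show (2 : F) * 2 = 4 by norm_num, e]
      have hC := sub_eq_zero.mp ((smul_eq_zero.mp h2C).resolve_left h2)
      have h' := congrArg (fun P => (4 : F) • P) h
      refine hsc 1 one_ne_zero ?_
      have e : ((2 : F) • C) * ((2 : F) • C) = (4 : F) • (1 : Module.End F V) - (2 : F) • ((2 : F) • C) := by
        rw [smul_mul_smul_comm, show (2 : F) * 2 = 4 by norm_num, h, smul_sub, smul_smul,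
          show (2 : F) * 2 = 4 by norm_num]
      rw [hC, one_mul] at e
      calc (1 : F) • (1 : Module.End F V)
          = ((4 : F) • 1 - (2 : F) • 1) - 1 := by module
        _ = 0 := by rw [← e, sub_self]

end Cfsg.Agent.Lib.FpfLinear.Pair
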