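import Cfsg.Agent.Lib.FpfLinear.Basic
import Cfsg.Agent.Lib.FpfLinear.Counting
import Mathlib.LinearAlgebra.FiniteDimensional.Lemmas
import Mathlib.LinearAlgebra.Span.Basic

/-!
# Two elements of order three acting fixed-point-freely on a plane
-/

namespace Cfsg.Agent.Lib.FpfLinear.Plane

open Cfsg.Agent.Lib.FpfLinear.Basic Module MulAction

set_option linter.unusedSectionVars false

variable {F : Type*} [Field F] [IsAlgClosed F] {U : Type*} [AddCommGroup U] [Module F U]
  [FiniteDimensional F U] [Nontrivial U] {X : Type*} [Group X] [Finite X]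
  {R : X →* Module.End F U} (hR : IsLinFPF R)

/-- Not a scalar. -/
def NS (R : X →* Module.End F U) (g : X) : Prop := ∀ t : F, R g ≠ t • (1 : Module.End F U)

include hR

theorem orderOf_cast_ne_zero (g : X) : (orderOf g : F) ≠ 0 := by
  intro h
  obtain ⟨p, hp⟩ := CharP.exists F
  rcases CharP.char_is_prime_or_zero F p with hpp | rfl
  · exact natCast_ne_zero hR hpp
      (((CharP.cast_eq_zero_iff F p _).mp h).trans (orderOf_dvd_natCard g)) (CharP.cast_eq_zero F p)
  · exact (orderOf_pos g).ne' (by simpa using (CharP.cast_eq_zero_iff F 0 _).mp h)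

theorem commutative_of_eigvec {S : Subgroup X} {u : U} (hu : u ≠ 0)
    (h : ∀ g ∈ S, ∃ t : F, R g u = t • u) : IsMulCommutative S := by
  refine ⟨⟨fun g k => Subtype.ext (eq_of_agree hR hu ?_)⟩⟩
  obtain ⟨t, ht⟩ := h g g.2
  obtain ⟨s, hs⟩ := h k k.2
  simp only [Subgroup.coe_mul, map_mul, Module.End.mul_apply, ht, hs, map_smul, smul_smul, mul_comm]

omit hR in
theorem spanning (hdim : finrank F U = 2) {u w : U} (h : LinearIndependent F ![u, w]) (v : U) :
    ∃ a b : F, v = a • u + b • w := by
  have hsp := h.span_eq_top_of_card_eq_finrank (by simp [hdim])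
  rw [Matrix.range_cons_cons_empty] at hsp
  obtain ⟨a, b, hab⟩ := Submodule.mem_span_pair.mp (hsp ▸ Submodule.mem_top : v ∈ _)
  exact ⟨a, b, hab.symm⟩

/-- A non-scalar element has exactly two eigenlines, with different eigenvalues. -/
theorem two_eigvec (hdim : finrank F U = 2) {g : X} (hg : NS R g) :
    ∃ (u w : U) (s t : F), LinearIndependent F ![u, w] ∧ s ≠ t ∧ R g u = s • u ∧ R g w = t • w ∧
      ∀ (v : U) (r : F), v ≠ 0 → R g v = r • v →
        Submodule.span F {v} = Submodule.span F {u} ∨ Submodule.span F {v} = Submodule.span F {w} := by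
  obtain ⟨s, hs⟩ := Module.End.exists_eigenvalue (R g)
  obtain ⟨u, hu⟩ := hs.exists_hasEigenvector
  have hgu : R g u = s • u := hu.apply_eq_smul
  have hu0 : u ≠ 0 := hu.2
  obtain ⟨w, hw⟩ : ∃ w, LinearIndependent F ![u, w] :=
    exists_linearIndependent_pair_of_one_lt_finrank (by omega) hu0
  obtain ⟨α, β, hαβ⟩ := spanning hdim hw (R g w)
  have hne : β ≠ s := by
    rintro rfl
    have hit : ∀ k : ℕ, R (g ^ k) u = β ^ k • u ∧
        β • R (g ^ k) w = ((k : F) * α * β ^ k) • u + β ^ (k + 1) • w := by
      intro k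
      induction k with
      | zero => simp
      | succ k ih =>
        rw [pow_succ', map_mul, Module.End.mul_apply, Module.End.mul_apply]
        refine ⟨by rw [ih.1, map_smul, hgu, smul_smul, pow_succ], ?_⟩
        rw [← map_smul, ih.2, map_add, map_smul, map_smul, hgu, hαβ, Nat.cast_succ]
        module
    have h := hit (orderOf g)
    rw [pow_orderOf_eq_one, map_one, Module.End.one_apply, Module.End.one_apply] at h
    have hpow : β ^ orderOf g = 1 :=
      (smul_left_injective F hu0 (by simp only [one_smul]; exact h.1)).symm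
    have h2 := h.2
    rw [pow_succ, hpow, one_mul, mul_one, right_eq_add] at h2
    rcases mul_eq_zero.mp ((smul_eq_zero.mp h2).resolve_right hu0) with h3 | rfl
    · exact orderOf_cast_ne_zero hR g h3
    · refine hg β (LinearMap.ext fun v => ?_)
      obtain ⟨a, b, rfl⟩ := spanning hdim hw v
      rw [LinearMap.smul_apply, Module.End.one_apply, map_add, map_smul, map_smul, hgu, hαβ]
      module
  have hne' : β - s ≠ 0 := sub_ne_zero.mpr hne
  set w' := w + (α / (β - s)) • u with hw'
  have hgw : R g w' = β • w' := by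
    have hf : α + α / (β - s) * s = β * (α / (β - s)) := by field_simp; ring
    rw [hw', map_add, map_smul, hgu, hαβ, smul_add, smul_smul, smul_smul, add_right_comm,
      ← add_smul, hf, add_comm]
  have hind : LinearIndependent F ![u, w'] := by
    rw [LinearIndependent.pair_iff]
    intro a b hab
    have := LinearIndependent.pair_iff.mp hw (a + b * (α / (β - s))) b (by rw [← hab, hw']; module)
    obtain ⟨h1, rfl⟩ := this
    exact ⟨by simpa using h1, rfl⟩
  refine ⟨u, w', s, β, hind, hne.symm, hgu, hgw, fun v r hv hgv => ?_⟩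
  obtain ⟨a, b, rfl⟩ := spanning hdim hind v
  clear_value w'
  rw [map_add, map_smul, map_smul, hgu, hgw, smul_add, smul_smul, smul_smul, smul_smul,
    smul_smul] at hgv
  obtain ⟨h1, h2⟩ := LinearIndependent.pair_iff.mp hind (a * s - r * a) (b * β - r * b) (by
    rw [sub_smul, sub_smul, sub_add_sub_comm, hgv, sub_self])
  by_cases hb : b = 0
  · left
    subst hb
    rw [zero_smul, add_zero] at hv ⊢
    exact Submodule.span_singleton_smul_eq (Ne.isUnit fun h => hv (by rw [h, zero_smul])) u
  · right
    have hrb : β = r := mul_left_cancel₀ hb (by linear_combination h2)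
    subst hrb
    have ha : a = 0 := by
      by_contra h
      exact hne.symm (mul_left_cancel₀ h (by linear_combination h1))
    subst ha
    rw [zero_smul, zero_add]
    exact Submodule.span_singleton_smul_eq (Ne.isUnit hb) w'

theorem commute_of_scalar {g : X} {t : F} (hg : R g = t • 1) (k : X) : Commute g k :=
  injective hR (by rw [map_mul, map_mul, hg, smul_mul_assoc, one_mul, mul_smul_comm, mul_one])

theorem ns_of_not_commute {a b : X} (hab : ¬ Commute a b) : NS R a :=
  fun _ ht => hab (commute_of_scalar hR ht b)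

/-- The eigenlines of non-scalar elements. -/
abbrev poles (R : X →* Module.End F U) : Set (Submodule F U) :=
  {L | ∃ u : U, u ≠ 0 ∧ L = Submodule.span F {u} ∧ ∃ g : X, NS R g ∧ ∃ t : F, R g u = t • u}

theorem map_span_singleton_R (g : X) (u : U) :
    (Submodule.span F {u}).map (R g) = Submodule.span F {R g u} := by
  rw [Submodule.map_span, Set.image_singleton]

theorem fixed_line_iff (g : X) (u : U) (hu : u ≠ 0) :
    (Submodule.span F {u}).map (R g) = Submodule.span F {u} ↔ ∃ t : F, R g u = t • u := by
  rw [map_span_singleton_R hR]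
  constructor
  · intro h
    obtain ⟨t, ht⟩ := Submodule.mem_span_singleton.mp
      (h ▸ Submodule.mem_span_singleton_self _ : R g u ∈ Submodule.span F {u})
    exact ⟨t, ht.symm⟩
  · rintro ⟨t, ht⟩
    rw [ht]
    refine Submodule.span_singleton_smul_eq (Ne.isUnit ?_) u
    rintro rfl
    rw [zero_smul] at ht
    have := congrArg (R g⁻¹) ht
    rw [map_zero, ← Module.End.mul_apply, ← map_mul, inv_mul_cancel, map_one,
      Module.End.one_apply] at this
    exact hu this

/-- **The plane lemma.** -/
theorem plane (hdim : finrank F U = 2) {a b : X} (ha : orderOf a = 3) (hb : orderOf b = 3)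
    (hab : ¬ Commute a b) (hgen : Subgroup.closure {a, b} = ⊤) {τ : F}
    (hτ : R (a * b) + R (a * b)⁻¹ = τ • 1) :
    ∃ n, (n = 2 ∨ n = 3 ∨ n = 5) ∧ (a * b) ^ (2 * n) = 1 ∧ 2 ∣ Nat.card X := by
  classical
  have hnsa : NS R a := ns_of_not_commute hR hab
  have hnsb : NS R b := ns_of_not_commute hR fun h => hab h.symm
  have hnconj : ∀ {g : X} (_ : NS R g) (k : X), NS R (k * g * k⁻¹) := by
    intro g hg k t ht
    refine hg t ?_
    have hc := (commute_of_scalar hR ht k).eq
    have : g = k * g * k⁻¹ := by
      have h' : k * g * k⁻¹ * k = k * g := by group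
      rw [h'] at hc
      exact mul_left_cancel hc
    rwa [this]
  let Ω := poles R
  have hfin : Finite Ω := by
    choose u w s t _ _ hu hw hall using fun g : {g : X // NS R g} => two_eigvec hR hdim g.2
    refine Set.Finite.to_subtype (Set.Finite.subset (Set.finite_iUnion fun g : {g : X // NS R g} =>
      Set.toFinite {Submodule.span F {u g}, Submodule.span F {w g}}) ?_)
    rintro L ⟨v, hv, rfl, g, hg, r, hr⟩
    exact Set.mem_iUnion.mpr ⟨⟨g, hg⟩, hall ⟨g, hg⟩ v r hv hr⟩
  let act : MulAction X Ω :=
  { smul := fun k L => ⟨(L : Submodule F U).map (R k), by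
      obtain ⟨v, hv, hL, g, hg, r, hr⟩ := L.2
      refine ⟨R k v, ?_, by rw [hL, map_span_singleton_R hR], k * g * k⁻¹, hnconj hg k, r, ?_⟩
      · intro h
        have := congrArg (R k⁻¹) h
        rw [map_zero, ← Module.End.mul_apply, ← map_mul, inv_mul_cancel, map_one,
          Module.End.one_apply] at this
        exact hv this
      · rw [← Module.End.mul_apply, ← map_mul, inv_mul_cancel_right, map_mul, Module.End.mul_apply,
          hr, map_smul]⟩
    one_smul := fun L => Subtype.ext (by
      show (L : Submodule F U).map (R 1) = L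
      rw [map_one]; exact Submodule.map_id _)
    mul_smul := fun k l L => Subtype.ext (by
      show (L : Submodule F U).map (R (k * l)) = ((L : Submodule F U).map (R l)).map (R k)
      rw [map_mul]; exact Submodule.map_comp _ _ _) }
  let P : X →* Equiv.Perm Ω := @toPermHom X Ω _ act
  have hP : ∀ (g : X) (L : Ω), P g L = L ↔ (L : Submodule F U).map (R g) = L := fun g L =>
    ⟨fun h => congrArg Subtype.val h, fun h => Subtype.ext h⟩
  have hPu : ∀ (g : X) (L : Ω) (u : U), u ≠ 0 → (L : Submodule F U) = Submodule.span F {u} →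
      (P g L = L ↔ ∃ t : F, R g u = t • u) := fun g L u hu hL => by
    rw [hP, hL, fixed_line_iff hR g u hu]
  have hscal : ∀ g : X, ¬ NS R g → P g = 1 := by
    intro g hg
    obtain ⟨t, ht⟩ : ∃ t : F, R g = t • 1 := by simpa [NS] using hg
    refine Equiv.ext fun L => ?_
    obtain ⟨v, hv, hL, -⟩ := L.2
    exact (hPu g L v hv hL).mpr ⟨t, by rw [ht]; rfl⟩
  have hker : ∀ g : X, P g = 1 → ¬ NS R g := by
    intro g hg1 hg
    obtain ⟨u, w, s, t, hind, -, -, -, hall⟩ := two_eigvec hR hdim hg
    have hline : ∀ k : X, NS R k →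
        (∃ r : F, R k u = r • u) ∧ ∃ r : F, R k w = r • w := by
      intro k hk
      obtain ⟨u', w', s', t', hind', hst', hu', hw', -⟩ := two_eigvec hR hdim hk
      have hu0 : u' ≠ 0 := by simpa using hind'.ne_zero 0
      have hw0 : w' ≠ 0 := by simpa using hind'.ne_zero 1
      obtain ⟨r1, e1⟩ := (hPu g ⟨_, u', hu0, rfl, k, hk, s', hu'⟩ u' hu0 rfl).mp (by rw [hg1]; rfl)
      obtain ⟨r2, e2⟩ := (hPu g ⟨_, w', hw0, rfl, k, hk, t', hw'⟩ w' hw0 rfl).mp (by rw [hg1]; rfl)
      have hnot : Submodule.span F {u'} ≠ Submodule.span F {w'} := by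
        intro h
        obtain ⟨c, hc⟩ := Submodule.mem_span_singleton.mp
          (h ▸ Submodule.mem_span_singleton_self u' : u' ∈ Submodule.span F {w'})
        exact one_ne_zero (LinearIndependent.pair_iff.mp hind' 1 (-c) (by
          rw [one_smul, neg_smul, hc, add_neg_cancel])).1
      have fromspan : ∀ {x z : U} {r : F}, Submodule.span F {x} = Submodule.span F {z} →
          R k x = r • x → R k z = r • z := by
        intro x z r h hx
        obtain ⟨c, hc⟩ := Submodule.mem_span_singleton.mp
          (h.symm ▸ Submodule.mem_span_singleton_self z : z ∈ Submodule.span F {x})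
        rw [← hc, map_smul, hx, smul_comm]
      rcases hall u' r1 hu0 e1 with h1 | h1 <;> rcases hall w' r2 hw0 e2 with h2 | h2
      · exact absurd (h1.trans h2.symm) hnot
      · exact ⟨⟨s', fromspan h1 hu'⟩, ⟨t', fromspan h2 hw'⟩⟩
      · exact ⟨⟨t', fromspan h2 hw'⟩, ⟨s', fromspan h1 hu'⟩⟩
      · exact absurd (h1.trans h2.symm) hnot
    obtain ⟨⟨r, hr⟩, -⟩ := hline a hnsa
    obtain ⟨⟨r', hr'⟩, -⟩ := hline b hnsb
    refine hab (eq_of_agree hR (show u ≠ 0 by simpa using hind.ne_zero 0) ?_)
    rw [map_mul, map_mul, Module.End.mul_apply, Module.End.mul_apply, hr, hr', map_smul, map_smul,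
      hr, hr', smul_comm]
  let Q := P.range
  let π : X →* Q := P.rangeRestrict
  have hπ : Function.Surjective π := P.rangeRestrict_surjective
  have hπ1 : ∀ g : X, π g = 1 ↔ ¬ NS R g := fun g =>
    ⟨fun h => hker g (congrArg Subtype.val h), fun h => Subtype.ext (hscal g h)⟩
  have hord : ∀ g : X, orderOf g = 3 → NS R g → orderOf (π g) = 3 := by
    intro g h3 hg
    have := Fact.mk Nat.prime_three
    exact orderOf_eq_prime (by rw [← map_pow, ← h3, pow_orderOf_eq_one, map_one])
      fun h => (hπ1 g).mp h hg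
  have hπab : ¬ Commute (π a) (π b) := by
    intro h
    set k := a * b * a⁻¹ * b⁻¹ with hk
    obtain ⟨t, ht⟩ : ∃ t : F, R k = t • 1 := by
      have : π k = 1 := by
        simp only [hk, map_mul, map_inv]
        rw [h.eq]; group
      simpa [NS] using (hπ1 k).mp this
    have hc := commute_of_scalar hR ht
    have hconj : a * b * a⁻¹ = k * b := by rw [hk]; group
    have h3 : k ^ 3 = 1 := by
      have : (k * b) ^ 3 = 1 := by
        rw [← hconj, conj_pow, ← hb, pow_orderOf_eq_one, mul_one, mul_inv_cancel]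
      rwa [(hc b).mul_pow, ← hb, pow_orderOf_eq_one, mul_one, hb] at this
    obtain ⟨i, hi⟩ := mem_zpowers_of_commute hR (hc a).symm
      (show orderOf k ∣ orderOf a by rw [ha]; exact orderOf_dvd_of_pow_eq_one h3)
    apply hab
    by_cases hk1 : k = 1
    · rw [hk1, one_mul] at hconj
      exact mul_inv_eq_iff_eq_mul.mp hconj
    · have hcyc : a ∈ Subgroup.zpowers k := by
        have h1 : Subgroup.zpowers k ≤ Subgroup.zpowers a := Subgroup.zpowers_le.mpr ⟨i, hi⟩
        have := Fact.mk Nat.prime_three
        rw [Subgroup.eq_of_le_of_card_ge h1 (by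
          rw [Nat.card_zpowers, Nat.card_zpowers, ha, orderOf_eq_prime h3 hk1])]
        exact Subgroup.mem_zpowers a
      obtain ⟨j, hj⟩ := hcyc
      exact hj ▸ ((hc b).zpow_left j)
  have hgen' : Subgroup.closure {π a, π b} = ⊤ := by
    rw [← Set.image_pair π, ← MonoidHom.map_closure, hgen, Subgroup.map_top_of_surjective π hπ]
  have hfix : ∀ q : Q, q ≠ 1 → Nat.card (fixedBy Ω q) = 2 := by
    intro q hq
    obtain ⟨g, rfl⟩ := hπ q
    have hg : NS R g := not_not.mp fun h => hq ((hπ1 g).mpr h)
    obtain ⟨u, w, s, t, hind, -, hu, hw, hall⟩ := two_eigvec hR hdim hg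
    have hu0 : u ≠ 0 := by simpa using hind.ne_zero 0
    have hw0 : w ≠ 0 := by simpa using hind.ne_zero 1
    let L1 : Ω := ⟨_, u, hu0, rfl, g, hg, s, hu⟩
    let L2 : Ω := ⟨_, w, hw0, rfl, g, hg, t, hw⟩
    have hne : L1 ≠ L2 := by
      intro h
      have h' : Submodule.span F {u} = Submodule.span F {w} := congrArg Subtype.val h
      obtain ⟨c, hc⟩ := Submodule.mem_span_singleton.mp
        (h' ▸ Submodule.mem_span_singleton_self u : u ∈ Submodule.span F {w})
      exact one_ne_zero (LinearIndependent.pair_iff.mp hind 1 (-c) (by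
        rw [one_smul, neg_smul, hc, add_neg_cancel])).1
    have heq : fixedBy Ω (π g) = {L1, L2} := by
      ext L
      constructor
      · intro hL
        obtain ⟨v, hv, hLv, -⟩ := L.2
        obtain ⟨r, hr⟩ := (hPu g L v hv hLv).mp hL
        exact (hall v r hv hr).imp (fun h => Subtype.ext (hLv.trans h))
          (fun h => Subtype.ext (hLv.trans h))
      · rintro (rfl | rfl)
        exacts [(hPu g L1 u hu0 rfl).mpr ⟨s, hu⟩, (hPu g L2 w hw0 rfl).mpr ⟨t, hw⟩]
    rw [heq, Nat.card_coe_set_eq, Set.ncard_pair hne]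
  have hstab : ∀ L : Ω, 2 ≤ Nat.card (stabilizer Q L) ∧ IsCyclic (stabilizer Q L) := by
    intro L
    obtain ⟨v, hv, hLv, g, hg, r, hr⟩ := L.2
    have hmem : π g ∈ stabilizer Q L := (hPu g L v hv hLv).mpr ⟨r, hr⟩
    refine ⟨?_, ?_⟩
    · have : Nontrivial (stabilizer Q L) :=
        ⟨⟨π g, hmem⟩, 1, fun h => (hπ1 g).mp (congrArg Subtype.val h) hg⟩
      exact Finite.one_lt_card
    · let S : Subgroup X := (stabilizer Q L).comap π
      have : IsCyclic S := isCyclic_of_comm hR S (commutative_of_eigvec hR hv fun k hk =>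
        (hPu k L v hv hLv).mp hk)
      exact isCyclic_of_surjective (π.subgroupComap (stabilizer Q L))
        (π.subgroupComap_surjective_of_surjective _ hπ)
  obtain ⟨hcases, h2⟩ := Counting.orderOf_mul_cases hfix hstab (hord a ha hnsa) (hord b hb hnsb)
    hπab hgen'
  refine ⟨orderOf (π a * π b), hcases, ?_, h2.trans (Subgroup.card_dvd_of_surjective π hπ)⟩
  set n := orderOf (π a * π b)
  obtain ⟨lam, hlam⟩ : ∃ t : F, R ((a * b) ^ n) = t • 1 := by
    have : π ((a * b) ^ n) = 1 := by rw [map_pow, map_mul, pow_orderOf_eq_one]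
    simpa [NS] using (hπ1 _).mp this
  have hnsab : NS R (a * b) := by
    intro t ht
    have h := (commute_of_scalar hR ht a).eq
    rw [mul_assoc] at h
    exact hab (mul_left_cancel h).symm
  obtain ⟨u, w, s, t, hind, hst, hu, hw, -⟩ := two_eigvec hR hdim hnsab
  have hu0 : u ≠ 0 := by simpa using hind.ne_zero 0
  have hw0 : w ≠ 0 := by simpa using hind.ne_zero 1
  have hroot : ∀ (x : U) (r : F), x ≠ 0 → R (a * b) x = r • x → r * (τ - r) = 1 := by
    intro x r hx hr
    have h1 : R (a * b)⁻¹ x = (τ - r) • x := by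
      have := LinearMap.congr_fun hτ x
      rw [LinearMap.add_apply, hr, LinearMap.smul_apply, Module.End.one_apply] at this
      rw [sub_smul, ← this, add_sub_cancel_left]
    have := congrArg (R (a * b)) h1
    rw [← Module.End.mul_apply, ← map_mul, mul_inv_cancel, map_one, Module.End.one_apply, map_smul,
      hr, smul_smul] at this
    rw [mul_comm]
    exact (smul_left_injective F hx (by simp only [one_smul]; exact this)).symm
  have hpow : ∀ (x : U) (r : F), R (a * b) x = r • x → ∀ k : ℕ, R ((a * b) ^ k) x = r ^ k • x := by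
    intro x r hr k
    induction k with
    | zero => simp
    | succ k ih => rw [pow_succ, map_mul, Module.End.mul_apply, hr, map_smul, ih, smul_smul,
        pow_succ, mul_comm]
  have hsn : s ^ n = lam := by
    have := hpow u s hu n
    rw [hlam] at this
    exact (smul_left_injective F hu0 this).symm
  have htn : t ^ n = lam := by
    have := hpow w t hw n
    rw [hlam] at this
    exact (smul_left_injective F hw0 this).symm
  have hst1 : s * t = 1 := by
    have h1 := hroot u s hu0 hu
    have h2 := hroot w t hw0 hw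
    refine (mul_left_cancel₀ (sub_ne_zero.mpr hst) ?_)
    linear_combination s * h2 - t * h1
  refine eq_one_of_fixed hR hu0 ?_
  rw [hpow u s hu, mul_comm, pow_mul, sq]
  nth_rw 2 [hsn.trans htn.symm]
  rw [← mul_pow, hst1, one_pow, one_smul]

end Cfsg.Agent.Lib.FpfLinear.Plane
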