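import Cfsg.Agent.Lib.FpfLinear.NonSolvable
import Cfsg.Agent.Lib.FpfLinear.Linearize
import Mathlib.NumberTheory.Divisors
import Mathlib.FieldTheory.Finite.Basic

/-!
# Regular linear groups over prime fields with a normal `SL(2,5)`
-/

set_option linter.unusedSectionVars false

namespace Cfsg.Agent.Lib.FpfLinear.Regular

open Cfsg.Agent.Lib.FpfLinear.Basic Cfsg.Agent.Lib.FpfLinear.Model Cfsg.Agent.Lib.FpfLinear.Hom

/-- The arithmetic of the exceptional nearfields. -/
theorem arith {Q m i p k : ℕ} (hp : p.Prime) (hQ : Q = p ^ k) (hi : i = 1 ∨ i = 2)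
    (hm : Nat.Coprime m 30) (hd : m ∣ Q - 1) (he : Q * Q - 1 = 120 * i * m) :
    i = 1 ∧ ((Q = 11 ∧ m = 1) ∨ (Q = 29 ∧ m = 7) ∨ (Q = 59 ∧ m = 29)) := by
  have hm0 : 0 < m := Nat.pos_of_ne_zero fun h => by subst h; norm_num at hm
  obtain ⟨t, ht⟩ := hd
  have hfac : (Q + 1) * (Q - 1) = 120 * i * m := by rw [← he]; exact (Nat.sq_sub_sq Q 1 ▸ by ring_nf)
  have hdiv : Q + 1 ∈ Nat.divisors 240 := by
    refine Nat.mem_divisors.mpr ⟨?_, by norm_num⟩
    have h1 : (Q + 1) * t = 120 * i := by
      apply Nat.eq_of_mul_eq_mul_right hm0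
      rw [← hfac, ht]; ring
    rcases hi with rfl | rfl
    · exact Dvd.intro (t * 2) (by rw [← mul_assoc, h1]; rfl)
    · exact Dvd.intro t h1
  have h119 : Q ≠ 119 := by
    intro h
    have hk : k ≠ 0 := fun h0 => by rw [hQ, h0, pow_zero] at h; omega
    have hpd : p ∣ 7 * 17 := by rw [show (7 * 17 : ℕ) = p ^ k by omega]; exact dvd_pow_self p hk
    rcases (Nat.Prime.dvd_mul hp).mp hpd with h' | h' <;>
      have := (Nat.prime_dvd_prime_iff_eq hp (by norm_num)).mp h' <;> subst this
    · have : (17 : ℕ) ∣ 7 := Nat.Prime.dvd_of_dvd_pow (n := k) (by norm_num) (by rw [← hQ, h]; norm_num)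
      norm_num at this
    · have : (7 : ℕ) ∣ 17 := Nat.Prime.dvd_of_dvd_pow (n := k) (by norm_num) (by rw [← hQ, h]; norm_num)
      norm_num at this
  have hQ2 : 2 ≤ Q := by
    by_contra h
    interval_cases Q <;> simp at he <;> omega
  have hcases : ∀ d ∈ Nat.divisors 240, d - 1 = 2 ∨ d - 1 = 3 ∨ d - 1 = 4 ∨ d - 1 = 5 ∨ d - 1 = 7 ∨
      d - 1 = 9 ∨ d - 1 = 11 ∨ d - 1 = 14 ∨ d - 1 = 15 ∨ d - 1 = 19 ∨ d - 1 = 23 ∨ d - 1 = 29 ∨
      d - 1 = 39 ∨ d - 1 = 47 ∨ d - 1 = 59 ∨ d - 1 = 79 ∨ d - 1 = 119 ∨ d - 1 = 239 ∨ d ≤ 2 := by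
    decide +kernel
  have hQval := hcases _ hdiv
  simp only [Nat.add_sub_cancel] at hQval
  clear ht hdiv hcases hQ
  rcases hi with rfl | rfl <;>
  rcases hQval with h | h | h | h | h | h | h | h | h | h | h | h | h | h | h | h | h | h | h <;>
  first
    | (exfalso; omega)
    | (subst h; first
        | exact ⟨rfl, Or.inl ⟨rfl, by omega⟩⟩
        | exact ⟨rfl, Or.inr (Or.inl ⟨rfl, by omega⟩)⟩
        | exact ⟨rfl, Or.inr (Or.inr ⟨rfl, by omega⟩)⟩
        | (exfalso
           first
            | exact absurd (show m = 3 by omega) (fun h => by subst h; norm_num at hm)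
            | exact absurd (show m = 26 by omega) (fun h => by subst h; norm_num at hm)
            | exact absurd (show m = 52 by omega) (fun h => by subst h; norm_num at hm)
            | exact absurd (show m = 118 by omega) (fun h => by subst h; norm_num at hm)
            | exact absurd (show m = 238 by omega) (fun h => by subst h; norm_num at hm)
            | exact absurd (show m = 476 by omega) (fun h => by subst h; norm_num at hm)))

/-- The order of a group acting freely on a set divides the number of points. -/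
theorem card_dvd_of_free {G X : Type*} [Group G] [MulAction G X]
    (h : ∀ b : X, MulAction.stabilizer G b = ⊥) : Nat.card G ∣ Nat.card X := by
  rw [Nat.card_congr (MulAction.selfEquivOrbitsQuotientProd h), Nat.card_prod]
  exact dvd_mul_left _ _

/-- Two anticommuting roots of minus one. -/
theorem quaternion_pair : ∃ i j : Quad, qdet i = 1 ∧ qdet j = 1 ∧ sq2 i = qN ∧ sq2 j = qN ∧
    qm j i = qm qN (qm i j) :=
  ⟨(0, 4, 1, 0), (2, 0, 0, 3), by decide +kernel, by decide +kernel, by decide +kernel,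
    by decide +kernel, by decide +kernel⟩

variable {p : ℕ} [Fact p.Prime] {V : Type*} [AddCommGroup V] [Module (ZMod p) V] [Finite V]
  [Nontrivial V] {G : Type*} [Group G] [Finite G] {r : G →* Module.End (ZMod p) V}

/-- A normal `SL(2,5)` splits the module into halves preserved by its centraliser. -/
theorem exists_half (hr : IsLinFPF r) (f : SL →* G) (hf : Function.Injective f) (h2 : p ≠ 2)
    (M : Subgroup G) (hcomm : ∀ s ∈ f.range, ∀ m ∈ M, s * m = m * s) :
    ∃ Q k : ℕ, Q = p ^ k ∧ Nat.card V = Q * Q ∧ Nat.card M ∣ Q - 1 := by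
  obtain ⟨qi, qj, hi, hj, hi2, hj2, hij⟩ := quaternion_pair
  set I := r (f (ofQuad qi hi))
  set J := r (f (ofQuad qj hj))
  have hN : r (f sN) = -1 := by
    refine eq_neg_one hr (fun h => ?_) ?_
    · have := congrArg quad (hf (h.trans (map_one f).symm))
      rw [sN, quad_ofQuad, quad_one] at this
      exact absurd this (by decide)
    · rw [← map_pow, NonSolvable.sN_sq, map_one]
  have hII : I * I = -1 := by
    rw [← hN, ← map_mul, ← map_mul]
    congr 2
    apply quad_injective
    rw [quad_mul, quad_ofQuad, sN, quad_ofQuad]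
    exact hi2
  have hJJ : J * J = -1 := by
    rw [← hN, ← map_mul, ← map_mul]
    congr 2
    apply quad_injective
    rw [quad_mul, quad_ofQuad, sN, quad_ofQuad]
    exact hj2
  have hJI : J * I = -(I * J) := by
    rw [← neg_one_mul (I * J), ← hN, ← map_mul, ← map_mul, ← map_mul, ← map_mul, ← map_mul,
      ← map_mul]
    congr 2
    apply quad_injective
    rw [quad_mul, quad_mul, quad_mul, quad_ofQuad, quad_ofQuad, sN, quad_ofQuad]
    exact hij
  obtain ⟨α, β, hαβ⟩ := ZMod.sq_add_sq p (-1 : ZMod p)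
  have h2' : (2 : ZMod p) ≠ 0 := by
    intro h
    have h' : ((2 : ℕ) : ZMod p) = 0 := by exact_mod_cast h
    rw [ZMod.natCast_eq_zero_iff] at h' <;>
      exact h2 ((Nat.prime_dvd_prime_iff_eq Fact.out Nat.prime_two).mp h')
  set e := α • I + β • J with he
  have hee : e * e = 1 := by
    have e1 : e * e = (α * α) • (I * I) + (α * β) • (I * J + J * I) + (β * β) • (J * J) := by
      rw [he]
      simp only [add_mul, mul_add, smul_mul_smul_comm]
      module
    rw [e1, hII, hJJ, hJI, add_neg_cancel, smul_zero, add_zero, ← add_smul,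
      show α * α + β * β = -1 by rw [← hαβ]; ring, neg_one_smul, neg_neg]
  have hKe : I * J * e = -(e * (I * J)) := by
    rw [he]
    simp only [add_mul, mul_add, smul_mul_assoc, mul_smul_comm, neg_add_rev, ← smul_neg]
    have a1 : I * J * I = -(I * (I * J)) := by rw [mul_assoc, hJI, mul_neg]
    have a2 : I * J * J = -(J * (I * J)) := by
      rw [← mul_assoc J I J, hJI, neg_mul, neg_neg]
    rw [a1, a2, add_comm]
  set W := LinearMap.ker (e - 1)
  set W' := LinearMap.ker (e + 1)
  have hW : ∀ w, w ∈ W ↔ e w = w := fun w => by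
    rw [LinearMap.mem_ker, LinearMap.sub_apply, Module.End.one_apply, sub_eq_zero]
  have hW' : ∀ w, w ∈ W' ↔ e w = -w := fun w => by
    rw [LinearMap.mem_ker, LinearMap.add_apply, Module.End.one_apply, add_eq_zero_iff_eq_neg]
  have hee' : ∀ v, e (e v) = v := fun v => by rw [← Module.End.mul_apply, hee]; rfl
  have hcompl : IsCompl W W' := by
    refine IsCompl.of_le ?_ ?_
    · intro w hw
      obtain ⟨h1, h2w⟩ := Submodule.mem_inf.mp hw
      rw [hW] at h1
      rw [hW', h1] at h2w
      rw [Submodule.mem_bot]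
      have : (2 : ZMod p) • w = 0 := by rw [two_smul]; exact add_eq_zero_iff_eq_neg.mpr h2w
      exact (smul_eq_zero.mp this).resolve_left h2'
    · intro v _
      rw [Submodule.mem_sup]
      refine ⟨(2 : ZMod p)⁻¹ • (v + e v), ?_, (2 : ZMod p)⁻¹ • (v - e v), ?_, ?_⟩
      · rw [hW, map_smul, map_add, hee', add_comm]
      · rw [hW', map_smul, map_sub, hee', ← smul_neg, neg_sub]
      · rw [← smul_add, show v + e v + (v - e v) = (2 : ZMod p) • v by rw [two_smul]; abel,
          smul_smul, inv_mul_cancel₀ h2', one_smul]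
  have hKK : ∀ v, (I * J) ((I * J) v) = -v := fun v => by
    have h : I * J * (I * J) = -1 := by
      rw [mul_assoc, ← mul_assoc J I J, hJI, neg_mul, mul_assoc, hJJ, mul_neg_one, neg_neg, hII]
    rw [← Module.End.mul_apply, h]; rfl
  have hKe' : ∀ v, (I * J) (e v) = -(e ((I * J) v)) := fun v => by
    rw [← Module.End.mul_apply, hKe]; rfl
  have hswap : W ≃ W' :=
  { toFun := fun w => ⟨(I * J) w, (hW' _).mpr (by
      have := hKe' w
      rw [(hW w).mp w.2] at this
      rw [eq_comm, neg_eq_iff_eq_neg]; exact this)⟩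
    invFun := fun w => ⟨-((I * J) w), (hW _).mpr (by
      have := hKe' w
      rw [(hW' w).mp w.2, map_neg] at this
      rw [map_neg]; exact this.symm)⟩
    left_inv := fun w => Subtype.ext (by show -((I * J) ((I * J) w)) = w; rw [hKK, neg_neg])
    right_inv := fun w => Subtype.ext (by
      show (I * J) (-((I * J) w)) = w
      rw [map_neg, hKK, neg_neg]) }
  have hcard : Nat.card V = Nat.card W * Nat.card W := by
    rw [← Nat.card_congr (Submodule.prodEquivOfIsCompl W W' hcompl).toEquiv, Nat.card_prod,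
      Nat.card_congr hswap]
  have hMW : ∀ m : M, ∀ w ∈ W, r m w ∈ W := by
    intro m w hw
    rw [hW] at hw ⊢
    have hc : ∀ g : SL, r (f g) (r m w) = r m (r (f g) w) := fun g => by
      rw [← Module.End.mul_apply, ← map_mul, hcomm _ ⟨g, rfl⟩ m m.2, map_mul]; rfl
    rw [he, LinearMap.add_apply, LinearMap.smul_apply, LinearMap.smul_apply] at hw ⊢
    rw [hc, hc, ← map_smul (r (m : G)) α, ← map_smul (r (m : G)) β, ← map_add, hw]
  let act : MulAction M {w : W // w ≠ 0} :=
  { smul := fun m w => ⟨⟨r m w.1, hMW m _ w.1.2⟩, fun h => w.2 (by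
      have h1 : r m (w.1 : V) = 0 := congrArg Subtype.val h
      have := congrArg (r (m : G)⁻¹) h1
      rw [map_zero, ← Module.End.mul_apply, ← map_mul, inv_mul_cancel, map_one,
        Module.End.one_apply] at this
      exact Subtype.ext this)⟩
    one_smul := fun w => Subtype.ext (Subtype.ext (by
      show r ((1 : M) : G) (w.1 : V) = w.1
      rw [OneMemClass.coe_one, map_one]; rfl))
    mul_smul := fun m n w => Subtype.ext (Subtype.ext (by
      show r ((m * n : M) : G) (w.1 : V) = r m (r n (w.1 : V))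
      rw [Subgroup.coe_mul, map_mul]; rfl)) }
  have hfree : ∀ w : {w : W // w ≠ 0}, @MulAction.stabilizer M _ _ act w = ⊥ := by
    intro w
    rw [Subgroup.eq_bot_iff_forall]
    intro m hm
    have h : r m (w.1 : V) = w.1 := congrArg (fun u : {w : W // w ≠ 0} => (u.1 : V)) hm
    exact Subtype.ext (eq_one_of_fixed hr (fun h0 => w.2 (Subtype.ext h0)) h)
  have hdvd := @card_dvd_of_free M _ _ act hfree
  have hW1 : Nat.card {w : W // w ≠ 0} = Nat.card W - 1 := by
    classical
    have := Fintype.ofFinite W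
    rw [Nat.card_eq_fintype_card, Fintype.card_subtype_compl, Fintype.card_subtype_eq,
      Nat.card_eq_fintype_card]
  refine ⟨Nat.card W, Module.finrank (ZMod p) W, ?_, hcard, hW1 ▸ hdvd⟩
  rw [Module.natCard_eq_pow_finrank (K := ZMod p), Nat.card_zmod]

end Cfsg.Agent.Lib.FpfLinear.Regular
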