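import Cfsg.Agent.Lib.FpfLinear.Regular
import Cfsg.Agent.Lib.FpfLinear.Linearize
import Cfsg.Agent.Lib.Spectrum.HuppertField
import Mathlib.RingTheory.LittleWedderburn
import Mathlib.FieldTheory.Fixed

/-!
# Abelian normal subgroups and irreducibility in regular linear groups
-/

set_option linter.unusedSectionVars false

namespace Cfsg.Agent.Lib.FpfLinear.RegularAbelian

open Cfsg.Agent.Lib.FpfLinear.Basic Cfsg.Agent.Lib.Spectrum.Huppert

/-- The counting bound. -/
theorem arith {q s k : ℕ} (hk : 2 ^ k ≤ q) (hs2 : 2 ≤ s) (hsq : s * s ≤ q)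
    (h : q - 1 ≤ (s - 1) * k) : False := by
  obtain ⟨t, rfl⟩ : ∃ t, s = t + 2 := ⟨s - 2, by omega⟩
  have h1 : (t + 1) * (t + 3) ≤ (t + 1) * k := by
    calc (t + 1) * (t + 3) = (t + 2) * (t + 2) - 1 := by
          rw [eq_comm, Nat.sub_eq_iff_eq_add (by nlinarith)]; ring
      _ ≤ q - 1 := Nat.sub_le_sub_right hsq 1
      _ ≤ _ := h
  have h2 : t + 3 ≤ k := Nat.le_of_mul_le_mul_left h1 (by omega)
  have h3 : (t + 1) * k + 2 * k ≤ k * k := by nlinarith
  have h4 : k * k + 2 ≤ 2 ^ k + 2 * k := by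
    have : ∀ j, (j + 2) * (j + 2) + 2 ≤ 2 ^ (j + 2) + 2 * (j + 2) := by
      intro j
      induction j with
      | zero => norm_num
      | succ j ih =>
        have := Nat.lt_two_pow_self (n := j + 1)
        rw [pow_succ]
        ring_nf at ih this ⊢
        omega
    obtain ⟨j, rfl⟩ : ∃ j, k = j + 2 := ⟨k - 2, by omega⟩
    exact this j
  have : (t + 2 - 1) * k = (t + 1) * k := by rw [show t + 2 - 1 = t + 1 by omega]
  omega

/-- A field with `p ^ j` elements has at most `j` automorphisms. -/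
theorem card_ringAut_le (p : ℕ) [Fact p.Prime] (R : Type*) [Field R] [Finite R] [CharP R p] :
    ∃ j, Nat.card R = p ^ j ∧ Nat.card (R ≃+* R) ≤ j := by
  classical
  have := Fintype.ofFinite R
  let _ : Algebra (ZMod p) R := ZMod.algebra R p
  refine ⟨Module.finrank (ZMod p) R, ?_, ?_⟩
  · rw [Module.natCard_eq_pow_finrank (K := ZMod p), Nat.card_zmod]
  refine (Nat.card_le_card_of_injective (fun τ : R ≃+* R => AlgEquiv.ofRingEquiv (f := τ)
    (fun c => RingHom.congr_fun (Subsingleton.elim ((τ : R →+* R).comp (algebraMap (ZMod p) R))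
      (algebraMap (ZMod p) R)) c)) ?_).trans ?_
  · intro τ τ' h
    exact RingEquiv.ext fun y => congrArg (fun f : R ≃ₐ[ZMod p] R => f y) h
  · rw [Nat.card_eq_fintype_card]
    exact AlgEquiv.card_le

variable {p : ℕ} [Fact p.Prime] {V : Type*} [AddCommGroup V] [Module (ZMod p) V] [Finite V]
  (H : Subgroup (V ≃ₗ[ZMod p] V))
  (hreg : ∀ v w : V, v ≠ 0 → w ≠ 0 → ∃! h : H, (h : V ≃ₗ[ZMod p] V) v = w)

theorem finite_group : Finite H :=
  Finite.of_injective (fun h : H => ((h : V ≃ₗ[ZMod p] V) : V → V))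
    fun _ _ e => Subtype.ext (LinearEquiv.ext (congrFun e))

/-- The action on the module. -/
def rep : H →* Module.End (ZMod p) V := endo H.subtype

theorem rep_apply (h : H) (v : V) : rep H h v = (h : V ≃ₗ[ZMod p] V) v := rfl

include hreg

theorem htrans : ∀ v w : V, v ≠ 0 → w ≠ 0 → ∃ g : H, H.subtype g v = w := fun v w hv hw =>
  (hreg v w hv hw).exists

theorem isLinFPF : IsLinFPF (rep H) := by
  intro g hg v hv
  by_contra hv0
  exact hg ((hreg v v hv0 hv0).unique hv rfl)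

theorem hasLinFPF [Nontrivial V] : Linearize.HasLinFPF H := by
  have := finite_group H
  let ψ : H →* MulAut (Multiplicative V) :=
  { toFun := fun h => AddEquiv.toMultiplicative (h : V ≃ₗ[ZMod p] V).toAddEquiv
    map_one' := MulEquiv.ext fun _ => rfl
    map_mul' := fun _ _ => MulEquiv.ext fun _ => rfl }
  exact Linearize.of_abelian ψ fun g hg v hv => isLinFPF H hreg g hg (Multiplicative.toAdd v) hv

theorem card_eq [Nontrivial V] : Nat.card H = Nat.card V - 1 := by
  classical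
  obtain ⟨v₀, hv₀⟩ := exists_ne (0 : V)
  have e : H ≃ {w : V // w ≠ 0} := Equiv.ofBijective
    (fun h => ⟨(h : V ≃ₗ[ZMod p] V) v₀, fun e => hv₀ ((h : V ≃ₗ[ZMod p] V).map_eq_zero_iff.mp e)⟩)
    ⟨fun a b e => (hreg v₀ _ hv₀ (fun h0 => hv₀ ((b : V ≃ₗ[ZMod p] V).map_eq_zero_iff.mp h0))).unique
        (congrArg Subtype.val e) rfl,
      fun w => (hreg v₀ w.1 hv₀ w.2).exists.imp fun h e => Subtype.ext e⟩
  have := Fintype.ofFinite V
  rw [Nat.card_congr e, Nat.card_eq_fintype_card, Fintype.card_subtype_compl,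
    Fintype.card_subtype_eq, Nat.card_eq_fintype_card]

/-- Abelian subgroups are cyclic. -/
theorem isCyclic_abelian [Nontrivial V] (A : Subgroup H) (hA : IsMulCommutative A) :
    IsCyclic A := by
  have := finite_group H
  obtain ⟨n, hn, R, hR⟩ := hasLinFPF H hreg
  have : Nonempty (Fin n) := ⟨⟨0, hn⟩⟩
  exact isCyclic_of_comm hR A hA

/-- A minimal invariant subspace below a given one. -/
theorem exists_minimal_invariant (A : Subgroup H) {W₀ : Submodule (ZMod p) V} (h0 : W₀ ≠ ⊥)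
    (hinv : ∀ a ∈ A, ∀ v ∈ W₀, rep H a v ∈ W₀) :
    ∃ W : Submodule (ZMod p) V, W ≤ W₀ ∧ W ≠ ⊥ ∧ (∀ a ∈ A, ∀ v ∈ W, rep H a v ∈ W) ∧
      ∀ W' : Submodule (ZMod p) V, W' ≤ W → (∀ a ∈ A, ∀ v ∈ W', rep H a v ∈ W') →
        W' = ⊥ ∨ W' = W := by
  obtain ⟨W, ⟨hle, hne, hW⟩, hmin⟩ := wellFounded_lt.has_min
    {W : Submodule (ZMod p) V | W ≤ W₀ ∧ W ≠ ⊥ ∧ ∀ a ∈ A, ∀ v ∈ W, rep H a v ∈ W}
    ⟨W₀, le_rfl, h0, hinv⟩
  refine ⟨W, hle, hne, hW, fun W' h' hi => ?_⟩
  by_contra! hc
  exact hmin W' ⟨h'.trans hle, hc.1, hi⟩ (lt_of_le_of_ne h' hc.2)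

/-- The order of a subgroup divides the number of nonzero vectors of an invariant subspace. -/
theorem card_dvd (A : Subgroup H) (W : Submodule (ZMod p) V)
    (hW : ∀ a ∈ A, ∀ v ∈ W, rep H a v ∈ W) :
    Nat.card A ∣ p ^ Module.finrank (ZMod p) W - 1 := by
  classical
  have hinj : ∀ (g : H) (v : V), rep H g v = 0 → v = 0 := fun g v h =>
    (g : V ≃ₗ[ZMod p] V).map_eq_zero_iff.mp h
  let act : MulAction A {w : W // w ≠ 0} :=
  { smul := fun a w => ⟨⟨rep H a w.1, hW a a.2 _ w.1.2⟩, fun h =>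
      w.2 (Subtype.ext (hinj a _ (congrArg Subtype.val h)))⟩
    one_smul := fun _ => Subtype.ext (Subtype.ext rfl)
    mul_smul := fun _ _ _ => Subtype.ext (Subtype.ext rfl) }
  have hfree : ∀ w : {w : W // w ≠ 0}, @MulAction.stabilizer A _ _ act w = ⊥ := by
    intro w
    rw [Subgroup.eq_bot_iff_forall]
    intro a ha
    have h : rep H a (w.1 : V) = w.1 := congrArg (fun u : {w : W // w ≠ 0} => (u.1 : V)) ha
    exact Subtype.ext (eq_one_of_fixed (isLinFPF H hreg) (fun h0 => w.2 (Subtype.ext h0)) h)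
  have h := @Regular.card_dvd_of_free A _ _ act hfree
  have hc : Nat.card {w : W // w ≠ 0} = p ^ Module.finrank (ZMod p) W - 1 := by
    have := Fintype.ofFinite W
    rw [Nat.card_eq_fintype_card, Fintype.card_subtype_compl, Fintype.card_subtype_eq,
      ← Nat.card_eq_fintype_card, Module.natCard_eq_pow_finrank (K := ZMod p), Nat.card_zmod]
  exact hc ▸ h

/-- A maximal abelian normal subgroup is not self-centralising when it is reducible. -/
theorem centralizer_ne [Nontrivial V] (A : Subgroup H) (hAn : A.Normal)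
    (hAc : IsMulCommutative A)
    (hred : ∃ W : Submodule (ZMod p) V, W ≠ ⊥ ∧ W ≠ ⊤ ∧ ∀ a ∈ A, ∀ v ∈ W, rep H a v ∈ W) :
    Subgroup.centralizer (A : Set H) ≠ A := by
  classical
  intro hCA
  have := finite_group H
  have hcomm : ∀ a ∈ A, ∀ b ∈ A, a * b = b * a := fun a ha b hb =>
    congrArg Subtype.val (hAc.is_comm.comm ⟨a, ha⟩ ⟨b, hb⟩)
  have hFin : Finite (Module.End (ZMod p) V) :=
    Finite.of_injective (fun f => (f : V → V)) DFunLike.coe_injective
  set R := spanRing H.subtype A with hRdef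
  have hkill : ∀ r ∈ R, ∀ v : V, v ≠ 0 → r v = 0 → r = 0 := fun r hr v hv h0 =>
    eq_zero_of_apply_eq_zero H.subtype (htrans H hreg) hAn hcomm hr hv h0
  let _ : CommRing R :=
    { (inferInstance : Ring R) with
      mul_comm := fun r s => Subtype.ext (spanRing_comm H.subtype hcomm r.2 s.2).eq }
  have : NoZeroDivisors R := ⟨fun {r s} h => by
    by_contra! hne
    obtain ⟨v, hv⟩ : ∃ v, (s : Module.End (ZMod p) V) v ≠ 0 := by
      by_contra! h0
      exact hne.2 (Subtype.ext (LinearMap.ext h0))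
    exact hne.1 (Subtype.ext (hkill r r.2 _ hv (LinearMap.congr_fun (congrArg Subtype.val h) v)))⟩
  have : IsDomain R := NoZeroDivisors.to_isDomain R
  let _ : Fintype R := Fintype.ofFinite R
  let _ : Field R := Fintype.fieldOfDomain R
  -- the reducing subspace shows that the field is small
  obtain ⟨W, hW0, hW1, hWA⟩ := hred
  have hWR : ∀ r ∈ R, ∀ w ∈ W, (r : Module.End (ZMod p) V) w ∈ W := by
    intro r hr
    induction hr using Subring.closure_induction with
    | mem x hx => obtain ⟨a, ha, rfl⟩ := hx; exact hWA a ha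
    | zero => intro w _; exact W.zero_mem
    | one => intro w hw; exact hw
    | add x y _ _ hx hy => intro w hw; exact W.add_mem (hx w hw) (hy w hw)
    | neg x _ hx => intro w hw; exact W.neg_mem (hx w hw)
    | mul x y _ _ hx hy => intro w hw; exact hx _ (hy w hw)
  obtain ⟨w₀, hw₀, hw₀0⟩ := Submodule.exists_mem_ne_zero_of_ne_bot hW0
  obtain ⟨u, hu⟩ : ∃ u : V, u ∉ W := by
    by_contra! h
    exact hW1 ((Submodule.eq_top_iff').mpr h)
  have hsq : Nat.card R * Nat.card R ≤ Nat.card V := by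
    rw [← Nat.card_prod]
    refine Nat.card_le_card_of_injective
      (fun st : R × R => (st.1 : Module.End (ZMod p) V) w₀ + (st.2 : Module.End (ZMod p) V) u) ?_
    rintro ⟨s, t⟩ ⟨s', t'⟩ h
    have h' : ((t - t' : R) : Module.End (ZMod p) V) u = ((s' - s : R) : Module.End (ZMod p) V) w₀ := by
      simp only [AddSubgroupClass.coe_sub, LinearMap.sub_apply] at h ⊢
      rw [sub_eq_sub_iff_add_eq_add, add_comm _ ((s : Module.End (ZMod p) V) w₀)]
      exact h
    by_cases ht : t = t'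
    · subst ht
      rw [sub_self, ZeroMemClass.coe_zero, LinearMap.zero_apply, eq_comm] at h'
      have := hkill _ (s' - s).2 w₀ hw₀0 h'
      rw [ZeroMemClass.coe_eq_zero, sub_eq_zero] at this
      rw [this]
    · exfalso
      apply hu
      have hc := mul_inv_cancel₀ (sub_ne_zero.mpr ht)
      have : u = (((t - t')⁻¹ * (s' - s) : R) : Module.End (ZMod p) V) w₀ := by
        rw [Subring.coe_mul, Module.End.mul_apply, ← h', ← Module.End.mul_apply, ← Subring.coe_mul,
          mul_comm, hc]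
        rfl
      rw [this]
      exact hWR _ (SetLike.coe_mem _) w₀ hw₀
  -- the semilinear action
  let γ : H → R → R := fun g r => ⟨endo H.subtype g * r * endo H.subtype g⁻¹,
    conj_mem_spanRing H.subtype hAn g r.2⟩
  have hγ : ∀ (g : H) (r : R), ((γ g r : R) : Module.End (ZMod p) V) =
      endo H.subtype g * r * endo H.subtype g⁻¹ := fun _ _ => rfl
  have hcancel : ∀ g : H, endo H.subtype g⁻¹ * endo H.subtype g = 1 := fun g => by
    rw [← map_mul, inv_mul_cancel, map_one]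
  let χ : H →* (R ≃+* R) :=
  { toFun := fun g =>
      { toFun := γ g
        invFun := γ g⁻¹
        left_inv := fun r => Subtype.ext (by
          rw [hγ, hγ, inv_inv]
          simp only [← mul_assoc, hcancel, one_mul]
          rw [mul_assoc, hcancel, mul_one])
        right_inv := fun r => Subtype.ext (by
          have h := hcancel g⁻¹
          rw [inv_inv] at h
          rw [hγ, hγ, inv_inv]
          simp only [← mul_assoc, h, one_mul]
          rw [mul_assoc, h, mul_one])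
        map_mul' := fun r s => Subtype.ext (by
          rw [Subring.coe_mul, hγ, hγ, hγ, Subring.coe_mul]
          simp only [mul_assoc]
          rw [← mul_assoc (endo H.subtype g⁻¹) (endo H.subtype g), hcancel, one_mul])
        map_add' := fun r s => Subtype.ext (by
          rw [Subring.coe_add, hγ, hγ, hγ, Subring.coe_add, mul_add, add_mul]) }
    map_one' := RingEquiv.ext fun r => Subtype.ext (by
      show endo H.subtype 1 * (r : Module.End (ZMod p) V) * endo H.subtype 1⁻¹ = r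
      rw [inv_one, map_one, one_mul, mul_one])
    map_mul' := fun g k => RingEquiv.ext fun r => Subtype.ext (by
      show endo H.subtype (g * k) * (r : Module.End (ZMod p) V) * endo H.subtype (g * k)⁻¹ =
        endo H.subtype g * (endo H.subtype k * r * endo H.subtype k⁻¹) * endo H.subtype g⁻¹
      rw [mul_inv_rev, map_mul, map_mul]; simp only [mul_assoc]) }
  have hker : χ.ker ≤ A := by
    intro g hg
    rw [← hCA, Subgroup.mem_centralizer_iff]
    intro a ha
    have h := congrArg (fun r : R => (r : Module.End (ZMod p) V))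
      (RingEquiv.congr_fun hg (⟨endo H.subtype a, endo_mem_spanRing H.subtype ha⟩ : R))
    have h' : endo H.subtype g * endo H.subtype a * endo H.subtype g⁻¹ = endo H.subtype a := h
    rw [← map_mul, ← map_mul] at h'
    exact (mul_inv_eq_iff_eq_mul.mp (endo_injective H.subtype H.subtype_injective h')).symm
  have hchar : CharP R p := by
    refine (CharP.charP_iff_prime_eq_zero Fact.out).mpr (Subtype.ext (LinearMap.ext fun v => ?_))
    show ((p : R) : Module.End (ZMod p) V) v = 0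
    rw [SubringClass.coe_natCast, Module.End.natCast_apply, ← Nat.cast_smul_eq_nsmul (ZMod p),
      ZMod.natCast_self, zero_smul]
  obtain ⟨j, hRcard, haut⟩ := card_ringAut_le p R
  have : Finite (R ≃+* R) := Finite.of_injective _ DFunLike.coe_injective
  have hA1 : Nat.card A ≤ Nat.card R - 1 := by
    have hc : Nat.card {r : R // r ≠ 0} = Nat.card R - 1 := by
      rw [Nat.card_eq_fintype_card, Fintype.card_subtype_compl, Fintype.card_subtype_eq,
        Nat.card_eq_fintype_card]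
    rw [← hc]
    obtain ⟨v, hv⟩ := exists_ne (0 : V)
    refine Nat.card_le_card_of_injective (fun a => ⟨⟨endo H.subtype a,
      endo_mem_spanRing H.subtype a.2⟩, fun h => ?_⟩) ?_
    · exact hv (((a : H) : V ≃ₗ[ZMod p] V).map_eq_zero_iff.mp
        (LinearMap.congr_fun (congrArg Subtype.val h) v))
    · intro a b h
      exact Subtype.ext (endo_injective H.subtype H.subtype_injective
        (congrArg (fun z : {r : R // r ≠ 0} => ((z.1 : R) : Module.End (ZMod p) V)) h))
  have hidx : χ.ker.index ≤ j := by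
    rw [Subgroup.index_ker]
    exact (Subgroup.card_le_card_group _).trans haut
  have hR2 : 2 ≤ Nat.card R := Finite.one_lt_card
  have hfr : j ≤ Module.finrank (ZMod p) V := by
    have h1 : Nat.card R ≤ Nat.card V := le_trans (Nat.le_mul_of_pos_left _ (by omega)) hsq
    rw [hRcard, Module.natCard_eq_pow_finrank (K := ZMod p) (V := V), Nat.card_zmod] at h1
    exact (Nat.pow_le_pow_iff_right (Fact.out : p.Prime).one_lt).mp h1
  refine arith (q := Nat.card V) (s := Nat.card R) (k := Module.finrank (ZMod p) V) ?_ hR2 hsq ?_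
  · rw [Module.natCard_eq_pow_finrank (K := ZMod p) (V := V), Nat.card_zmod]
    exact Nat.pow_le_pow_left (Fact.out : p.Prime).two_le _
  · calc Nat.card V - 1 = Nat.card χ.ker * χ.ker.index := by
          rw [χ.ker.card_mul_index, card_eq H hreg]
      _ ≤ Nat.card A * Module.finrank (ZMod p) V :=
          Nat.mul_le_mul (Subgroup.card_le_of_le hker) (hidx.trans hfr)
      _ ≤ _ := Nat.mul_le_mul_right _ hA1

/-- A nonabelian normal subgroup acts irreducibly. -/
theorem irreducible [Nontrivial V] (N : Subgroup H) (hNn : N.Normal)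
    (hNna : ¬ IsMulCommutative N) (W₀ : Submodule (ZMod p) V)
    (hW₀ : ∀ n ∈ N, ∀ v ∈ W₀, rep H n v ∈ W₀) : W₀ = ⊥ ∨ W₀ = ⊤ := by
  classical
  rw [or_iff_not_imp_left]
  intro h0
  by_contra h1
  obtain ⟨W, hle, hne, hW, hmin⟩ := exists_minimal_invariant H hreg N h0 hW₀
  obtain ⟨z, hz⟩ : ∃ z : V, z ∉ W := by
    by_contra! h
    exact h1 (eq_top_iff.mpr fun v _ => hle (h v))
  have hcancel : ∀ (g : H) (v : V), rep H g⁻¹ (rep H g v) = v := fun g v => by
    rw [← Module.End.mul_apply, ← map_mul, inv_mul_cancel, map_one]; rfl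
  have hcancel' : ∀ (g : H) (v : V), rep H g (rep H g⁻¹ v) = v := fun g v => by
    simpa using hcancel g⁻¹ v
  -- translates of `W` are minimal invariant subspaces
  have hTinv : ∀ g : H, ∀ n ∈ N, ∀ v ∈ W.map (rep H g), rep H n v ∈ W.map (rep H g) := by
    rintro g n hn v ⟨w, hw, rfl⟩
    refine ⟨rep H (g⁻¹ * n * g) w, hW _ (by simpa using hNn.conj_mem n hn g⁻¹) w hw, ?_⟩
    rw [← Module.End.mul_apply, ← map_mul, show g * (g⁻¹ * n * g) = n * g by group, map_mul]
    rfl
  have hTmin : ∀ g : H, ∀ X : Submodule (ZMod p) V, X ≤ W.map (rep H g) →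
      (∀ n ∈ N, ∀ v ∈ X, rep H n v ∈ X) → X ≠ ⊥ → X = W.map (rep H g) := by
    intro g X hX hinv hX0
    have hY : X.map (rep H g⁻¹) ≤ W := by
      rintro v ⟨x, hx, rfl⟩
      obtain ⟨w, hw, rfl⟩ := hX hx
      rw [hcancel]; exact hw
    rcases hmin _ hY (by
      rintro n hn v ⟨x, hx, rfl⟩
      refine ⟨rep H (g * n * g⁻¹) x, hinv _ (hNn.conj_mem n hn g) x hx, ?_⟩
      rw [← Module.End.mul_apply, ← map_mul, show g⁻¹ * (g * n * g⁻¹) = n * g⁻¹ by group, map_mul]
      rfl) with h | h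
    · exfalso
      obtain ⟨x, hx, hx0⟩ := Submodule.exists_mem_ne_zero_of_ne_bot hX0
      have hm : rep H g⁻¹ x ∈ X.map (rep H g⁻¹) := ⟨x, hx, rfl⟩
      rw [h, Submodule.mem_bot] at hm
      exact hx0 (by rw [← hcancel' g x, hm, map_zero])
    · refine le_antisymm hX ?_
      rintro v ⟨w, hw, rfl⟩
      obtain ⟨x, hx, rfl⟩ := h.symm ▸ hw
      rwa [hcancel']
  obtain ⟨w₁, hw₁, hw₁0⟩ := Submodule.exists_mem_ne_zero_of_ne_bot hne
  have hz0 : z ≠ 0 := fun h => hz (h ▸ W.zero_mem)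
  have hex : ∀ v : V, v ≠ 0 → ∃ g : H, v ∈ W.map (rep H g) := fun v hv => by
    obtain ⟨g, hg⟩ := (hreg w₁ v hw₁0 hv).exists
    exact ⟨g, w₁, hw₁, hg⟩
  have hWeq : W.map (rep H 1) = W := by rw [map_one]; exact Submodule.map_id _
  obtain ⟨g₂, hz₂⟩ := hex z hz0
  set W₂ := W.map (rep H g₂)
  have hW₂0 : W₂ ≠ ⊥ := fun h => hz0 (by rw [h] at hz₂; exact (Submodule.mem_bot _).mp hz₂)
  have hdisj : W ⊓ W₂ = ⊥ := by
    by_contra h
    have e1 := hTmin 1 (W ⊓ W₂) (hWeq.symm ▸ inf_le_left) (fun n hn v hv =>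
      ⟨hW n hn v hv.1, hTinv g₂ n hn v hv.2⟩) h
    have e2 := hTmin g₂ (W ⊓ W₂) inf_le_right (fun n hn v hv =>
      ⟨hW n hn v hv.1, hTinv g₂ n hn v hv.2⟩) h
    exact hz (hWeq ▸ e1 ▸ e2.symm ▸ hz₂)
  -- the commuting ring on `W`
  let E : Subring (Module.End (ZMod p) W) :=
  { carrier := {φ | ∀ (n : H) (hn : n ∈ N) (w : W), ((φ ⟨rep H n w, hW n hn w w.2⟩ : W) : V) =
      rep H n (φ w)}
    one_mem' := fun n hn w => rfl
    zero_mem' := fun n hn w => by simp
    add_mem' := fun {φ ψ} hφ hψ n hn w => by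
      simp only [LinearMap.add_apply, Submodule.coe_add, hφ n hn w, hψ n hn w, map_add]
    neg_mem' := fun {φ} hφ n hn w => by
      simp only [LinearMap.neg_apply, Submodule.coe_neg, hφ n hn w, map_neg]
    mul_mem' := fun {φ ψ} hφ hψ n hn w => by
      rw [Module.End.mul_apply, Module.End.mul_apply, ← hφ n hn (ψ w)]
      congr 2
      exact Subtype.ext (hψ n hn w) }
  have hWnt : Nontrivial W := Submodule.nontrivial_iff_ne_bot.mpr hne
  have hEinj : ∀ φ : E, ∀ w : W, w ≠ 0 → (φ : Module.End (ZMod p) W) w = 0 → φ = 0 := by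
    intro φ w hw0 hφw
    set X := (LinearMap.ker (φ : Module.End (ZMod p) W)).map W.subtype
    have hXinv : ∀ n ∈ N, ∀ v ∈ X, rep H n v ∈ X := by
      rintro n hn v ⟨u, hu, rfl⟩
      refine ⟨⟨rep H n u, hW n hn u u.2⟩, ?_, rfl⟩
      rw [SetLike.mem_coe, LinearMap.mem_ker]
      refine Subtype.ext ?_
      rw [φ.2 n hn u, LinearMap.mem_ker.mp hu]
      simp
    rcases hmin X (Submodule.map_subtype_le _ _) hXinv with h | h
    · exfalso
      have hm : (w : V) ∈ X := ⟨w, hφw, rfl⟩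
      rw [h, Submodule.mem_bot] at hm
      exact hw0 (Subtype.ext hm)
    · refine Subtype.ext (LinearMap.ext fun u => ?_)
      obtain ⟨u', hu', he⟩ := (h.symm ▸ u.2 : (u : V) ∈ X)
      rw [show u = u' from Subtype.ext he.symm]
      exact hu'
  have hFinE : Finite (Module.End (ZMod p) W) :=
    Finite.of_injective (fun f => (f : W → W)) DFunLike.coe_injective
  have : Nontrivial (Module.End (ZMod p) W) := by
    obtain ⟨w, hw⟩ := exists_ne (0 : W)
    exact ⟨⟨1, 0, fun h => hw (by simpa using LinearMap.congr_fun h w)⟩⟩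
  have : NoZeroDivisors E := ⟨fun {φ ψ} h => by
    by_contra! hne'
    obtain ⟨v, hv⟩ : ∃ v, (ψ : Module.End (ZMod p) W) v ≠ 0 := by
      by_contra! h0
      exact hne'.2 (Subtype.ext (LinearMap.ext h0))
    exact hne'.1 (hEinj φ _ hv (LinearMap.congr_fun (congrArg Subtype.val h) v))⟩
  have : IsDomain E := NoZeroDivisors.to_isDomain E
  have hEcomm := (Finite.isDomain_to_isField E).mul_comm
  -- the graph of an isomorphism between `W` and `W₂`
  have hgraph : ∀ w : W, w ≠ 0 → ∀ u : W₂, u ≠ 0 → ∃ θ : W →ₗ[ZMod p] W₂, Function.Bijective θ ∧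
      θ w = u ∧ ∀ (n : H) (hn : n ∈ N) (x : W),
        ((θ ⟨rep H n x, hW n hn x x.2⟩ : W₂) : V) = rep H n (θ x) := by
    intro w hw u hu
    have hv0 : (w : V) + u ≠ 0 := by
      intro h
      have hmem : (w : V) ∈ W ⊓ W₂ := ⟨w.2, by
        rw [eq_neg_of_add_eq_zero_left h]; exact W₂.neg_mem u.2⟩
      rw [hdisj, Submodule.mem_bot] at hmem
      exact hw (Subtype.ext hmem)
    obtain ⟨g₃, hv₃⟩ := hex _ hv0
    set W₃ := W.map (rep H g₃)
    have hsum : W₃ ≤ W ⊔ W₂ := by
      have hi : ∀ n ∈ N, ∀ v ∈ W₃ ⊓ (W ⊔ W₂), rep H n v ∈ W₃ ⊓ (W ⊔ W₂) := by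
        rintro n hn v ⟨hv1, hv2⟩
        refine ⟨hTinv g₃ n hn v hv1, ?_⟩
        obtain ⟨a, ha, b, hb, rfl⟩ := Submodule.mem_sup.mp hv2
        rw [map_add]
        exact Submodule.add_mem_sup (hW n hn a ha) (hTinv g₂ n hn b hb)
      have hm : (w : V) + u ∈ W₃ ⊓ (W ⊔ W₂) := ⟨hv₃, Submodule.add_mem_sup w.2 u.2⟩
      exact (hTmin g₃ _ inf_le_left hi fun h => hv0 ((Submodule.mem_bot _).mp (h ▸ hm))).ge.trans
        inf_le_right
    let μ : W × W₂ →ₗ[ZMod p] V := W.subtype.coprod W₂.subtype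
    have hμ : ∀ x : W × W₂, μ x = (x.1 : V) + x.2 := fun x => rfl
    let Γ : Submodule (ZMod p) (W × W₂) := W₃.comap μ
    let π₁ : Γ →ₗ[ZMod p] W := (LinearMap.fst (ZMod p) W W₂).comp Γ.subtype
    let π₂ : Γ →ₗ[ZMod p] W₂ := (LinearMap.snd (ZMod p) W W₂).comp Γ.subtype
    have hact : ∀ (n : H) (hn : n ∈ N) (x : Γ), ((⟨rep H n x.1.1, hW n hn _ x.1.1.2⟩ : W),
        (⟨rep H n x.1.2, hTinv g₂ n hn _ x.1.2.2⟩ : W₂)) ∈ Γ := by
      intro n hn x
      show rep H n (x.1.1 : V) + rep H n (x.1.2 : V) ∈ W₃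
      rw [← map_add]
      exact hTinv g₃ n hn _ x.2
    have hmeet : ∀ Y : Submodule (ZMod p) V, (∀ n ∈ N, ∀ v ∈ Y, rep H n v ∈ Y) →
        (¬ (w : V) + u ∈ Y) → W₃ ⊓ Y = ⊥ := by
      intro Y hY hnot
      by_contra h
      have e := hTmin g₃ (W₃ ⊓ Y) inf_le_left (fun n hn v hv =>
        ⟨hTinv g₃ n hn v hv.1, hY n hn v hv.2⟩) h
      exact hnot (e.ge hv₃).2
    have hne₂ : ¬ (w : V) + u ∈ W := fun h => hu (Subtype.ext (by
      have hmem : (u : V) ∈ W ⊓ W₂ := ⟨by simpa using W.sub_mem h w.2, u.2⟩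
      rw [hdisj, Submodule.mem_bot] at hmem
      exact hmem))
    have hne₁ : ¬ (w : V) + u ∈ W₂ := fun h => hw (Subtype.ext (by
      have hmem : (w : V) ∈ W ⊓ W₂ := ⟨w.2, by simpa using W₂.sub_mem h u.2⟩
      rw [hdisj, Submodule.mem_bot] at hmem
      exact hmem))
    have inj₁ : Function.Injective π₁ := by
      rw [← LinearMap.ker_eq_bot, LinearMap.ker_eq_bot']
      intro x hx
      have h1 : x.1.1 = 0 := hx
      have hm : (x.1.2 : V) ∈ W₃ ⊓ W₂ := ⟨by
        have h : μ x.1 ∈ W₃ := x.2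
        rwa [hμ, h1, ZeroMemClass.coe_zero, zero_add] at h, x.1.2.2⟩
      rw [hmeet W₂ (hTinv g₂) hne₁, Submodule.mem_bot] at hm
      exact Subtype.ext (Prod.ext h1 (Subtype.ext hm))
    have inj₂ : Function.Injective π₂ := by
      rw [← LinearMap.ker_eq_bot, LinearMap.ker_eq_bot']
      intro x hx
      have h2 : x.1.2 = 0 := hx
      have hm : (x.1.1 : V) ∈ W₃ ⊓ W := ⟨by
        have h : μ x.1 ∈ W₃ := x.2
        rwa [hμ, h2, ZeroMemClass.coe_zero, add_zero] at h, x.1.1.2⟩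
      rw [hmeet W hW hne₂, Submodule.mem_bot] at hm
      exact Subtype.ext (Prod.ext (Subtype.ext hm) h2)
    have hx₀ : (w, u) ∈ Γ := hv₃
    have surj₁ : Function.Surjective π₁ := by
      intro a
      have hX := hmin ((LinearMap.range π₁).map W.subtype) (Submodule.map_subtype_le _ _) (by
        rintro n hn v ⟨_, ⟨x, rfl⟩, rfl⟩
        exact ⟨_, ⟨⟨_, hact n hn x⟩, rfl⟩, rfl⟩)
      rcases hX with h | h
      · exfalso
        have hm : (w : V) ∈ (LinearMap.range π₁).map W.subtype := ⟨w, ⟨⟨_, hx₀⟩, rfl⟩, rfl⟩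
        rw [h, Submodule.mem_bot] at hm
        exact hw (Subtype.ext hm)
      · obtain ⟨b, ⟨x, hx⟩, hb⟩ := (h.symm ▸ a.2 : (a : V) ∈ (LinearMap.range π₁).map W.subtype)
        exact ⟨x, hx.trans (Subtype.ext hb)⟩
    have surj₂ : Function.Surjective π₂ := by
      intro a
      have h := hTmin g₂ ((LinearMap.range π₂).map W₂.subtype) (Submodule.map_subtype_le _ _) (by
        rintro n hn v ⟨_, ⟨x, rfl⟩, rfl⟩
        exact ⟨_, ⟨⟨_, hact n hn x⟩, rfl⟩, rfl⟩) (fun h => hu (Subtype.ext (by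
        have hm : (u : V) ∈ (LinearMap.range π₂).map W₂.subtype := ⟨u, ⟨⟨_, hx₀⟩, rfl⟩, rfl⟩
        rw [h, Submodule.mem_bot] at hm
        exact hm)))
      obtain ⟨b, ⟨x, hx⟩, hb⟩ := (h.symm ▸ a.2 : (a : V) ∈ (LinearMap.range π₂).map W₂.subtype)
      exact ⟨x, hx.trans (Subtype.ext hb)⟩
    let e₁ := LinearEquiv.ofBijective π₁ ⟨inj₁, surj₁⟩
    refine ⟨π₂.comp e₁.symm.toLinearMap, Function.Bijective.comp (f := e₁.symm) (g := π₂) ⟨inj₂, surj₂⟩ e₁.symm.bijective,
      ?_, fun n hn x => ?_⟩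
    · have : e₁.symm w = ⟨_, hx₀⟩ := e₁.symm_apply_eq.mpr rfl
      show π₂ (e₁.symm w) = u
      rw [this]; rfl
    · have : e₁.symm ⟨rep H n x, hW n hn x x.2⟩ = ⟨_, hact n hn (e₁.symm x)⟩ := by
        refine e₁.symm_apply_eq.mpr (Subtype.ext ?_)
        show rep H n x = rep H n ((π₁ (e₁.symm x) : W) : V)
        rw [show π₁ (e₁.symm x) = x from e₁.apply_symm_apply x]
      show ((π₂ (e₁.symm ⟨rep H n x, hW n hn x x.2⟩) : W₂) : V) = _
      rw [this]; rfl
  -- transitivity of the commuting ring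
  have hphi : ∀ w w' : W, w ≠ 0 → w' ≠ 0 → ∃ φ : E, (φ : Module.End (ZMod p) W) w = w' := by
    intro w w' hw hw'
    have hz' : (⟨z, hz₂⟩ : W₂) ≠ 0 := fun h => hz0 (congrArg Subtype.val h)
    obtain ⟨θ, hθ, hθw, hθn⟩ := hgraph w hw _ hz'
    obtain ⟨θ', hθ', hθ'w, hθ'n⟩ := hgraph w' hw' _ hz'
    let e' := LinearEquiv.ofBijective θ' hθ'
    refine ⟨⟨e'.symm.toLinearMap.comp θ, fun n hn x => ?_⟩, ?_⟩
    · show ((e'.symm (θ ⟨rep H n x, hW n hn x x.2⟩) : W) : V) = rep H n (e'.symm (θ x) : W)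
      set y := e'.symm (θ x)
      have hy : θ' y = θ x := e'.apply_symm_apply _
      have : e'.symm (θ ⟨rep H n x, hW n hn x x.2⟩) = ⟨rep H n y, hW n hn y y.2⟩ := by
        refine e'.symm_apply_eq.mpr (Subtype.ext ?_)
        show _ = ((θ' _ : W₂) : V)
        rw [hθn n hn x, hθ'n n hn y, hy]
      rw [this]
    · show e'.symm (θ w) = w'
      rw [hθw, ← hθ'w]
      exact e'.symm_apply_apply w'
  apply hNna
  refine ⟨⟨fun a b => Subtype.ext ?_⟩⟩
  obtain ⟨w, hw⟩ := exists_ne (0 : W)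
  have hnz : ∀ n : N, (⟨rep H n w, hW n n.2 w w.2⟩ : W) ≠ 0 := fun n h => hw (Subtype.ext (by
    have h' := congrArg (fun v => rep H (n : H)⁻¹ v) (congrArg Subtype.val h)
    simpa [hcancel] using h'))
  obtain ⟨φa, ea⟩ := hphi w _ hw (hnz a)
  obtain ⟨φb, eb⟩ := hphi w _ hw (hnz b)
  refine eq_of_agree (isLinFPF H hreg) (fun h => hw (Subtype.ext h) : (w : V) ≠ 0) ?_
  have k1 : rep H ((a * b : N) : H) w = (((φb * φa : E) : Module.End (ZMod p) W) w : V) := by
    rw [Subgroup.coe_mul, map_mul, Module.End.mul_apply, Subring.coe_mul, Module.End.mul_apply, ea,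
      φb.2 a a.2 w, eb]
  have k2 : rep H ((b * a : N) : H) w = (((φa * φb : E) : Module.End (ZMod p) W) w : V) := by
    rw [Subgroup.coe_mul, map_mul, Module.End.mul_apply, Subring.coe_mul, Module.End.mul_apply, eb,
      φa.2 b b.2 w, ea]
  rw [Subgroup.coe_mul, Subgroup.coe_mul] at *
  rw [k1, k2, hEcomm φb φa]

end Cfsg.Agent.Lib.FpfLinear.RegularAbelian
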